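import Cfsg.Agent.H14.ThompsonSplit.Frame
import Cfsg.Agent.H13.Split.Transfer

/-!
Frames from few data: rank one subgroups containing the fundamental root groups and representatives
of the fundamental reflections.
-/

set_option autoImplicit false
set_option linter.unusedSectionVars false

namespace Cfsg.Agent.H14.ThompsonSplit

open Cfsg.Agent.H28 Cfsg.Agent.H13.Split Matrix
open Cfsg.Agent.H37 (Tits.Ambient)

/-- The monomial element of the rank one group. -/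
def wSL (F : Type*) [Field F] : SpecialLinearGroup (Fin 2) F :=
  ⟨!![0, 1; -1, 0], by simp [det_fin_two_of]⟩

theorem lo_eq_conj {F : Type*} [Field F] (t : F) :
    loSL t = wSL F * upSL (-t) * (wSL F)⁻¹ := by
  refine eq_mul_inv_of_mul_eq (Subtype.ext ?_)
  show (loSL t).1 * (wSL F).1 = (wSL F).1 * (upSL (-t)).1
  ext i j
  fin_cases i <;> fin_cases j <;> simp [loSL, upSL, wSL, mul_apply, Fin.sum_univ_two]

theorem wSL_inv (F : Type*) [Field F] : (wSL F)⁻¹ = wSL F * diSL (-1) := by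
  refine inv_eq_of_mul_eq_one_right (Subtype.ext ?_)
  show (wSL F).1 * ((wSL F).1 * (diSL (-1)).1) = 1
  ext i j
  fin_cases i <;> fin_cases j <;> simp [diSL, wSL, mul_apply, Fin.sum_univ_two]

theorem lo_big {F : Type*} [Field F] (t : Fˣ) :
    loSL (t : F) = upSL ((t⁻¹ : Fˣ) : F) * diSL (-t⁻¹) * wSL F * upSL ((t⁻¹ : Fˣ) : F) := by
  refine Subtype.ext ?_
  show (loSL (t : F)).1 =
    (upSL ((t⁻¹ : Fˣ) : F)).1 * (diSL (-t⁻¹)).1 * (wSL F).1 * (upSL ((t⁻¹ : Fˣ) : F)).1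
  ext i j
  fin_cases i <;> fin_cases j <;> simp [loSL, upSL, diSL, wSL, mul_apply, Fin.sum_univ_two]

/-- The data from which a frame is built. -/
structure Pinned {G W : Type*} [Group G] [Group W] (A : Tits.Ambient G W) (w₀ : W)
    (F : Type*) [Field F] (ι : Type*) [Fintype ι] [DecidableEq ι] where
  H_comm : ∀ a ∈ A.H, ∀ b ∈ A.H, a * b = b * a
  s : ι → W
  s_mem : ∀ i, s i ∈ A.S
  s_surj : ∀ r ∈ A.S, ∃ i, s i = r
  φ : ι → SpecialLinearGroup (Fin 2) F →* G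
  up : ∀ i t, φ i (upSL t) ∈ A.Uw (s i)
  up_surj : ∀ i, ∀ x ∈ A.Uw (s i), ∃ t, φ i (upSL t) = x
  up_inj : ∀ i t, φ i (upSL t) = 1 → t = 0
  rep : ∀ i, ∃ k ∈ A.H, A.n (s i) = k * φ i (wSL F)
  lo_opp : ∀ i t, (A.n w₀)⁻¹ * φ i (loSL t) * A.n w₀ ∈ A.Uw (w₀ * s i * w₀)
  di_mem : ∀ i l, φ i (diSL l) ∈ A.H
  χ : ι → ↥A.H →* Fˣ
  conj : ∀ i (k : ↥A.H) a, (k : G) * φ i a * (k : G)⁻¹ = φ i (scaleSL (χ i k) a)
  C : ι → ι → ℤ
  pair : ∀ i j l, χ i ⟨φ j (diSL l), di_mem j l⟩ = l ^ C i j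
  diag : ∀ i, C i i = 2
  col : ∀ j, ∑ i ∈ Finset.univ.erase j, (C i j).natAbs ≤ 3
  conn : ∀ N : Finset ι, N.Nonempty → N ≠ Finset.univ → ∃ j ∈ N, ∃ i, i ∉ N ∧ C i j ≠ 0

namespace Pinned

variable {G W : Type*} [Group G] [Group W] [Finite G] {A : Tits.Ambient G W} {p : ℕ} [Fact p.Prime]
  {w₀ : W} {F : Type*} [Field F] {ι : Type*} [Fintype ι] [DecidableEq ι]
  (P : Pinned A w₀ F ι) (hA : Hyp A p) (hw₀ : A.Uw w₀ = A.U)
include P

theorem lo_conj (i : ι) : ∃ c : Fˣ, ∀ t,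
    A.n (P.s i) * P.φ i (upSL t) * (A.n (P.s i))⁻¹ = P.φ i (loSL ((c : F) * t)) := by
  obtain ⟨k, hk, e⟩ := P.rep i
  refine ⟨-(P.χ i ⟨k, hk⟩)⁻¹, fun t => ?_⟩
  have h1 : P.φ i (wSL F) * P.φ i (upSL t) * (P.φ i (wSL F))⁻¹ = P.φ i (loSL (-t)) := by
    rw [← map_inv, ← map_mul, ← map_mul, lo_eq_conj, neg_neg]
  rw [e, show k * P.φ i (wSL F) * P.φ i (upSL t) * (k * P.φ i (wSL F))⁻¹ =
    k * (P.φ i (wSL F) * P.φ i (upSL t) * (P.φ i (wSL F))⁻¹) * k⁻¹ by group, h1]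
  refine (P.conj i ⟨k, hk⟩ _).trans ?_
  congr 1
  refine Subtype.ext ?_
  ext a b
  fin_cases a <;> fin_cases b <;> simp [scaleSL, loSL]

/-- The subgroup generated by `U` and the rank one subgroups. -/
def E : Subgroup G := Subgroup.closure (↑A.U ∪ ⋃ i, Set.range (P.φ i))

theorem U_le : A.U ≤ P.E := fun _ hu => Subgroup.subset_closure (Or.inl hu)

theorem φ_mem (i : ι) (a : SpecialLinearGroup (Fin 2) F) : P.φ i a ∈ P.E :=
  Subgroup.subset_closure (Or.inr (Set.mem_iUnion.2 ⟨i, a, rfl⟩))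

theorem H_conj_E {h : G} (hh : h ∈ A.H) {g : G} (hg : g ∈ P.E) : h * g * h⁻¹ ∈ P.E := by
  induction hg using Subgroup.closure_induction with
  | mem x hx =>
    rcases hx with hx | hx
    · exact P.U_le (A.H_conj_U h hh x hx)
    · obtain ⟨i, a, rfl⟩ := Set.mem_iUnion.1 hx
      rw [show h = ((⟨h, hh⟩ : ↥A.H) : G) from rfl, P.conj]
      exact P.φ_mem _ _
  | one => simp
  | mul x y _ _ hx hy =>
    rw [show h * (x * y) * h⁻¹ = (h * x * h⁻¹) * (h * y * h⁻¹) by group]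
    exact mul_mem hx hy
  | inv x _ hx =>
    rw [show h * x⁻¹ * h⁻¹ = (h * x * h⁻¹)⁻¹ by group]
    exact inv_mem hx

theorem exists_H_mul_E (g : G) : ∃ h ∈ A.H, ∃ x ∈ P.E, g = h * x := by
  let K : Subgroup G :=
    { carrier := {g | ∃ h ∈ A.H, ∃ x ∈ P.E, g = h * x}
      one_mem' := ⟨1, one_mem _, 1, one_mem _, (one_mul _).symm⟩
      mul_mem' := by
        rintro _ _ ⟨h, hh, x, hx, rfl⟩ ⟨h', hh', x', hx', rfl⟩
        exact ⟨h * h', mul_mem hh hh', h'⁻¹ * x * h'⁻¹⁻¹ * x',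
          mul_mem (P.H_conj_E (inv_mem hh') hx) hx', by group⟩
      inv_mem' := by
        rintro _ ⟨h, hh, x, hx, rfl⟩
        exact ⟨h⁻¹, inv_mem hh, h * x⁻¹ * h⁻¹, P.H_conj_E hh (inv_mem hx), by group⟩ }
  have hU : ∀ u ∈ A.U, u ∈ K := fun u hu => ⟨1, one_mem _, u, P.U_le hu, (one_mul _).symm⟩
  have hH : ∀ h ∈ A.H, h ∈ K := fun h hh => ⟨h, hh, 1, one_mem _, (mul_one _).symm⟩
  have hn : ∀ w, A.n w ∈ K := by
    intro w
    have hw : w ∈ Subgroup.closure A.S := by rw [A.closure_S]; exact Subgroup.mem_top w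
    induction hw using Subgroup.closure_induction with
    | mem s hs =>
      obtain ⟨i, rfl⟩ := P.s_surj s hs
      obtain ⟨k, hk, e⟩ := P.rep i
      exact ⟨k, hk, _, P.φ_mem _ _, e⟩
    | one => rw [A.n_one]; exact one_mem _
    | mul a b _ _ ha hb =>
      obtain ⟨k, hk, e⟩ := A.n_mul a b
      rw [show A.n (a * b) = k⁻¹ * (A.n a * A.n b) by rw [e]; group]
      exact mul_mem (inv_mem (hH k hk)) (mul_mem ha hb)
    | inv a _ ha =>
      obtain ⟨k, hk, e⟩ := A.n_inv a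
      rw [show A.n a⁻¹ = k⁻¹ * (A.n a)⁻¹ by rw [e]; group]
      exact mul_mem (inv_mem (hH k hk)) (inv_mem ha)
  obtain ⟨u, hu, h, hh, w, v, hv, rfl⟩ := A.exists_eq g
  exact mul_mem (mul_mem (mul_mem (hU u hu) (hH h hh)) (hn w)) (hU v (A.Uw_le w hv))

theorem E_normal : P.E.Normal := by
  refine ⟨fun x hx g => ?_⟩
  obtain ⟨h, hh, y, hy, rfl⟩ := P.exists_H_mul_E g
  rw [show h * y * x * (h * y)⁻¹ = h * (y * x * y⁻¹) * h⁻¹ by group]
  exact P.H_conj_E hh (mul_mem (mul_mem hy hx) (inv_mem hy))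

/-- Every normal subgroup with `U` contains `E`. -/
theorem E_le (N : Subgroup G) [hN : N.Normal] (hU : A.U ≤ N) : P.E ≤ N := by
  refine (Subgroup.closure_le _).2 (Set.union_subset hU (Set.iUnion_subset fun i => ?_))
  rintro _ ⟨a, rfl⟩
  induction a using Cfsg.Agent.Linear.transvection_induction with
  | one => simp
  | htr i' j' hij t =>
    have hup : ∀ t, P.φ i (upSL t) ∈ N := fun t => hU (A.Uw_le _ (P.up i t))
    rcases transvection_eq_up hij t with e | e <;> rw [e]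
    · exact hup t
    · rw [lo_eq_conj, map_mul, map_mul, map_inv]
      exact hN.conj_mem _ (hup _) _
  | hmul a b ha hb => rw [map_mul]; exact mul_mem ha hb

/-- The coroot torus. -/
def H₀ : Subgroup G := Subgroup.closure (Set.range fun q : ι × Fˣ => P.φ q.1 (diSL q.2))

theorem di_mem_H₀ (i : ι) (l : Fˣ) : P.φ i (diSL l) ∈ P.H₀ := Subgroup.subset_closure ⟨(i, l), rfl⟩

theorem H₀_le : P.H₀ ≤ A.H ⊓ P.E := by
  rw [H₀, Subgroup.closure_le]
  rintro _ ⟨⟨i, l⟩, rfl⟩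
  exact ⟨P.di_mem i l, P.φ_mem i _⟩

/-- When enough cosets of the coroot torus cover the torus, they give all of `H ⊓ E`. -/
theorem gen_of_index (N : Subgroup G) [N.Normal] (hU : A.U ≤ N) (S : Finset G)
    (hcov : ∀ k ∈ A.H, ∃ c ∈ S, ∃ h₀ ∈ P.H₀, k = c * h₀) (hS : S.card ≤ N.index) :
    ∀ k ∈ A.H ⊓ P.E, k ∈ P.H₀ := by
  classical
  haveI := P.E_normal
  let f : ↥S → G ⧸ P.E := fun c => (c : G)
  have hf : Function.Surjective f := by
    intro x
    obtain ⟨g, rfl⟩ := QuotientGroup.mk_surjective x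
    obtain ⟨h, hh, y, hy, rfl⟩ := P.exists_H_mul_E g
    obtain ⟨c, hc, h₀, hh₀, rfl⟩ := hcov h hh
    refine ⟨⟨c, hc⟩, (QuotientGroup.eq).2 ?_⟩
    rw [show c⁻¹ * (c * h₀ * y) = h₀ * y by group]
    exact mul_mem (P.H₀_le hh₀).2 hy
  have hidx : N.index ≤ Nat.card (G ⧸ P.E) :=
    Nat.le_of_dvd (Nat.pos_of_ne_zero P.E.index_ne_zero_of_finite)
      (Subgroup.index_dvd_of_le (P.E_le N hU))
  have hbij : Function.Bijective f := by
    refine (Nat.bijective_iff_surjective_and_card f).2 ⟨hf, ?_⟩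
    have h1 := Nat.card_le_card_of_surjective f hf
    have h2 : Nat.card ↥S = S.card := by simp
    omega
  intro k hk
  obtain ⟨c, hc, h₀, hh₀, rfl⟩ := hcov k hk.1
  obtain ⟨c₁, hc₁, h₁, hh₁, e₁⟩ := hcov 1 (one_mem _)
  have hcE : c ∈ P.E := by
    have := mul_mem (Subgroup.mem_inf.1 hk).2 (inv_mem (Subgroup.mem_inf.1 (P.H₀_le hh₀)).2)
    rwa [mul_inv_cancel_right] at this
  have hc₁E : c₁ ∈ P.E := by
    rw [show c₁ = h₁⁻¹ by rw [eq_inv_iff_mul_eq_one, ← e₁]]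
    exact P.E.inv_mem (P.H₀_le hh₁).2
  have : (⟨c, hc⟩ : ↥S) = ⟨c₁, hc₁⟩ := hbij.1 ((QuotientGroup.eq).2 (mul_mem (inv_mem hcE) hc₁E))
  obtain rfl : c = c₁ := congrArg Subtype.val this
  rw [show c = h₁⁻¹ by rw [eq_inv_iff_mul_eq_one, ← e₁]]
  exact mul_mem (inv_mem hh₁) hh₀

include hA hw₀

theorem card_Uw (i : ι) : Nat.card (A.Uw (P.s i)) = Nat.card F := by
  refine (Nat.card_eq_of_bijective (fun t => (⟨_, P.up i t⟩ : ↥(A.Uw (P.s i)))) ⟨?_, ?_⟩).symm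
  · intro a b e
    have e' : P.φ i (upSL a) = P.φ i (upSL b) := congrArg Subtype.val e
    have h : upSL a * (upSL b)⁻¹ = upSL (a - b) := by
      rw [mul_inv_eq_iff_eq_mul]
      refine Subtype.ext ?_
      show (upSL a).1 = (upSL (a - b)).1 * (upSL b).1
      ext r c
      fin_cases r <;> fin_cases c <;> simp [upSL, mul_apply, Fin.sum_univ_two]
    exact sub_eq_zero.1 (P.up_inj i _ (by rw [← h, map_mul, map_inv, e', mul_inv_cancel]))
  · rintro ⟨x, hx⟩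
    obtain ⟨t, ht⟩ := P.up_surj i x hx
    exact ⟨t, Subtype.ext ht⟩

theorem opp_surj (i : ι) : ∀ x ∈ A.Uw (w₀ * P.s i * w₀),
    ∃ t, P.φ i (loSL t) = A.n w₀ * x * (A.n w₀)⁻¹ := by
  obtain ⟨j, hj⟩ := P.s_surj _ (sigma_mem hA hw₀ (P.s_mem i))
  let f : F → ↥(A.Uw (w₀ * P.s i * w₀)) := fun t => ⟨_, P.lo_opp i t⟩
  have hf : Function.Injective f := by
    intro a b e
    have e' : P.φ i (loSL a) = P.φ i (loSL b) := by
      have := congrArg (fun x : ↥(A.Uw (w₀ * P.s i * w₀)) => A.n w₀ * (x : G) * (A.n w₀)⁻¹) e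
      simpa [f, mul_assoc] using this
    rw [lo_eq_conj, lo_eq_conj] at e'
    simp only [map_mul, map_inv, mul_left_inj, mul_right_inj] at e'
    have h : upSL (-a) = upSL (b - a) * upSL (-b) := by
      refine Subtype.ext ?_
      show (upSL (-a)).1 = (upSL (b - a)).1 * (upSL (-b)).1
      ext r c
      fin_cases r <;> fin_cases c <;> simp [upSL, mul_apply, Fin.sum_univ_two] <;> ring
    exact (sub_eq_zero.1 (P.up_inj i _ (by rw [h, map_mul] at e'; exact mul_eq_right.1 e'))).symm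
  have hbij : Function.Bijective f := by
    refine (Nat.bijective_iff_injective_and_card f).2 ⟨hf, ?_⟩
    rw [← hj, P.card_Uw hA hw₀ j]
  intro x hx
  obtain ⟨t, ht⟩ := hbij.2 ⟨x, hx⟩
  refine ⟨t, ?_⟩
  rw [← show (A.n w₀)⁻¹ * P.φ i (loSL t) * A.n w₀ = x from congrArg Subtype.val ht]
  group

/-- The frame. -/
def frame (gen : ∀ k ∈ A.H ⊓ P.E, k ∈ P.H₀) : Frame A w₀ F ι where
  E := P.E
  E_normal := P.E_normal
  U_le := P.U_le
  H_comm := P.H_comm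
  s := P.s
  s_mem := P.s_mem
  s_surj := P.s_surj
  φ := P.φ
  φ_mem := P.φ_mem
  up := P.up
  up_surj := P.up_surj
  lo_conj := P.lo_conj
  lo_opp := P.lo_opp
  opp_surj := P.opp_surj hA hw₀
  di_mem := P.di_mem
  χ := P.χ
  conj := P.conj
  C := P.C
  pair := P.pair
  diag := P.diag
  col := P.col
  conn := P.conn
  gen := gen

end Pinned

end Cfsg.Agent.H14.ThompsonSplit
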