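import Mathlib

/-!
Shifting the torus part of an element `y(e) k x(e')` of a rank one subgroup by conjugation.
-/

set_option autoImplicit false

namespace Cfsg.Agent.H14.ThompsonSplit

open Matrix

variable {F : Type*} [Field F]

/-- A non-scalar two by two matrix takes every value in the corner under conjugation. -/
theorem exists_corner {a e e' : F} (ha : a ≠ 0) (hnc : e ≠ 0 ∨ e' ≠ 0 ∨ a ≠ 1) {μ : F} (hμ : μ ≠ 0) :
    ∃ (A : SpecialLinearGroup (Fin 2) F) (e₂ e₃ : F),
      (A : Matrix (Fin 2) (Fin 2) F) * !![a, a * e'; e * a, e * a * e' + 1] =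
        !![μ, μ * e₃; e₂ * μ, e₂ * μ * e₃ + a / μ] * (A : Matrix (Fin 2) (Fin 2) F) := by
  obtain ⟨p, r, hc⟩ : ∃ p r : F,
      p * (e * a * p + (e * a * e' + 1) * r) - r * (a * p + a * e' * r) ≠ 0 := by
    by_cases he : e = 0
    · by_cases he' : e' = 0
      · refine ⟨1, 1, ?_⟩
        have h1 : a ≠ 1 := by
          rcases hnc with h | h | h
          · exact absurd he h
          · exact absurd he' h
          · exact h
        subst he he'
        intro h
        apply h1
        linear_combination -h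
      · refine ⟨0, 1, ?_⟩
        simp [he, he', ha]
    · refine ⟨1, 0, ?_⟩
      simp [he, ha]
  set P : F := a * p + a * e' * r with hP
  set R : F := e * a * p + (e * a * e' + 1) * r with hR
  set c : F := p * R - r * P with hc'
  let Amat : Matrix (Fin 2) (Fin 2) F := !![(R - μ * r) / c, -((P - μ * p) / c); -r, p]
  have hdet : Amat.det = 1 := by
    simp only [Amat, det_fin_two_of]
    field_simp
    simp only [hc']
    ring
  set w₀ : F := (P - μ * p) / c with hw₀
  set w₁ : F := (R - μ * r) / c with hw₁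
  have hpw : p * w₁ - r * w₀ = 1 := by
    rw [hw₀, hw₁]; field_simp; simp only [hc']; ring
  have hP' : P = μ * p + c * w₀ := by rw [hw₀]; field_simp; ring
  have hR' : R = μ * r + c * w₁ := by rw [hw₁]; field_simp; ring
  set N01 : F := w₁ * (a * w₀ + a * e' * w₁) - w₀ * (e * a * w₀ + (e * a * e' + 1) * w₁) with hN01
  set N11 : F := -r * (a * w₀ + a * e' * w₁) + p * (e * a * w₀ + (e * a * e' + 1) * w₁) with hN11
  have hN00 : w₁ * P - w₀ * R = μ := by
    rw [hP', hR']
    linear_combination μ * hpw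
  have hN10 : -r * P + p * R = c := by rw [hc']; ring
  have hdetN : μ * N11 - c * N01 = a := by
    rw [← hN00, ← hN10, hN01, hN11, hP, hR]
    linear_combination (a * (p * w₁ - r * w₀) + a) * hpw
  refine ⟨⟨Amat, hdet⟩, c / μ, N01 / μ, ?_⟩
  have h11 : c / μ * μ * (N01 / μ) + a / μ = N11 := by
    field_simp
    linear_combination -hdetN
  rw [h11, mul_div_cancel₀ N01 hμ, div_mul_cancel₀ c hμ]
  show Amat * _ = _ * Amat
  ext i j
  fin_cases i <;> fin_cases j <;>
    simp only [Amat, mul_apply, Fin.sum_univ_two, of_apply, cons_val', cons_val_zero, cons_val_one,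
      empty_val', cons_val_fin_one, Fin.zero_eta, Fin.mk_one, Fin.isValue] <;>
    (try rw [← hw₁]) <;> (try rw [← hw₀])
  · rw [← hN00, hN01, hP, hR]
    linear_combination (-(w₁ * a) + w₀ * (e * a)) * hpw
  · rw [← hN00, hN01, hP, hR]
    linear_combination (-(w₁ * (a * e')) + w₀ * (e * a * e' + 1)) * hpw
  · rw [← hN10, hN11, hP, hR]
    linear_combination (r * a - p * (e * a)) * hpw
  · rw [← hN10, hN11, hP, hR]
    linear_combination (r * (a * e') - p * (e * a * e' + 1)) * hpw

/-- The upper unipotent matrix. -/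
def upSL (t : F) : SpecialLinearGroup (Fin 2) F := ⟨!![1, t; 0, 1], by simp [det_fin_two_of]⟩

/-- The lower unipotent matrix. -/
def loSL (t : F) : SpecialLinearGroup (Fin 2) F := ⟨!![1, 0; t, 1], by simp [det_fin_two_of]⟩

/-- The diagonal matrix. -/
def diSL (l : Fˣ) : SpecialLinearGroup (Fin 2) F :=
  ⟨!![(l : F), 0; 0, ((l⁻¹ : Fˣ) : F)], by simp [det_fin_two_of]⟩

/-- Conjugation by `diag(a, 1)`. -/
def scaleSL (a : Fˣ) (A : SpecialLinearGroup (Fin 2) F) : SpecialLinearGroup (Fin 2) F :=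
  ⟨!![A.1 0 0, (a : F) * A.1 0 1; ((a⁻¹ : Fˣ) : F) * A.1 1 0, A.1 1 1], by
    have h := A.2
    rw [det_fin_two] at h
    rw [det_fin_two_of]
    calc _ = A.1 0 0 * A.1 1 1 - ((a : F) * ((a⁻¹ : Fˣ) : F)) * (A.1 0 1 * A.1 1 0) := by ring
      _ = 1 := by simp [h]⟩

/-- The torus part of a non-central element can be shifted by the coroot torus. -/
theorem exists_shift {G : Type*} [Group G] (φ : SpecialLinearGroup (Fin 2) F →* G) {k : G} {a : Fˣ}
    (hk : ∀ A, k * φ A * k⁻¹ = φ (scaleSL a A)) {e e' : F} (hnc : e ≠ 0 ∨ e' ≠ 0 ∨ a ≠ 1) (l : Fˣ) :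
    ∃ (A : SpecialLinearGroup (Fin 2) F) (e₂ e₃ : F),
      φ A * (φ (loSL e) * k * φ (upSL e')) * (φ A)⁻¹ =
        φ (loSL e₂) * (k * φ (diSL l)) * φ (upSL e₃) := by
  have hμ : ((a : F) * l) ≠ 0 := mul_ne_zero a.ne_zero l.ne_zero
  have hnc' : e ≠ 0 ∨ e' ≠ 0 ∨ (a : F) ≠ 1 := by
    rcases hnc with h | h | h
    · exact Or.inl h
    · exact Or.inr (Or.inl h)
    · exact Or.inr (Or.inr fun h1 => h (Units.ext h1))
  obtain ⟨A, e₂, e₃, hA⟩ := exists_corner (F := F) a.ne_zero hnc' hμ
  refine ⟨A, e₂, e₃, ?_⟩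
  have hl : (a : F) / ((a : F) * l) = ((l⁻¹ : Fˣ) : F) := by
    rw [Units.val_inv_eq_inv_val]
    field_simp
  rw [hl] at hA
  have hmat : A * loSL e * scaleSL a (upSL e') = loSL e₂ * scaleSL a (diSL l * upSL e₃) * scaleSL a A := by
    refine Subtype.ext ?_
    show A.1 * (loSL e).1 * (scaleSL a (upSL e')).1 =
      (loSL e₂).1 * (scaleSL a (diSL l * upSL e₃)).1 * (scaleSL a A).1
    have hdu : (diSL l * upSL e₃).1 = !![(l : F), (l : F) * e₃; 0, ((l⁻¹ : Fˣ) : F)] := by
      show (diSL l).1 * (upSL e₃).1 = _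
      ext i j
      fin_cases i <;> fin_cases j <;> simp [diSL, upSL, mul_apply, Fin.sum_univ_two]
    have h00 := congrFun (congrFun hA 0) 0
    have h01 := congrFun (congrFun hA 0) 1
    have h10 := congrFun (congrFun hA 1) 0
    have h11 := congrFun (congrFun hA 1) 1
    simp only [mul_apply, Fin.sum_univ_two, of_apply, cons_val', cons_val_zero, cons_val_one,
      empty_val', cons_val_fin_one, Fin.isValue] at h00 h01 h10 h11
    have ha : (a : F) * ((a⁻¹ : Fˣ) : F) = 1 := by simp
    simp only [scaleSL]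
    rw [hdu]
    ext i j
    fin_cases i <;> fin_cases j <;>
      simp [mul_apply, Fin.sum_univ_two, loSL, upSL]
    · apply mul_left_cancel₀ a.ne_zero
      have ha' : (a : F) * (a : F)⁻¹ = 1 := by simp
      linear_combination h00 - ((a : F) * l * e₃ * A.1 1 0) * ha'
    · linear_combination h01
    · apply mul_left_cancel₀ a.ne_zero
      field_simp
      simp only [Units.val_inv_eq_inv_val] at h10
      field_simp at h10
      linear_combination h10
    · simp only [Units.val_inv_eq_inv_val] at h11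
      field_simp at h11 ⊢
      linear_combination h11
  calc φ A * (φ (loSL e) * k * φ (upSL e')) * (φ A)⁻¹
      = φ A * φ (loSL e) * (k * φ (upSL e') * k⁻¹) * (k * φ A * k⁻¹)⁻¹ * k := by group
    _ = φ (A * loSL e * scaleSL a (upSL e') * (scaleSL a A)⁻¹) * k := by
      rw [hk, hk, map_mul, map_mul, map_mul, map_inv]
    _ = φ (loSL e₂ * scaleSL a (diSL l * upSL e₃)) * k := by rw [hmat, mul_inv_cancel_right]
    _ = φ (loSL e₂) * (k * (φ (diSL l) * φ (upSL e₃)) * k⁻¹) * k := by
      rw [map_mul, ← hk, map_mul]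
    _ = _ := by group

end Cfsg.Agent.H14.ThompsonSplit
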