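import Cfsg.Agent.H99.CTBlock
import Cfsg.Agent.H83.Classical.Twisted
import Cfsg.Agent.H14.ThompsonSplit.RankOne
import Cfsg.Agent.H14.ThompsonSplit.Pinned

/-!
Coordinate blocks inside the general linear group and their doubles under a twist.
-/

set_option autoImplicit false
set_option linter.unusedSectionVars false

namespace Cfsg.Agent.H14.ThompsonSplit

open Matrix Cfsg.Agent.Linear Cfsg.Agent.H54 Cfsg.Agent.H52.TwistedBruhat Cfsg.Agent.H83.Classical
open scoped MatrixGroups

variable {n k l : ℕ} {F : Type*} [Field F]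

/-- The special linear group of a set of coordinates. -/
noncomputable def embGL (e : Fin k ↪ Fin n) : SpecialLinearGroup (Fin k) F →* GL (Fin n) F :=
  SpecialLinearGroup.toGL.comp (Cfsg.Agent.H99.CT.emb e)

variable (e : Fin k ↪ Fin n)

theorem embGL_apply (M : SpecialLinearGroup (Fin k) F) (a b : Fin k) :
    (embGL e M : Matrix (Fin n) (Fin n) F) (e a) (e b) = (M : Matrix (Fin k) (Fin k) F) a b :=
  Cfsg.Agent.H99.CT.emb_apply e M a b

theorem embGL_left (M : SpecialLinearGroup (Fin k) F) {y : Fin n} (hy : y ∉ Set.range e) (j : Fin n) :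
    (embGL e M : Matrix (Fin n) (Fin n) F) y j = (1 : Matrix (Fin n) (Fin n) F) y j :=
  Cfsg.Agent.H99.CT.emb_apply_left e M hy j

theorem embGL_right (M : SpecialLinearGroup (Fin k) F) {y : Fin n} (hy : y ∉ Set.range e) (i : Fin n) :
    (embGL e M : Matrix (Fin n) (Fin n) F) i y = (1 : Matrix (Fin n) (Fin n) F) i y :=
  Cfsg.Agent.H99.CT.emb_apply_right e M hy i

theorem eq_embGL (M : SpecialLinearGroup (Fin k) F) (g : GL (Fin n) F)
    (h1 : ∀ a b, (g : Matrix (Fin n) (Fin n) F) (e a) (e b) = (M : Matrix (Fin k) (Fin k) F) a b)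
    (h2 : ∀ y, y ∉ Set.range e → ∀ j, (g : Matrix (Fin n) (Fin n) F) y j = (1 : Matrix (Fin n) (Fin n) F) y j)
    (h3 : ∀ y, y ∉ Set.range e → ∀ i, (g : Matrix (Fin n) (Fin n) F) i y = (1 : Matrix (Fin n) (Fin n) F) i y) :
    g = embGL e M := by
  refine Units.ext (Matrix.ext fun i j => ?_)
  by_cases hi : i ∈ Set.range e
  · by_cases hj : j ∈ Set.range e
    · obtain ⟨a, rfl⟩ := hi
      obtain ⟨b, rfl⟩ := hj
      rw [h1, embGL_apply]
    · rw [h3 j hj, embGL_right e M hj]
  · rw [h2 i hi, embGL_left e M hi]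

theorem embGL_transvection {i j : Fin k} (h : i ≠ j) (t : F) :
    embGL e (Matrix.SpecialLinearGroup.transvection h t) = xGL (e.injective.ne h) t := by
  show SpecialLinearGroup.toGL (Cfsg.Agent.H99.CT.emb e (Matrix.SpecialLinearGroup.transvection h t)) = _
  rw [Cfsg.Agent.H99.CT.emb_transvection]
  refine Units.ext ?_
  show ((Matrix.SpecialLinearGroup.transvection (e.injective.ne h) t : SpecialLinearGroup (Fin n) F) :
    Matrix (Fin n) (Fin n) F) = Matrix.transvection (e i) (e j) t
  rw [Matrix.SpecialLinearGroup.transvection_coe]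
  rfl

theorem embGL_det (M : SpecialLinearGroup (Fin k) F) :
    (embGL e M : Matrix (Fin n) (Fin n) F).det = 1 := (Cfsg.Agent.H99.CT.emb e M).2

theorem embGL_injective :
    Function.Injective (embGL e : SpecialLinearGroup (Fin k) F → GL (Fin n) F) := fun M N h =>
  Subtype.ext (Matrix.ext fun a b => by rw [← embGL_apply e M, h, embGL_apply])

theorem upSL_eq (t : F) :
    upSL t = Matrix.SpecialLinearGroup.transvection (show (0 : Fin 2) ≠ 1 by decide) t := by
  refine Subtype.ext ?_
  show _ = Matrix.transvection 0 1 t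
  ext a b
  fin_cases a <;> fin_cases b <;> simp [Matrix.transvection, upSL]

theorem loSL_eq (t : F) :
    loSL t = Matrix.SpecialLinearGroup.transvection (show (1 : Fin 2) ≠ 0 by decide) t := by
  refine Subtype.ext ?_
  show _ = Matrix.transvection 1 0 t
  ext a b
  fin_cases a <;> fin_cases b <;> simp [Matrix.transvection, loSL]

theorem embGL_up (e : Fin 2 ↪ Fin n) (t : F) :
    embGL e (upSL t) = xGL (e.injective.ne (show (0 : Fin 2) ≠ 1 by decide)) t := by
  rw [upSL_eq, embGL_transvection]

theorem embGL_lo (e : Fin 2 ↪ Fin n) (t : F) :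
    embGL e (loSL t) = xGL (e.injective.ne (show (1 : Fin 2) ≠ 0 by decide)) t := by
  rw [loSL_eq, embGL_transvection]

/-- The homomorphisms of the special linear group agreeing on transvections commute elementwise
when their values on transvections do. -/
theorem commute_of_transvection {G : Type*} [Group G] {f : SpecialLinearGroup (Fin k) F →* G}
    {g : SpecialLinearGroup (Fin l) F →* G}
    (h : ∀ (a b : Fin k) (hab : a ≠ b) (x : F) (c d : Fin l) (hcd : c ≠ d) (y : F),
      Commute (f (Matrix.SpecialLinearGroup.transvection hab x))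
        (g (Matrix.SpecialLinearGroup.transvection hcd y))) (M : SpecialLinearGroup (Fin k) F)
    (N : SpecialLinearGroup (Fin l) F) : Commute (f M) (g N) := by
  induction M using Cfsg.Agent.Linear.transvection_induction with
  | one => rw [map_one]; exact Commute.one_left _
  | htr a b hab x =>
    induction N using Cfsg.Agent.Linear.transvection_induction with
    | one => rw [map_one]; exact Commute.one_right _
    | htr c d hcd y => exact h a b hab x c d hcd y
    | hmul u v hu hv => rw [map_mul]; exact hu.mul_right hv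
  | hmul u v hu hv => rw [map_mul]; exact hu.mul_left hv

theorem embGL_commute (e' : Fin l ↪ Fin n) (hd : ∀ a b, e a ≠ e' b) (M : SpecialLinearGroup (Fin k) F)
    (N : SpecialLinearGroup (Fin l) F) : Commute (embGL e M) (embGL e' N) := by
  refine commute_of_transvection (fun a b hab x c d hcd y => ?_) M N
  rw [embGL_transvection, embGL_transvection]
  exact TwData.xGL_mul_comm _ _ (hd b c) (fun h => hd a d h.symm) x y

/-- Conjugation of a block by a diagonal matrix. -/
theorem diag_conj_embGL (d : Fin n → Fˣ) (M M' : SpecialLinearGroup (Fin k) F)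
    (h : ∀ a b, (M' : Matrix (Fin k) (Fin k) F) a b =
      (d (e a) : F) * (M : Matrix (Fin k) (Fin k) F) a b * ((d (e b))⁻¹ : Fˣ)) :
    diagGL d * embGL e M * (diagGL d)⁻¹ = embGL e M' := by
  refine eq_embGL e M' _ (fun a b => ?_) (fun y hy j => ?_) (fun y hy i => ?_)
  · rw [diag_conj_apply, embGL_apply, h]
  · rw [diag_conj_apply, embGL_left e M hy, Matrix.one_apply]
    split_ifs with h' <;> simp [h']
  · rw [diag_conj_apply, embGL_right e M hy, Matrix.one_apply]
    split_ifs with h' <;> simp [h']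

theorem diag_commute_embGL (d : Fin n → Fˣ) (hd : ∀ a b, d (e a) = d (e b))
    (M : SpecialLinearGroup (Fin k) F) : Commute (diagGL d) (embGL e M) := by
  refine mul_inv_eq_iff_eq_mul.1 (diag_conj_embGL e d M M fun a b => ?_)
  rw [hd a b, mul_comm, ← mul_assoc, Units.inv_mul, one_mul]

/-- Conjugation of a block by a permutation matrix. -/
theorem perm_conj_embGL (π : Equiv.Perm (Fin n)) (M : SpecialLinearGroup (Fin k) F) :
    permGL F π * embGL e M * (permGL F π)⁻¹ = embGL (e.trans π.toEmbedding) M := by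
  have he : permGL F π * embGL e M * (permGL F π)⁻¹ =
      (permGL F π⁻¹)⁻¹ * embGL e M * permGL F π⁻¹ := by rw [← permGL_inv, inv_inv]
  rw [he]
  refine eq_embGL (e.trans π.toEmbedding) M _ (fun a b => ?_) (fun y hy j => ?_) (fun y hy i => ?_)
  · rw [perm_conj_apply]; simp [embGL_apply]
  · rw [perm_conj_apply, embGL_left e M (fun ⟨a, ha⟩ => hy ⟨a, by simp [ha]⟩)]
    simp [Matrix.one_apply]
  · rw [perm_conj_apply, embGL_right e M (fun ⟨a, ha⟩ => hy ⟨a, by simp [ha]⟩)]
    simp [Matrix.one_apply]

theorem embGL_diag (e : Fin 2 ↪ Fin n) (t : Fˣ) :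
    embGL e (diSL t) = diagGL fun i => if i = e 0 then t else if i = e 1 then t⁻¹ else 1 := by
  refine (eq_embGL e _ _ (fun a b => ?_) (fun y hy j => ?_) (fun y hy i => ?_)).symm
  · have h10 : e 1 ≠ e 0 := e.injective.ne (by decide)
    rw [diagGL_coe, Matrix.diagonal_apply]
    simp only [e.injective.eq_iff]
    fin_cases a <;> fin_cases b <;> simp [diSL]
  · rw [diagGL_coe, Matrix.diagonal_apply, Matrix.one_apply]
    by_cases h : y = j
    · subst h
      rw [if_pos rfl, if_pos rfl, if_neg (fun h => hy ⟨0, h.symm⟩), if_neg (fun h => hy ⟨1, h.symm⟩),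
        Units.val_one]
    · simp [h]
  · rw [diagGL_coe, Matrix.diagonal_apply, Matrix.one_apply]
    by_cases h : i = y
    · subst h
      rw [if_pos rfl, if_pos rfl, if_neg (fun h => hy ⟨0, h.symm⟩), if_neg (fun h => hy ⟨1, h.symm⟩),
        Units.val_one]
    · simp [h]

theorem embGL_w (e : Fin 2 ↪ Fin n) :
    ∃ d : Fin n → Fˣ, embGL e (wSL F) = diagGL d * permGL F (Equiv.swap (e 0) (e 1)) := by
  refine ⟨fun i => if i = e 1 then -1 else 1, ?_⟩
  have h10 : e 1 ≠ e 0 := e.injective.ne (by decide)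
  refine (eq_embGL e _ _ (fun a b => ?_) (fun y hy j => ?_) (fun y hy i => ?_)).symm
  · rw [Units.val_mul, diagGL_coe, Matrix.diagonal_mul, permGL_apply]
    fin_cases a <;> fin_cases b <;> simp [wSL, h10, h10.symm]
  · have h0 : y ≠ e 0 := fun h => hy ⟨0, h.symm⟩
    have h1 : y ≠ e 1 := fun h => hy ⟨1, h.symm⟩
    rw [Units.val_mul, diagGL_coe, Matrix.diagonal_mul, permGL_apply, if_neg h1, Units.val_one,
      one_mul, Matrix.one_apply]
    refine if_congr ⟨fun h => ?_, fun h => ?_⟩ rfl rfl
    · have h' := congrArg (Equiv.swap (e 0) (e 1)) h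
      rw [Equiv.swap_apply_self, Equiv.swap_apply_of_ne_of_ne h0 h1] at h'
      exact h'
    · rw [← h, Equiv.swap_apply_of_ne_of_ne h0 h1]
  · have h0 : y ≠ e 0 := fun h => hy ⟨0, h.symm⟩
    have h1 : y ≠ e 1 := fun h => hy ⟨1, h.symm⟩
    rw [Units.val_mul, diagGL_coe, Matrix.diagonal_mul, permGL_apply, Equiv.swap_apply_of_ne_of_ne h0 h1,
      Matrix.one_apply]
    by_cases h : i = y
    · subst h; simp [h1]
    · simp [h]

end Cfsg.Agent.H14.ThompsonSplit
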