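import Cfsg.Agent.H14.ThompsonSplit.ChevLevi
import Cfsg.Agent.S1054
import Cfsg.Agent.S1055

/-!
The tables for the five exceptional types, checked by the kernel, and their covers.
-/

set_option autoImplicit false
set_option Elab.async false
set_option maxRecDepth 100000
set_option linter.unusedSectionVars false

namespace Cfsg.Agent.H14.ThompsonSplit.Exc

open Cfsg.Lie Cfsg.Agent.H37 Cfsg.Agent.H56.ChevAut
open Cfsg.Agent.H13.Split

/-- The sign of a root of the Levi subgroup, relative to the chain. -/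
def altSign (a b : ℕ) : ℤ := if a = b then 1 else if (max a b - min a b) % 2 = 1 then 1 else -1

/-- The table of type G2. -/
def tabG2 : AData chevG2 where
  k := 1
  k_pos := by decide
  rt a b := (([[0]] : List (List ℕ)).getD a []).getD b 0
  eps a b := altSign a b
  c j := ([3, 5] : List ℤ).getD j 0
  d j := ([0, 0] : List ℤ).getD j 0

theorem okG2 : tabG2.Ok fun r => Chev.typeG2.C.act (Chev.longWord Chev.typeG2.C Chev.typeG2.n) r where
  size := by decide +kernel
  rt_lt := by decide +kernel
  sign := by decide +kernel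
  adj_inj := by decide +kernel
  pm := by decide +kernel
  com := by decide +kernel
  mul := by decide +kernel
  wt0 := by decide +kernel
  cover := by decide +kernel
  nonneg := by decide +kernel
  small := by decide +kernel
  long := by decide +kernel
  adj := by decide +kernel
  coord := by decide +kernel
  delta := by decide +kernel

theorem colG2 : ∀ j : Fin chevG2.rank,
    ∑ i ∈ Finset.univ.erase j, (chevG2.cartan j (chevG2.simple i)).natAbs ≤ 3 := by
  decide +kernel

theorem connG2 : ∀ N : Finset (Fin chevG2.rank), N.Nonempty → N ≠ Finset.univ →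
    ∃ j ∈ N, ∃ i, i ∉ N ∧ chevG2.cartan j (chevG2.simple i) ≠ 0 := by
  decide +kernel

/-- The table of type F4. -/
def tabF4 : AData chevF4 where
  k := 3
  k_pos := by decide
  rt a b := (([[0, 25, 26], [22, 0, 24], [21, 23, 0]] : List (List ℕ)).getD a []).getD b 0
  eps a b := altSign a b
  c j := ([5, 9, 12, 6] : List ℤ).getD j 0
  d j := ([0, 1, 2, 1] : List ℤ).getD j 0

theorem okF4 : tabF4.Ok fun r => Chev.typeF4.C.act (Chev.longWord Chev.typeF4.C Chev.typeF4.n) r where
  size := by decide +kernel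
  rt_lt := by decide +kernel
  sign := by decide +kernel
  adj_inj := by decide +kernel
  pm := by decide +kernel
  com := by decide +kernel
  mul := by decide +kernel
  wt0 := by decide +kernel
  cover := by decide +kernel
  nonneg := by decide +kernel
  small := by decide +kernel
  long := by decide +kernel
  adj := by decide +kernel
  coord := by decide +kernel
  delta := by decide +kernel

theorem colF4 : ∀ j : Fin chevF4.rank,
    ∑ i ∈ Finset.univ.erase j, (chevF4.cartan j (chevF4.simple i)).natAbs ≤ 3 := by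
  decide +kernel

theorem connF4 : ∀ N : Finset (Fin chevF4.rank), N.Nonempty → N ≠ Finset.univ →
    ∃ j ∈ N, ∃ i, i ∉ N ∧ chevF4.cartan j (chevF4.simple i) ≠ 0 := by
  decide +kernel

/-- The table of type E6. -/
def tabE6 : AData chevE6 where
  k := 4
  k_pos := by decide
  rt a b := (([[0, 42, 43, 44], [29, 0, 39, 40], [28, 32, 0, 37], [27, 31, 34, 0]] : List (List ℕ)).getD a []).getD b 0
  eps a b := altSign a b
  c j := ([3, 4, 5, 7, 5, 3] : List ℤ).getD j 0
  d j := ([0, 0, 1, 1, 1, 1] : List ℤ).getD j 0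

theorem okE6 : tabE6.Ok fun r => Chev.typeE6.C.act (Chev.longWord Chev.typeE6.C Chev.typeE6.n) r where
  size := by decide +kernel
  rt_lt := by decide +kernel
  sign := by decide +kernel
  adj_inj := by decide +kernel
  pm := by decide +kernel
  com := by decide +kernel
  mul := by decide +kernel
  wt0 := by decide +kernel
  cover := by decide +kernel
  nonneg := by decide +kernel
  small := by decide +kernel
  long := by decide +kernel
  adj := by decide +kernel
  coord := by decide +kernel
  delta := by decide +kernel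

theorem colE6 : ∀ j : Fin chevE6.rank,
    ∑ i ∈ Finset.univ.erase j, (chevE6.cartan j (chevE6.simple i)).natAbs ≤ 3 := by
  decide +kernel

theorem connE6 : ∀ N : Finset (Fin chevE6.rank), N.Nonempty → N ≠ Finset.univ →
    ∃ j ∈ N, ∃ i, i ∉ N ∧ chevE6.cartan j (chevE6.simple i) ≠ 0 := by
  decide +kernel

/-- The table of type E7. -/
def tabE7 : AData chevE7 where
  k := 7
  k_pos := by decide
  rt a b := (([[0, 93, 94, 95, 96, 97, 98], [32, 0, 73, 74, 75, 76, 77], [31, 52, 0, 69, 70, 71, 72], [30, 51, 56, 0, 66, 67, 68], [29, 50, 55, 59, 0, 64, 65], [28, 49, 54, 58, 61, 0, 63], [27, 48, 53, 57, 60, 62, 0]] : List (List ℕ)).getD a []).getD b 0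
  eps a b := altSign a b
  c j := ([4, 7, 8, 12, 9, 6, 3] : List ℤ).getD j 0
  d j := ([2, 2, 3, 4, 3, 2, 1] : List ℤ).getD j 0

set_option maxHeartbeats 4000000 in
theorem okE7 : tabE7.Ok fun r => Chev.typeE7.C.act (Chev.longWord Chev.typeE7.C Chev.typeE7.n) r where
  size := by decide +kernel
  rt_lt := by decide +kernel
  sign := by decide +kernel
  adj_inj := by decide +kernel
  pm := by decide +kernel
  com := by decide +kernel
  mul := by decide +kernel
  wt0 := by decide +kernel
  cover := by decide +kernel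
  nonneg := by decide +kernel
  small := by decide +kernel
  long := by decide +kernel
  adj := by decide +kernel
  coord := by decide +kernel
  delta := by decide +kernel

theorem colE7 : ∀ j : Fin chevE7.rank,
    ∑ i ∈ Finset.univ.erase j, (chevE7.cartan j (chevE7.simple i)).natAbs ≤ 3 := by
  decide +kernel

theorem connE7 : ∀ N : Finset (Fin chevE7.rank), N.Nonempty → N ≠ Finset.univ →
    ∃ j ∈ N, ∃ i, i ∉ N ∧ chevE7.cartan j (chevE7.simple i) ≠ 0 := by
  decide +kernel

/-- The table of type E8. -/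
def tabE8 : AData chevE8 where
  k := 8
  k_pos := by decide
  rt a b := (([[0, 162, 163, 164, 165, 166, 167, 168], [77, 0, 135, 136, 137, 138, 139, 140], [76, 104, 0, 130, 131, 132, 133, 134], [75, 103, 109, 0, 126, 127, 128, 129], [74, 102, 108, 113, 0, 123, 124, 125], [73, 101, 107, 112, 116, 0, 121, 122], [72, 100, 106, 111, 115, 118, 0, 120], [71, 99, 105, 110, 114, 117, 119, 0]] : List (List ℕ)).getD a []).getD b 0
  eps a b := altSign a b
  c j := ([5, 8, 10, 15, 12, 9, 6, 3] : List ℤ).getD j 0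
  d j := ([-1, -3, -3, -5, -4, -3, -2, -1] : List ℤ).getD j 0

set_option maxHeartbeats 4000000 in
theorem okE8 : tabE8.Ok fun r => Chev.typeE8.C.act (Chev.longWord Chev.typeE8.C Chev.typeE8.n) r where
  size := by decide +kernel
  rt_lt := by decide +kernel
  sign := by decide +kernel
  adj_inj := by decide +kernel
  pm := by decide +kernel
  com := by decide +kernel
  mul := by decide +kernel
  wt0 := by decide +kernel
  cover := by decide +kernel
  nonneg := by decide +kernel
  small := by decide +kernel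
  long := by decide +kernel
  adj := by decide +kernel
  coord := by decide +kernel
  delta := by decide +kernel

theorem colE8 : ∀ j : Fin chevE8.rank,
    ∑ i ∈ Finset.univ.erase j, (chevE8.cartan j (chevE8.simple i)).natAbs ≤ 3 := by
  decide +kernel

theorem connE8 : ∀ N : Finset (Fin chevE8.rank), N.Nonempty → N ≠ Finset.univ →
    ∃ j ∈ N, ∃ i, i ∉ N ∧ chevE8.cartan j (chevE8.simple i) ≠ 0 := by
  decide +kernel

theorem cover_of_tab {D : ChevalleyDatum} {F : Type*} [Field F] [Fintype F] (hF : 9 ≤ Fintype.card F)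
    (S : Setup D F) {A : AData D} (ok : A.Ok fun r => S.Q.X.C.act (Chev.longWord S.Q.X.C S.Q.X.n) r)
    (hcol : ∀ j : Fin D.rank, ∑ i ∈ Finset.univ.erase j, (D.cartan j (D.simple i)).natAbs ≤ 3)
    (hconn : ∀ N : Finset (Fin D.rank), N.Nonempty → N ≠ Finset.univ →
      ∃ j ∈ N, ∃ i, i ∉ N ∧ D.cartan j (D.simple i) ≠ 0)
    [IsSimpleGroup ↥(D.group F)] :
    ∃ c : ↥(D.group F), ∀ g, ∃ x y, g = (x * c * x⁻¹) * (y * c * y⁻¹) := by
  classical
  haveI : Finite ↥(D.group F) := inferInstance
  obtain ⟨p, hp⟩ := CharP.exists F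
  haveI : Fact p.Prime := ⟨CharP.char_is_prime F p⟩
  have hA : Hyp S.Q.amb p := chev_hyp S.Q p (by have := S.Q.K.rank_pos; omega)
  obtain ⟨ζ, hζ⟩ := IsCyclic.exists_ofOrder_eq_natCard (α := Fˣ)
  rw [Nat.card_eq_fintype_card, Fintype.card_units] at hζ
  let P := pinned S hcol hconn
  have gen : ∀ k ∈ S.Q.amb.H ⊓ P.E, k ∈ P.H₀ := fun k hk => le_H₀ S P rfl (Subgroup.mem_inf.1 hk).1
  refine cover_of_pinned hA S.Q.Uw_w0 P gen
    (levi S ok hF hζ _ (E_eq_top S P rfl)) (by rw [Nat.card_eq_fintype_card]; omega) (⊤ : Subgroup ↥(D.group F))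
    le_top (Subgroup.topEquiv (G := ↥(D.group F))).toMonoidHom
    (Subgroup.topEquiv (G := ↥(D.group F))).surjective ?_
  intro x hx
  rw [MonoidHom.mem_ker] at hx
  have : x = 1 := Subgroup.topEquiv.injective (by rw [map_one]; exact hx)
  rw [this]
  exact one_mem _

theorem exists_two {F : Type*} [Field F] [Fintype F] (hF : 9 ≤ Fintype.card F) : ∃ a : F, a ≠ 0 ∧ a ≠ 1 := by
  classical
  by_contra h
  push Not at h
  have hs : (Finset.univ : Finset F) ⊆ {0, 1} := fun x _ => by
    by_cases h0 : x = 0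
    · simp [h0]
    · simp [h x h0]
  have h2 := (Finset.card_le_card hs).trans Finset.card_le_two
  rw [Finset.card_univ] at h2
  omega

/-- The cover for type G2. -/
theorem coverG2 {F : Type*} [Field F] [Fintype F] (hF : 9 ≤ Fintype.card F) :
    ∃ c : ↥(chevG2.group F), ∀ g, ∃ x y, g = (x * c * x⁻¹) * (y * c * y⁻¹) :=
  haveI : IsSimpleGroup ↥(chevG2.group F) := (Cfsg.Agent.S1055.result (exists_two hF)).1
  cover_of_tab hF ⟨Chev.dataG2 F, facts_G2, Chev.sup_of_check Chev.supB_G2⟩ okG2 colG2 connG2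

/-- The cover for type F4. -/
theorem coverF4 {F : Type*} [Field F] [Fintype F] (hF : 9 ≤ Fintype.card F) :
    ∃ c : ↥(chevF4.group F), ∀ g, ∃ x y, g = (x * c * x⁻¹) * (y * c * y⁻¹) :=
  haveI : IsSimpleGroup ↥(chevF4.group F) := (Cfsg.Agent.S1054.result chevF4 (by simp)).1
  cover_of_tab hF ⟨Chev.dataF4 F, facts_F4, Chev.sup_of_check Chev.supB_F4⟩ okF4 colF4 connF4

/-- The cover for type E6. -/
theorem coverE6 {F : Type*} [Field F] [Fintype F] (hF : 9 ≤ Fintype.card F) :
    ∃ c : ↥(chevE6.group F), ∀ g, ∃ x y, g = (x * c * x⁻¹) * (y * c * y⁻¹) :=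
  haveI : IsSimpleGroup ↥(chevE6.group F) := (Cfsg.Agent.S1054.result chevE6 (by simp)).1
  cover_of_tab hF ⟨Chev.dataE6 F, facts_E6, Chev.sup_of_check Chev.supB_E6⟩ okE6 colE6 connE6

/-- The cover for type E7. -/
theorem coverE7 {F : Type*} [Field F] [Fintype F] (hF : 9 ≤ Fintype.card F) :
    ∃ c : ↥(chevE7.group F), ∀ g, ∃ x y, g = (x * c * x⁻¹) * (y * c * y⁻¹) :=
  haveI : IsSimpleGroup ↥(chevE7.group F) := (Cfsg.Agent.S1054.result chevE7 (by simp)).1
  cover_of_tab hF ⟨Chev.dataE7 F, facts_E7, Chev.sup_of_check Chev.supB_E7⟩ okE7 colE7 connE7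

/-- The cover for type E8. -/
theorem coverE8 {F : Type*} [Field F] [Fintype F] (hF : 9 ≤ Fintype.card F) :
    ∃ c : ↥(chevE8.group F), ∀ g, ∃ x y, g = (x * c * x⁻¹) * (y * c * y⁻¹) :=
  haveI : IsSimpleGroup ↥(chevE8.group F) := (Cfsg.Agent.S1054.result chevE8 (by simp)).1
  cover_of_tab hF ⟨Chev.dataE8 F, facts_E8, Chev.sup_of_check Chev.supB_E8⟩ okE8 colE8 connE8

end Cfsg.Agent.H14.ThompsonSplit.Exc
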