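import Cfsg.Agent.H55.LevFinal

/-!
Determinant one matrices as products of two regular unipotent matrices, in every dimension.
-/

set_option autoImplicit false
set_option linter.unusedSimpArgs false

namespace Cfsg.Agent.H14.ThompsonSplit

open Matrix
open Cfsg.Agent.H55 (Lev.jordan Lev.exists_conj_jordan)

variable {K : Type*} [Field K] {n : ℕ}

theorem det_jordan : (Lev.jordan K n).det = 1 := by
  rw [Matrix.det_of_isUpperTriangular]
  · exact Finset.prod_eq_one fun i _ => by simp [Lev.jordan]
  · intro i j hij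
    have h : (j : ℕ) < i := hij
    simp only [Lev.jordan]
    rw [if_neg (fun e => by subst e; omega), if_neg (by omega)]

/-- The regular unipotent Jordan block in the special linear group. -/
def jordanSL (K : Type*) [Field K] (n : ℕ) : SpecialLinearGroup (Fin n) K :=
  ⟨Lev.jordan K n, det_jordan⟩

/-- A regular unipotent matrix. -/
def IsReg (X : Matrix (Fin n) (Fin n) K) : Prop :=
  (X - 1) ^ n = 0 ∧ (n = 0 ∨ (X - 1) ^ (n - 1) ≠ 0)

/-- `X` is conjugate to the Jordan block. -/
def IsJordan (X : SpecialLinearGroup (Fin n) K) : Prop :=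
  ∃ P : GL (Fin n) K, (X : Matrix (Fin n) (Fin n) K) * P = P * Lev.jordan K n

theorem isJordan_of_isReg {X : SpecialLinearGroup (Fin n) K} (h : IsReg (X : Matrix (Fin n) (Fin n) K)) :
    IsJordan X := by
  rcases Nat.eq_zero_or_pos n with hn | hn
  · subst hn
    exact ⟨1, Matrix.ext fun i => i.elim0⟩
  obtain ⟨v, hv⟩ : ∃ v, ((X : Matrix (Fin n) (Fin n) K) - 1) ^ (n - 1) *ᵥ v ≠ 0 := by
    by_contra hcon
    push Not at hcon
    exact (h.2.resolve_left hn.ne') (Matrix.ext_iff_mulVec.2 fun v => by rw [hcon, Matrix.zero_mulVec])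
  exact Lev.exists_conj_jordan _ h.1 v hv

theorem jordan_sub_pow (k : ℕ) (i j : Fin n) :
    ((Lev.jordan K n - 1) ^ k) i j = if (j : ℕ) = i + k then 1 else 0 := by
  induction k generalizing j with
  | zero =>
    rw [pow_zero, Matrix.one_apply, add_zero]
    simp [Fin.ext_iff, eq_comm]
  | succ k ih =>
    rw [pow_succ, Matrix.mul_apply]
    have e : ∀ l : Fin n, (Lev.jordan K n - 1) l j = if (j : ℕ) = l + 1 then 1 else 0 := fun l => by
      rw [Matrix.sub_apply, Matrix.one_apply]
      simp only [Lev.jordan]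
      by_cases h1 : l = j
      · subst h1; simp
      · simp [h1]
    simp only [ih, e]
    by_cases h : (j : ℕ) = i + (k + 1)
    · rw [if_pos h, Finset.sum_eq_single (⟨i + k, by have := j.isLt; omega⟩ : Fin n)]
      · rw [if_pos rfl, if_pos (by simp only; omega), one_mul]
      · intro b _ hb
        rw [if_neg (fun h' => hb (Fin.ext h')), zero_mul]
      · simp
    · rw [if_neg h]
      refine Finset.sum_eq_zero fun l _ => ?_
      split_ifs <;> first | (exfalso; omega) | simp

theorem isReg_jordan : IsReg (Lev.jordan K n) := by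
  refine ⟨Matrix.ext fun i j => ?_, ?_⟩
  · rw [jordan_sub_pow, if_neg (by have := j.isLt; omega)]
    rfl
  · rcases Nat.eq_zero_or_pos n with hn | hn
    · exact Or.inl hn
    refine Or.inr fun h => one_ne_zero (α := K) ?_
    have := congrFun (congrFun h ⟨0, hn⟩) ⟨n - 1, by omega⟩
    rwa [jordan_sub_pow, if_pos (by simp)] at this

theorem IsReg.conj {X : Matrix (Fin n) (Fin n) K} (h : IsReg X) (P : GL (Fin n) K) :
    IsReg ((P : Matrix (Fin n) (Fin n) K) * X * ((P⁻¹ : GL (Fin n) K) : Matrix (Fin n) (Fin n) K)) := by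
  have e : ∀ k, ((P : Matrix (Fin n) (Fin n) K) * X * ((P⁻¹ : GL (Fin n) K) : Matrix (Fin n) (Fin n) K) - 1) ^ k =
      (P : Matrix (Fin n) (Fin n) K) * (X - 1) ^ k * ((P⁻¹ : GL (Fin n) K) : Matrix (Fin n) (Fin n) K) := by
    intro k
    rw [← Units.conj_pow P (X - 1) k]
    congr 1
    rw [mul_sub, mul_one, sub_mul, Units.mul_inv]
  refine ⟨by rw [e, h.1]; simp, h.2.imp_right fun h2 h0 => h2 ?_⟩
  rw [e] at h0
  exact P.mul_right_eq_zero.1 ((P⁻¹).mul_left_eq_zero.1 h0)

theorem IsJordan.isReg {X : SpecialLinearGroup (Fin n) K} (h : IsJordan X) :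
    IsReg (X : Matrix (Fin n) (Fin n) K) := by
  obtain ⟨P, hP⟩ := h
  have e : (X : Matrix (Fin n) (Fin n) K) =
      P * Lev.jordan K n * ((P⁻¹ : GL (Fin n) K) : Matrix (Fin n) (Fin n) K) := by
    rw [← hP, Units.mul_inv_cancel_right]
  rw [e]
  exact isReg_jordan.conj P

theorem IsReg.transpose {X : Matrix (Fin n) (Fin n) K} (h : IsReg X) : IsReg Xᵀ := by
  have e : ∀ k, (Xᵀ - 1) ^ k = ((X - 1) ^ k)ᵀ := fun k => by
    rw [Matrix.transpose_pow, Matrix.transpose_sub, Matrix.transpose_one]
  refine ⟨by rw [e, h.1, Matrix.transpose_zero], h.2.imp_right fun h2 h0 => h2 ?_⟩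
  rw [e] at h0
  rw [← Matrix.transpose_transpose ((X - 1) ^ (n - 1)), h0, Matrix.transpose_zero]

theorem IsReg.inv {X : GL (Fin n) K} (h : IsReg (X : Matrix (Fin n) (Fin n) K)) :
    IsReg ((X⁻¹ : GL (Fin n) K) : Matrix (Fin n) (Fin n) K) := by
  have e : ((X⁻¹ : GL (Fin n) K) : Matrix (Fin n) (Fin n) K) - 1 =
      -((X⁻¹ : GL (Fin n) K) : Matrix (Fin n) (Fin n) K) * ((X : Matrix (Fin n) (Fin n) K) - 1) := by
    rw [neg_mul, mul_sub, Units.inv_mul, mul_one, neg_sub]
  have hc : Commute (-((X⁻¹ : GL (Fin n) K) : Matrix (Fin n) (Fin n) K))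
      ((X : Matrix (Fin n) (Fin n) K) - 1) :=
    (((Commute.refl (X : Matrix (Fin n) (Fin n) K)).units_inv_left).sub_right
      (Commute.one_right _)).neg_left
  refine ⟨by rw [e, hc.mul_pow, h.1, mul_zero], h.2.imp_right fun h2 h0 => h2 ?_⟩
  rw [e, hc.mul_pow] at h0
  exact (((Units.isUnit _).neg).pow _).mul_right_eq_zero.1 h0

theorem isJordan_inv {X : SpecialLinearGroup (Fin n) K} (h : IsJordan X) : IsJordan X⁻¹ := by
  refine isJordan_of_isReg ?_
  have h1 : IsReg ((SpecialLinearGroup.toGL X : GL (Fin n) K) : Matrix (Fin n) (Fin n) K) := h.isReg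
  have h2 := h1.inv
  rwa [← map_inv] at h2

theorem isJordan_jordanSL : IsJordan (jordanSL K n) := isJordan_of_isReg isReg_jordan

/-- Every determinant one matrix that is trivial or not scalar is a product of two regular
unipotent matrices. -/
theorem exists_fac [Finite K] (hK : 4 ≤ Nat.card K) (M : SpecialLinearGroup (Fin n) K)
    (hM : M = 1 ∨ ∀ c : K, (M : Matrix (Fin n) (Fin n) K) ≠ c • 1) :
    ∃ X Y : SpecialLinearGroup (Fin n) K, IsJordan X ∧ IsJordan Y ∧ M = X * Y := by
  classical
  have : Fintype K := Fintype.ofFinite K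
  rw [Nat.card_eq_fintype_card] at hK
  rcases hM with rfl | hM
  · exact ⟨jordanSL K n, (jordanSL K n)⁻¹, isJordan_jordanSL, isJordan_inv isJordan_jordanSL, by simp⟩
  by_cases hn : 3 ≤ n
  · obtain ⟨P, Q, X, Y, hG, hP, hQ⟩ := Cfsg.Agent.H55.Lev.exists_jordan_factorisation
      ⟨Finset.univ, by rw [Finset.card_univ]; exact hK⟩ hn (M : Matrix (Fin n) (Fin n) K) M.2 hM
    have hd : ∀ (R : GL (Fin n) K) (Z : Matrix (Fin n) (Fin n) K),
        Z * (R : Matrix (Fin n) (Fin n) K) = R * Lev.jordan K n → Z.det = 1 := by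
      intro R Z h
      have h2 := congrArg Matrix.det h
      rw [Matrix.det_mul, Matrix.det_mul, det_jordan, mul_one] at h2
      exact (mul_eq_right₀ (Matrix.GeneralLinearGroup.det R).ne_zero).1 h2
    exact ⟨⟨X, hd P X hP⟩, ⟨Y, hd Q Y hQ⟩, ⟨P, hP⟩, ⟨Q, hQ⟩, Subtype.ext hG⟩
  have hn2 : n = 2 := by
    by_contra h
    obtain rfl | rfl : n = 0 ∨ n = 1 := by omega
    · exact hM 1 (Matrix.ext fun i => i.elim0)
    · refine hM 1 (Matrix.ext fun i j => ?_)
      have hdet := M.2
      rw [Matrix.det_fin_one] at hdet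
      rw [Subsingleton.elim i 0, Subsingleton.elim j 0, hdet]
      simp
  subst hn2
  have hch : ∀ N : Matrix (Fin 2) (Fin 2) K, N.trace = 0 → N.det = 0 → N ^ 2 = 0 := by
    intro N ht hd
    rw [Matrix.trace_fin_two] at ht
    rw [Matrix.det_fin_two] at hd
    rw [pow_two]
    ext i j
    fin_cases i <;> fin_cases j <;> simp [Matrix.mul_apply, Fin.sum_univ_two]
    · linear_combination (N 0 0) * ht - hd
    · linear_combination (N 0 1) * ht
    · linear_combination (N 1 0) * ht
    · linear_combination (N 1 1) * ht - hd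
  have hreg : ∀ Z : SpecialLinearGroup (Fin 2) K, (Z : Matrix (Fin 2) (Fin 2) K).trace = 2 →
      Z ≠ 1 → IsJordan Z := by
    intro Z ht hne
    refine isJordan_of_isReg ⟨hch _ ?_ ?_, Or.inr ?_⟩
    · rw [Matrix.trace_sub, ht, Matrix.trace_one, Fintype.card_fin]; norm_num
    · have hd := Z.2
      rw [Matrix.det_fin_two] at hd
      rw [Matrix.trace_fin_two] at ht
      rw [Matrix.det_fin_two]
      simp only [Matrix.sub_apply, Matrix.one_apply_eq, Matrix.one_apply_ne (show (0 : Fin 2) ≠ 1 by decide),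
        Matrix.one_apply_ne (show (1 : Fin 2) ≠ 0 by decide), sub_zero]
      linear_combination hd - ht
    · rw [pow_one]
      exact fun h => hne (Subtype.ext (sub_eq_zero.1 h))
  set A := (M : Matrix (Fin 2) (Fin 2) K) with hA
  obtain ⟨N, hN2, hN0, hne, htr⟩ : ∃ N : Matrix (Fin 2) (Fin 2) K, N.trace = 0 ∧ N.det = 0 ∧
      N ≠ 0 ∧ ((1 - N) * A).trace = 2 ∧ (1 - N) * A ≠ 1 := by
    by_cases ht : A.trace = 2
    · obtain ⟨l, hl0, hl1⟩ : ∃ l : K, l ≠ 0 ∧ l ≠ 1 := by
        by_contra h
        push Not at h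
        have : (Finset.univ : Finset K) ⊆ {0, 1} := fun x _ => by
          by_cases h0 : x = 0
          · simp [h0]
          · simp [h x h0]
        have h2 := (Finset.card_le_card this).trans Finset.card_le_two
        rw [Finset.card_univ] at h2
        omega
      have hd := M.2
      rw [← hA, Matrix.det_fin_two] at hd
      have ht' := ht
      rw [Matrix.trace_fin_two] at ht'
      have hN0 : (A - 1).trace = 0 := by
        rw [Matrix.trace_sub, ht, Matrix.trace_one, Fintype.card_fin]; norm_num
      have hNd : (A - 1).det = 0 := by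
        rw [Matrix.det_fin_two]
        simp only [Matrix.sub_apply, Matrix.one_apply_eq, Matrix.one_apply_ne (show (0 : Fin 2) ≠ 1 by decide),
          Matrix.one_apply_ne (show (1 : Fin 2) ≠ 0 by decide), sub_zero]
        linear_combination hd - ht'
      have hsq := hch _ hN0 hNd
      have e : (1 - l • (A - 1)) * A = 1 + (1 - l) • (A - 1) := by
        conv_lhs => arg 2; rw [show A = 1 + (A - 1) by abel]
        rw [sub_mul, mul_add, mul_add, Matrix.one_mul, smul_mul_assoc, smul_mul_assoc, ← pow_two, hsq,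
          mul_one, smul_zero, add_zero, one_mul, sub_smul, one_smul]
        abel
      have hA1 : A - 1 ≠ 0 := fun h => hM 1 (by rw [one_smul]; exact sub_eq_zero.1 h)
      refine ⟨l • (A - 1), by rw [Matrix.trace_smul, hN0, smul_zero],
        by rw [Matrix.det_smul, hNd, mul_zero], smul_ne_zero hl0 hA1, ?_, ?_⟩
      · rw [e, Matrix.trace_add, Matrix.trace_smul, hN0, Matrix.trace_one, Fintype.card_fin]
        simp
      · rw [e]
        intro h
        rw [add_eq_left, smul_eq_zero] at h
        rcases h with h | h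
        · exact hl1 (sub_eq_zero.1 h).symm
        · exact hA1 h
    · obtain ⟨v, hv⟩ : ∃ v : Fin 2 → K, v 0 * (A *ᵥ v) 1 - v 1 * (A *ᵥ v) 0 ≠ 0 := by
        by_contra h
        push Not at h
        have h1 := h ![1, 0]
        have h2 := h ![0, 1]
        have h3 := h ![1, 1]
        simp [Matrix.mulVec, dotProduct, Fin.sum_univ_two] at h1 h2 h3
        refine hM (A 0 0) (Matrix.ext fun i j => ?_)
        fin_cases i <;> fin_cases j <;> simp <;>
          first
            | exact h1
            | exact h2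
            | linear_combination h3
            | linear_combination h3 - h1 + h2
      set w := A *ᵥ v with hw
      set c := (A.trace - 2) / (v 0 * w 1 - v 1 * w 0) with hc
      have hc0 : c ≠ 0 := div_ne_zero (sub_ne_zero.2 ht) hv
      have hvv : v 0 ≠ 0 ∨ v 1 ≠ 0 := by
        by_contra h
        push Not at h
        exact hv (by rw [h.1, h.2]; ring)
      refine ⟨Matrix.vecMulVec v ![-c * v 1, c * v 0], ?_, ?_, ?_, ?_, ?_⟩
      · simp [Matrix.trace_fin_two, Matrix.vecMulVec_apply]; ring
      · simp [Matrix.det_fin_two, Matrix.vecMulVec_apply]; ring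
      · intro h
        rcases hvv with h0 | h1
        · have := congrFun (congrFun h 0) 1
          simp [Matrix.vecMulVec_apply, hc0, h0] at this
        · have := congrFun (congrFun h 1) 0
          simp [Matrix.vecMulVec_apply, hc0, h1] at this
      · have e : ((1 - Matrix.vecMulVec v ![-c * v 1, c * v 0]) * A).trace =
            A.trace - c * (v 0 * w 1 - v 1 * w 0) := by
          simp only [hw, Matrix.trace_fin_two, Matrix.mul_apply, Fin.sum_univ_two, Matrix.sub_apply,
            Matrix.vecMulVec_apply, Matrix.mulVec, dotProduct]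
          simp
          ring
        rw [e, hc, div_mul_cancel₀ _ hv]
        ring
      · intro h
        refine ht ?_
        set N := Matrix.vecMulVec v ![-c * v 1, c * v 0] with hN
        have hsq : N ^ 2 = 0 := hch _ (by simp [hN, Matrix.trace_fin_two, Matrix.vecMulVec_apply]; ring)
          (by simp [hN, Matrix.det_fin_two, Matrix.vecMulVec_apply]; ring)
        have e2 : A = 1 + N := by
          calc A = (1 + N) * ((1 - N) * A) := by
                rw [← mul_assoc, show (1 + N) * (1 - N) = 1 - N ^ 2 by rw [pow_two]; noncomm_ring,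
                  hsq, sub_zero, one_mul]
            _ = 1 + N := by rw [h, mul_one]
        rw [e2, Matrix.trace_add, Matrix.trace_one, Fintype.card_fin,
          show N.trace = 0 by simp [hN, Matrix.trace_fin_two, Matrix.vecMulVec_apply]; ring]
        norm_num
  have hdX : (1 + N).det = 1 := by
    rw [Matrix.det_fin_two]
    rw [Matrix.det_fin_two] at hN0
    rw [Matrix.trace_fin_two] at hN2
    simp
    linear_combination hN0 + hN2
  set X : SpecialLinearGroup (Fin 2) K := ⟨1 + N, hdX⟩ with hX
  have hXinv : ((X⁻¹ : SpecialLinearGroup (Fin 2) K) : Matrix (Fin 2) (Fin 2) K) = 1 - N := by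
    rw [Matrix.SpecialLinearGroup.coe_inv, Matrix.adjugate_fin_two]
    rw [Matrix.trace_fin_two] at hN2
    ext i j
    fin_cases i <;> fin_cases j <;> simp [hX]
    · linear_combination hN2
    · linear_combination hN2
  refine ⟨X, X⁻¹ * M, hreg X ?_ ?_, hreg _ ?_ ?_, by group⟩
  · show (1 + N).trace = 2
    rw [Matrix.trace_add, hN2, Matrix.trace_one, Fintype.card_fin]; simp
  · intro h
    have := congrArg Subtype.val h
    exact hne (by simpa [hX] using this)
  · rw [Matrix.SpecialLinearGroup.coe_mul, hXinv]; exact htr.1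
  · intro h
    have := congrArg Subtype.val h
    refine htr.2 ?_
    rw [← hXinv]
    exact this

end Cfsg.Agent.H14.ThompsonSplit
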