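import Cfsg.Agent.H83.Classical.GLTits

/-!
Block triangular and block unipotent matrices for an ordered partition of the coordinates into
levels, and the action of a diagonal matrix separating the levels.
-/

set_option autoImplicit false
set_option linter.unusedSectionVars false

namespace Cfsg.Agent.H14.ThompsonSplit

open Matrix Cfsg.Agent.Linear Cfsg.Agent.H52.TwistedBruhat Cfsg.Agent.H83.Classical
open scoped MatrixGroups

variable {n : ℕ} {F : Type*} [Field F] (lev : Fin n → ℕ)

/-- No entries from a higher level to a lower one. -/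
def IsTri (g : GL (Fin n) F) : Prop :=
  ∀ i j, lev j < lev i → (g : Matrix (Fin n) (Fin n) F) i j = 0

theorem mul_tri_apply {a b : GL (Fin n) F} (ha : IsTri lev a) (hb : IsTri lev b) {i j : Fin n}
    (h : lev j ≤ lev i) :
    ((a * b : GL (Fin n) F) : Matrix (Fin n) (Fin n) F) i j =
      ∑ k ∈ Finset.univ.filter (fun k => lev k = lev i ∧ lev k = lev j),
        (a : Matrix (Fin n) (Fin n) F) i k * (b : Matrix (Fin n) (Fin n) F) k j := by
  rw [Units.val_mul, Matrix.mul_apply]
  refine (Finset.sum_subset (Finset.filter_subset _ _) fun k _ hk => ?_).symm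
  rcases lt_or_ge (lev k) (lev i) with h1 | h1
  · rw [ha i k h1, zero_mul]
  rcases lt_or_ge (lev j) (lev k) with h2 | h2
  · rw [hb k j h2, mul_zero]
  exact absurd (Finset.mem_filter.2 ⟨Finset.mem_univ k, by omega, by omega⟩) hk

theorem IsTri.mul {a b : GL (Fin n) F} (ha : IsTri lev a) (hb : IsTri lev b) : IsTri lev (a * b) := by
  intro i j h
  rw [mul_tri_apply lev ha hb h.le, Finset.sum_eq_zero]
  intro k hk
  obtain ⟨-, h1, h2⟩ := Finset.mem_filter.1 hk
  omega

/-- The block unipotent matrices. -/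
def IsUni (g : GL (Fin n) F) : Prop :=
  IsTri lev g ∧ ∀ i j, lev i = lev j →
    (g : Matrix (Fin n) (Fin n) F) i j = if i = j then 1 else 0

theorem isTri_one : IsTri lev (1 : GL (Fin n) F) := fun i j h => by
  rw [Units.val_one, Matrix.one_apply_ne (fun e => by subst e; omega)]

theorem isUni_one : IsUni lev (1 : GL (Fin n) F) :=
  ⟨isTri_one lev, fun i j _ => by rw [Units.val_one, Matrix.one_apply]⟩

theorem IsUni.mul {a b : GL (Fin n) F} (ha : IsUni lev a) (hb : IsUni lev b) : IsUni lev (a * b) := by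
  refine ⟨ha.1.mul lev hb.1, fun i j h => ?_⟩
  rw [mul_tri_apply lev ha.1 hb.1 h.ge,
    Finset.sum_eq_single i (fun k hk hki => by
      rw [ha.2 i k (Finset.mem_filter.1 hk).2.1.symm, if_neg (Ne.symm hki), zero_mul])
      (fun hi => absurd (Finset.mem_filter.2 ⟨Finset.mem_univ i, rfl, h⟩) hi),
    ha.2 i i rfl, if_pos rfl, one_mul, hb.2 i j h]

variable [Finite F]

theorem inv_mem_of_mul {s : GL (Fin n) F → Prop} (h1 : s 1) (hm : ∀ {a b}, s a → s b → s (a * b))
    {a : GL (Fin n) F} (ha : s a) : s a⁻¹ := by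
  have hp : ∀ k : ℕ, s (a ^ k) := fun k => by
    induction k with
    | zero => simpa using h1
    | succ k ih => rw [pow_succ]; exact hm ih ha
  have e : a⁻¹ = a ^ (orderOf a - 1) := by
    rw [inv_eq_iff_mul_eq_one, ← pow_succ', Nat.sub_add_cancel (orderOf_pos a), pow_orderOf_eq_one]
  exact e ▸ hp _

/-- The group of block triangular matrices. -/
def blockTri : Subgroup (GL (Fin n) F) where
  carrier := {g | IsTri lev g}
  one_mem' := isTri_one lev
  mul_mem' := fun ha hb => IsTri.mul lev ha hb
  inv_mem' := fun ha => inv_mem_of_mul (isTri_one lev) (fun h h' => IsTri.mul lev h h') ha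

/-- The group of block unipotent matrices. -/
def blockUni : Subgroup (GL (Fin n) F) where
  carrier := {g | IsUni lev g}
  one_mem' := isUni_one lev
  mul_mem' := fun ha hb => IsUni.mul lev ha hb
  inv_mem' := fun ha => inv_mem_of_mul (isUni_one lev) (fun h h' => IsUni.mul lev h h') ha

theorem mem_blockUni {g : GL (Fin n) F} : g ∈ blockUni lev ↔ IsUni lev g := Iff.rfl

theorem mem_blockTri {g : GL (Fin n) F} : g ∈ blockTri lev ↔ IsTri lev g := Iff.rfl

/-- The diagonal blocks of an inverse are the inverse blocks. -/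
theorem sum_blk_inv {g : GL (Fin n) F} (hg : IsTri lev g) {i j : Fin n} (h : lev i = lev j) :
    ∑ k ∈ Finset.univ.filter (fun k => lev k = lev i),
      ((g⁻¹ : GL (Fin n) F) : Matrix (Fin n) (Fin n) F) i k * (g : Matrix (Fin n) (Fin n) F) k j =
        if i = j then 1 else 0 := by
  have hi : IsTri lev g⁻¹ := (blockTri lev).inv_mem hg
  have e := mul_tri_apply lev hi hg h.ge
  rw [inv_mul_cancel, Units.val_one, Matrix.one_apply] at e
  rw [e]
  refine Finset.sum_congr ?_ fun _ _ => rfl
  ext k
  simp [h]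

omit [Finite F]

variable {lev} {d : Fin n → Fˣ}

/-- Matrices commuting with a diagonal matrix which separates the levels are block diagonal. -/
theorem apply_eq_zero_of_commute (hd : ∀ i j, lev i ≠ lev j → d i ≠ d j) {D : GL (Fin n) F}
    (hD : Commute (diagGL d) D) {i j : Fin n} (h : lev i ≠ lev j) :
    (D : Matrix (Fin n) (Fin n) F) i j = 0 := by
  have e := congrArg (fun g : GL (Fin n) F => (g : Matrix (Fin n) (Fin n) F) i j) hD.eq
  simp only [Units.val_mul, diagGL_coe, Matrix.diagonal_mul, Matrix.mul_diagonal] at e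
  by_contra hne
  exact hd i j h (Units.ext (mul_right_cancel₀ hne (by rw [e, mul_comm])))

theorem isTri_of_commute (hd : ∀ i j, lev i ≠ lev j → d i ≠ d j) {D : GL (Fin n) F}
    (hD : Commute (diagGL d) D) : IsTri lev D :=
  fun _ _ h => apply_eq_zero_of_commute hd hD (Ne.symm h.ne)

theorem conj_uni [Finite F] (hd : ∀ i j, lev i ≠ lev j → d i ≠ d j) {D q : GL (Fin n) F}
    (hD : Commute (diagGL d) D) (hq : IsUni lev q) : IsUni lev (D * q * D⁻¹) := by
  have hDt := isTri_of_commute hd hD
  have hDi := isTri_of_commute hd hD.inv_right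
  refine ⟨(hDt.mul lev hq.1).mul lev hDi, fun i j h => ?_⟩
  have hDq : ∀ k, lev i = lev k → ((D * q : GL (Fin n) F) : Matrix (Fin n) (Fin n) F) i k =
      (D : Matrix (Fin n) (Fin n) F) i k := fun k hk => by
    rw [mul_tri_apply lev hDt hq.1 hk.ge, Finset.sum_eq_single k]
    · rw [hq.2 k k rfl, if_pos rfl, mul_one]
    · intro l hl hlk
      rw [hq.2 l k (Finset.mem_filter.1 hl).2.2, if_neg hlk, mul_zero]
    · intro hn
      exact absurd (Finset.mem_filter.2 ⟨Finset.mem_univ k, hk.symm, rfl⟩) hn
  rw [mul_tri_apply lev (hDt.mul lev hq.1) hDi h.ge,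
    Finset.sum_congr rfl fun k hk => by rw [hDq k (Finset.mem_filter.1 hk).2.1.symm],
    ← mul_tri_apply lev hDt hDi h.ge, mul_inv_cancel, Units.val_one, Matrix.one_apply]

theorem diag_comm (e e' : Fin n → Fˣ) : Commute (diagGL e) (diagGL e') := by
  show diagGL e * diagGL e' = diagGL e' * diagGL e
  rw [← diagGL_mul, ← diagGL_mul, mul_comm]

/-- A block triangular matrix with the diagonal blocks of `D` differs from it by a block unipotent
one on both sides. -/
theorem uni_of_blocks [Finite F] (hd : ∀ i j, lev i ≠ lev j → d i ≠ d j) {D g : GL (Fin n) F}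
    (hD : Commute (diagGL d) D) (hg : IsTri lev g)
    (h : ∀ i j, lev i = lev j →
      (g : Matrix (Fin n) (Fin n) F) i j = (D : Matrix (Fin n) (Fin n) F) i j) :
    IsUni lev (D⁻¹ * g) ∧ IsUni lev (g * D⁻¹) := by
  have hDt := isTri_of_commute hd hD
  have hDi := isTri_of_commute hd hD.inv_right
  have h1 : IsUni lev (D⁻¹ * g) := by
    refine ⟨hDi.mul lev hg, fun i j hij => ?_⟩
    rw [mul_tri_apply lev hDi hg hij.ge]
    calc _ = ∑ k ∈ Finset.univ.filter (fun k => lev k = lev i),
          ((D⁻¹ : GL (Fin n) F) : Matrix (Fin n) (Fin n) F) i k * (D : Matrix (Fin n) (Fin n) F) k j := by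
          refine Finset.sum_congr ?_ fun k hk => ?_
          · ext k; simp [hij]
          · rw [h k j ((Finset.mem_filter.1 hk).2.trans hij)]
      _ = _ := sum_blk_inv lev hDt hij
  refine ⟨h1, ?_⟩
  rw [show g * D⁻¹ = D * (D⁻¹ * g) * D⁻¹ by group]
  exact conj_uni hd hD h1

/-- A separating diagonal matrix fixes no block unipotent matrix but the identity. -/
theorem eq_one_of_fixed (hd : ∀ i j, lev i ≠ lev j → d i ≠ d j) {q : GL (Fin n) F} (hq : IsUni lev q)
    (h : diagGL d * q * (diagGL d)⁻¹ = q) : q = 1 := by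
  refine Units.ext (Matrix.ext fun i j => ?_)
  rw [Units.val_one, Matrix.one_apply]
  by_cases hl : lev i = lev j
  · exact hq.2 i j hl
  · rw [apply_eq_zero_of_commute hd (mul_inv_eq_iff_eq_mul.1 h) hl,
      if_neg (fun e => hl (congrArg lev e))]

end Cfsg.Agent.H14.ThompsonSplit
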