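import Cfsg.Agent.H14.ThompsonSplit.Block
import Cfsg.Agent.H14.ThompsonSplit.JordanFac
import Cfsg.Agent.H14.ThompsonSplit.Levels

/-!
Torus characters, telescoping along adjacent coroots, and Jordan blocks under diagonal and permutation
conjugation.
-/

set_option autoImplicit false
set_option linter.unusedSectionVars false

namespace Cfsg.Agent.H14.ThompsonSplit

open Matrix Cfsg.Agent.Linear Cfsg.Agent.H54 Cfsg.Agent.H52.TwistedBruhat Cfsg.Agent.H83.Classical
open scoped MatrixGroups

variable {n k : ℕ} {F : Type*} [Field F]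

theorem diagGL_apply_self (d : Fin n → Fˣ) (a : Fin n) :
    (diagGL d : Matrix (Fin n) (Fin n) F) a a = (d a : F) := by
  rw [diagGL_coe, Matrix.diagonal_apply_eq]

theorem diagGL_inj {d e : Fin n → Fˣ} (h : (diagGL d : GL (Fin n) F) = diagGL e) : d = e :=
  funext fun a => Units.ext (by rw [← diagGL_apply_self d a, h, diagGL_apply_self])

theorem torus_comm : ∀ a ∈ torus n F, ∀ b ∈ torus n F, a * b = b * a := by
  intro a ha b hb
  obtain ⟨d, rfl⟩ := exists_of_mem_torus ha
  obtain ⟨e, rfl⟩ := exists_of_mem_torus hb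
  exact (diag_comm d e).eq

/-- The diagonal entry at `a` as a character of the torus. -/
noncomputable def entryHom (a : Fin n) : ↥(torus n F) →* Fˣ where
  toFun g := (exists_of_mem_torus g.2).choose a
  map_one' := by
    have h := (exists_of_mem_torus (1 : ↥(torus n F)).2).choose_spec
    exact congrFun (diagGL_inj (h.symm.trans diagGL_one.symm)) a
  map_mul' g g' := by
    have h := (exists_of_mem_torus (g * g').2).choose_spec
    have h1 := (exists_of_mem_torus g.2).choose_spec
    have h2 := (exists_of_mem_torus g'.2).choose_spec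
    have e : diagGL (exists_of_mem_torus (g * g').2).choose =
        diagGL ((exists_of_mem_torus g.2).choose * (exists_of_mem_torus g'.2).choose) := by
      rw [← h, diagGL_mul, ← h1, ← h2]
      rfl
    exact congrFun (diagGL_inj e) a

theorem entryHom_diag (d : Fin n → Fˣ) (a : Fin n) (h : diagGL d ∈ torus n F) :
    entryHom a ⟨diagGL d, h⟩ = d a :=
  congrFun (diagGL_inj (exists_of_mem_torus h).choose_spec).symm a

/-- Entries outside the inverted positions of an element of an out part vanish. -/
theorem outPart_support {w : Equiv.Perm (Fin n)} {g : GL (Fin n) F} (hg : g ∈ outPart w⁻¹)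
    {a b : Fin n} (hw : w a < w b) : (g : Matrix (Fin n) (Fin n) F) a b = 0 := by
  have h := mem_lowerGL.1 (mem_outPart.1 hg).2 (w a) (w b) hw
  rwa [perm_conj_apply, Equiv.Perm.inv_def, Equiv.symm_apply_apply, Equiv.symm_apply_apply] at h

/-- The adjacent coroot at `i`. -/
def adjVec (i : ℕ) (l : Fˣ) : Fin n → Fˣ := fun x =>
  if (x : ℕ) = i then l else if (x : ℕ) = i + 1 then l⁻¹ else 1

/-- A value at `i` compensated at `N`. -/
def farVec (i N : ℕ) (l : Fˣ) : Fin n → Fˣ := fun x =>
  (if (x : ℕ) = i then l else 1) * (if (x : ℕ) = N then l⁻¹ else 1)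

theorem farVec_self (i : ℕ) (l : Fˣ) : (farVec i i l : Fin n → Fˣ) = 1 := by
  funext x; simp only [farVec]; split_ifs <;> simp

theorem farVec_succ (i : ℕ) (l : Fˣ) : (farVec i (i + 1) l : Fin n → Fˣ) = adjVec i l := by
  funext x; simp only [farVec, adjVec]; split_ifs <;> first | omega | simp

theorem farVec_trans (i j N : ℕ) (l : Fˣ) :
    (farVec i N l : Fin n → Fˣ) = farVec i j l * farVec j N l := by
  funext x
  simp only [farVec, Pi.mul_apply]
  split_ifs <;> simp

theorem farVec_mem {S : Subgroup (Fin n → Fˣ)} {N : ℕ}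
    (hS : ∀ i, i < N → ∀ l : Fˣ, adjVec i l ∈ S) {i : ℕ} (hi : i ≤ N) (l : Fˣ) : farVec i N l ∈ S := by
  induction hi using Nat.decreasingInduction with
  | self => rw [farVec_self]; exact one_mem S
  | of_succ j hj ih =>
    rw [farVec_trans j (j + 1) N, farVec_succ]
    exact mul_mem (hS j hj l) ih

/-- Telescoping: a vector supported below `N` whose product is one lies in the span of the adjacent
coroots. -/
theorem mem_of_prod_one {S : Subgroup (Fin n → Fˣ)} {N : Fin n}
    (hS : ∀ i, i < (N : ℕ) → ∀ l : Fˣ, adjVec i l ∈ S) (d : Fin n → Fˣ) (hd : ∀ x, N < x → d x = 1)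
    (hp : ∏ x, d x = 1) : d ∈ S := by
  have e : d = ∏ x ∈ Finset.univ.filter (fun x => x ≤ N), farVec (x : ℕ) (N : ℕ) (d x) := by
    funext y
    rw [Finset.prod_apply]
    simp only [farVec, Finset.prod_mul_distrib, Fin.val_inj]
    rw [Finset.prod_ite_eq]
    by_cases hy : y = N
    · subst hy
      simp only [le_refl, Finset.mem_filter, Finset.mem_univ, true_and, if_true, Finset.prod_inv_distrib]
      have hall : ∏ x ∈ Finset.univ.filter (fun x => x ≤ y), d x = 1 := by
        rw [Finset.prod_filter_of_ne]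
        · exact hp
        · intro x _ hx
          by_contra h
          exact hx (hd x (not_le.1 h))
      rw [hall, inv_one, mul_one]
    · simp only [if_neg hy, Finset.prod_const_one, mul_one, Finset.mem_filter, Finset.mem_univ, true_and]
      split_ifs with h
      · rfl
      · exact hd y (not_le.1 h)
  rw [e]
  exact Subgroup.prod_mem S fun x hx => farVec_mem hS (Finset.mem_filter.1 hx).2 _

/-- Conjugation by a diagonal matrix on the special linear group. -/
noncomputable def dconjSL (d : Fin k → Fˣ) (M : SpecialLinearGroup (Fin k) F) :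
    SpecialLinearGroup (Fin k) F :=
  ⟨((diagGL d * SpecialLinearGroup.toGL M * (diagGL d)⁻¹ : GL (Fin k) F) : Matrix (Fin k) (Fin k) F), by
    show (Matrix.GeneralLinearGroup.det (diagGL d * SpecialLinearGroup.toGL M * (diagGL d)⁻¹) : F) = 1
    rw [map_mul, map_mul, map_inv, mul_comm (GeneralLinearGroup.det (diagGL d)), mul_inv_cancel_right]
    exact M.2⟩

theorem dconjSL_apply (d : Fin k → Fˣ) (M : SpecialLinearGroup (Fin k) F) (a b : Fin k) :
    (dconjSL d M : Matrix (Fin k) (Fin k) F) a b =
      (d a : F) * (M : Matrix (Fin k) (Fin k) F) a b * ((d b)⁻¹ : Fˣ) :=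
  diag_conj_apply d _ a b

theorem isJordan_dconj (d : Fin k → Fˣ) {X : SpecialLinearGroup (Fin k) F} (h : IsJordan X) :
    IsJordan (dconjSL d X) :=
  isJordan_of_isReg (h.isReg.conj (diagGL d))

/-- Conjugation by a permutation on the special linear group. -/
def permSL (π : Equiv.Perm (Fin k)) (M : SpecialLinearGroup (Fin k) F) : SpecialLinearGroup (Fin k) F :=
  ⟨(M : Matrix (Fin k) (Fin k) F).submatrix π π, by rw [Matrix.det_submatrix_equiv_self]; exact M.2⟩

theorem isJordan_perm (π : Equiv.Perm (Fin k)) {X : SpecialLinearGroup (Fin k) F} (h : IsJordan X) :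
    IsJordan (permSL π X) := by
  refine isJordan_of_isReg ?_
  have h1 := h.isReg.conj ((permGL F π)⁻¹)
  rw [inv_inv] at h1
  have e : (permSL π X : Matrix (Fin k) (Fin k) F) =
      ((permGL F π)⁻¹ : GL (Fin k) F) * (X : Matrix (Fin k) (Fin k) F) * (permGL F π : GL (Fin k) F) := by
    ext a b
    exact (perm_conj_apply π (SpecialLinearGroup.toGL X) a b).symm
  rwa [e]

theorem embGL_trans_perm (e : Fin k ↪ Fin n) (π : Equiv.Perm (Fin k)) (M : SpecialLinearGroup (Fin k) F) :
    embGL (π.toEmbedding.trans e) M = embGL e (permSL π.symm M) := by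
  refine eq_embGL e _ _ (fun a b => ?_) (fun y hy j => ?_) (fun y hy i => ?_)
  · have := embGL_apply (π.toEmbedding.trans e) M (π.symm a) (π.symm b)
    simpa [permSL] using this
  · exact embGL_left _ M (fun ⟨a, ha⟩ => hy ⟨π a, ha⟩) j
  · exact embGL_right _ M (fun ⟨a, ha⟩ => hy ⟨π a, ha⟩) i

/-- All Jordan elements are conjugate to the standard one by a special linear element after a
diagonal twist at one coordinate. -/
theorem exists_jordan_conj (z : Fin k) {X : SpecialLinearGroup (Fin k) F} (h : IsJordan X) :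
    ∃ (δ : Fˣ) (P : SpecialLinearGroup (Fin k) F),
      P * dconjSL (Function.update 1 z δ) (jordanSL F k) * P⁻¹ = X := by
  obtain ⟨Q, hQ⟩ := h
  set δ := Matrix.GeneralLinearGroup.det Q with hδ
  set D : GL (Fin k) F := diagGL (Function.update 1 z δ) with hD
  have hdetD : Matrix.GeneralLinearGroup.det D = δ := by
    refine Units.ext ?_
    show Matrix.det (D : Matrix (Fin k) (Fin k) F) = _
    rw [hD, diagGL_coe, Matrix.det_diagonal, Finset.prod_eq_single z]
    · simp
    · intro b _ hb; simp [Function.update_of_ne hb]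
    · simp
  have hdet : ((Q * D⁻¹ : GL (Fin k) F) : Matrix (Fin k) (Fin k) F).det = 1 := by
    show (Matrix.GeneralLinearGroup.det (Q * D⁻¹) : F) = 1
    rw [map_mul, map_inv, hdetD, ← hδ, mul_inv_cancel, Units.val_one]
  refine ⟨δ, (⟨_, hdet⟩ : SpecialLinearGroup (Fin k) F), ?_⟩
  refine mul_inv_eq_iff_eq_mul.2 ?_
  refine Subtype.ext ?_
  show ((Q * D⁻¹ : GL (Fin k) F) : Matrix (Fin k) (Fin k) F) *
      (dconjSL (Function.update 1 z δ) (jordanSL F k) : Matrix (Fin k) (Fin k) F) =
    (X : Matrix (Fin k) (Fin k) F) * ((Q * D⁻¹ : GL (Fin k) F) : Matrix (Fin k) (Fin k) F)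
  show ((Q * D⁻¹ : GL (Fin k) F) : Matrix (Fin k) (Fin k) F) *
      ((D * SpecialLinearGroup.toGL (jordanSL F k) * D⁻¹ : GL (Fin k) F) : Matrix (Fin k) (Fin k) F) =
    ((SpecialLinearGroup.toGL X : GL (Fin k) F) : Matrix (Fin k) (Fin k) F) *
      ((Q * D⁻¹ : GL (Fin k) F) : Matrix (Fin k) (Fin k) F)
  rw [← Units.val_mul, ← Units.val_mul, Units.val_inj]
  have e : SpecialLinearGroup.toGL X * Q = Q * SpecialLinearGroup.toGL (jordanSL F k) := Units.ext hQ
  rw [← mul_assoc (SpecialLinearGroup.toGL X), e]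
  group

end Cfsg.Agent.H14.ThompsonSplit
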