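import Cfsg.Agent.H14.ThompsonSplit.Glue
import Cfsg.Agent.H14.ThompsonSplit.Diag

/-!
Products of adjacent transvections are regular unipotent.
-/

set_option autoImplicit false
set_option linter.unusedSectionVars false

namespace Cfsg.Agent.H14.ThompsonSplit

open Matrix
open scoped MatrixGroups

variable {k : ℕ} {F : Type*} [Field F]

theorem IsUpperUni.mul {A B : SpecialLinearGroup (Fin k) F} (hA : IsUpperUni A) (hB : IsUpperUni B) :
    IsUpperUni (A * B) := by
  intro i j hji
  rw [Matrix.SpecialLinearGroup.coe_mul, Matrix.mul_apply, Finset.sum_eq_single i]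
  · rw [hA i i le_rfl, if_pos rfl, one_mul, hB i j hji]
  · intro l _ hl
    rcases lt_or_ge l i with h | h
    · rw [hA i l h.le, if_neg (Ne.symm hl), zero_mul]
    · rw [hB l j (hji.trans h),
        if_neg (fun e => hl (le_antisymm (e.le.trans hji) h)), mul_zero]
  · simp

theorem isUpperUni_one : IsUpperUni (1 : SpecialLinearGroup (Fin k) F) := fun i j _ => by
  rw [Matrix.SpecialLinearGroup.coe_one, Matrix.one_apply]

theorem isUpperUni_transvection {i j : Fin k} (h : i < j) (t : F) :
    IsUpperUni (SpecialLinearGroup.transvection h.ne t) := by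
  intro a b hba
  show Matrix.transvection i j t a b = _
  rw [Matrix.transvection, Matrix.add_apply, Matrix.one_apply,
    Matrix.single_apply_of_ne i j t a b, add_zero]
  rintro ⟨rfl, rfl⟩
  exact absurd hba (not_le.2 h)

/-- The upper unitriangular matrices. -/
def upperUniSub [Finite F] : Subgroup (SpecialLinearGroup (Fin k) F) where
  carrier := {A | IsUpperUni A}
  one_mem' := isUpperUni_one
  mul_mem' := fun ha hb => IsUpperUni.mul ha hb
  inv_mem' := by
    intro a ha
    have hp : ∀ m : ℕ, IsUpperUni (a ^ m) := fun m => by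
      induction m with
      | zero => rw [pow_zero]; exact isUpperUni_one
      | succ m ih => rw [pow_succ]; exact ih.mul ha
    have e : a⁻¹ = a ^ (orderOf a - 1) := by
      rw [inv_eq_iff_mul_eq_one, ← pow_succ', Nat.sub_add_cancel (orderOf_pos a), pow_orderOf_eq_one]
    exact e ▸ hp _

theorem isLowerUni_transpose {A : SpecialLinearGroup (Fin k) F} (hA : IsUpperUni A) :
    IsLowerUni (Matrix.SpecialLinearGroup.transpose A) := fun i j h => by
  rw [Matrix.SpecialLinearGroup.coe_transpose, Matrix.transpose_apply, hA j i h]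
  simp only [eq_comm]

theorem IsLowerUni.mul {A B : SpecialLinearGroup (Fin k) F} (hA : IsLowerUni A) (hB : IsLowerUni B) :
    IsLowerUni (A * B) := by
  intro i j hji
  rw [Matrix.SpecialLinearGroup.coe_mul, Matrix.mul_apply, Finset.sum_eq_single i]
  · rw [hA i i le_rfl, if_pos rfl, one_mul, hB i j hji]
  · intro l _ hl
    rcases lt_or_ge i l with h | h
    · rw [hA i l h.le, if_neg (Ne.symm hl), zero_mul]
    · rw [hB l j (h.trans hji),
        if_neg (fun e => hl (le_antisymm h (hji.trans e.ge))), mul_zero]
  · simp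

theorem isLowerUni_one : IsLowerUni (1 : SpecialLinearGroup (Fin k) F) := fun i j _ => by
  rw [Matrix.SpecialLinearGroup.coe_one, Matrix.one_apply]

theorem isLowerUni_transvection {i j : Fin k} (h : j < i) (t : F) :
    IsLowerUni (SpecialLinearGroup.transvection h.ne' t) := by
  intro a b hba
  show Matrix.transvection i j t a b = _
  rw [Matrix.transvection, Matrix.add_apply, Matrix.one_apply,
    Matrix.single_apply_of_ne i j t a b, add_zero]
  rintro ⟨rfl, rfl⟩
  exact absurd hba (not_le.2 h)

/-- The lower unitriangular matrices. -/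
def lowerUniSub [Finite F] : Subgroup (SpecialLinearGroup (Fin k) F) where
  carrier := {A | IsLowerUni A}
  one_mem' := isLowerUni_one
  mul_mem' := fun ha hb => IsLowerUni.mul ha hb
  inv_mem' := by
    intro a ha
    have hp : ∀ m : ℕ, IsLowerUni (a ^ m) := fun m => by
      induction m with
      | zero => rw [pow_zero]; exact isLowerUni_one
      | succ m ih => rw [pow_succ]; exact ih.mul ha
    have e : a⁻¹ = a ^ (orderOf a - 1) := by
      rw [inv_eq_iff_mul_eq_one, ← pow_succ', Nat.sub_add_cancel (orderOf_pos a), pow_orderOf_eq_one]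
    exact e ▸ hp _

/-- An upper unitriangular matrix with no zero above the diagonal next to it is regular. -/
theorem isJordan_of_upper {X : SpecialLinearGroup (Fin k) F} (hX : IsUpperUni X)
    (h : ∀ i j : Fin k, (j : ℕ) = i + 1 → (X : Matrix (Fin k) (Fin k) F) i j ≠ 0) : IsJordan X := by
  refine isJordan_of_isReg ?_
  set N := (X : Matrix (Fin k) (Fin k) F) - 1 with hN
  have h1 : ∀ i j : Fin k, (j : ℕ) < i + 1 → N i j = 0 := fun i j hij => by
    rw [hN, Matrix.sub_apply, Matrix.one_apply, hX i j (Fin.mk_le_mk.2 (by omega) : j ≤ i), sub_self]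
  have h2 : ∀ m : ℕ, (∀ i j : Fin k, (j : ℕ) < i + m → (N ^ m) i j = 0) ∧
      ∀ i j : Fin k, (j : ℕ) = i + m → (N ^ m) i j ≠ 0 := by
    intro m
    induction m with
    | zero =>
      exact ⟨fun i j hij => by rw [pow_zero, Matrix.one_apply_ne (fun e => by subst e; omega)],
        fun i j hij => by
          rw [pow_zero, show i = j from Fin.ext hij.symm, Matrix.one_apply_eq]; exact one_ne_zero⟩
    | succ m ih =>
      refine ⟨fun i j hij => ?_, fun i j hij => ?_⟩
      · rw [pow_succ, Matrix.mul_apply]
        refine Finset.sum_eq_zero fun l _ => ?_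
        rcases lt_or_ge (l : ℕ) (i + m) with h' | h'
        · rw [ih.1 i l h', zero_mul]
        · rw [h1 l j (by omega), mul_zero]
      · have hl : (i : ℕ) + m < k := by have := j.isLt; omega
        rw [pow_succ, Matrix.mul_apply, Finset.sum_eq_single (⟨(i : ℕ) + m, hl⟩ : Fin k)]
        · refine mul_ne_zero (ih.2 _ _ rfl) ?_
          rw [hN, Matrix.sub_apply,
            Matrix.one_apply_ne (fun e => by have := congrArg Fin.val e; simp at this; omega), sub_zero]
          exact h _ _ (by simp only; omega)
        · intro l _ hl'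
          rcases lt_or_ge (l : ℕ) (i + m) with h' | h'
          · rw [ih.1 i l h', zero_mul]
          · rw [h1 l j (by
              have : (l : ℕ) ≠ i + m := fun e => hl' (Fin.ext e)
              omega), mul_zero]
        · simp
  refine ⟨Matrix.ext fun i j => (h2 k).1 i j (by have := j.isLt; omega), ?_⟩
  rcases Nat.eq_zero_or_pos k with hk | hk
  · exact Or.inl hk
  refine Or.inr fun h0 => (h2 (k - 1)).2 ⟨0, hk⟩ ⟨k - 1, by omega⟩ (by simp) ?_
  rw [hN, h0]
  rfl

/-- The adjacent pairs. -/
abbrev Adj (k : ℕ) : Type := {p : Fin k × Fin k // (p.2 : ℕ) = p.1 + 1}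

theorem Adj.lt (p : Adj k) : p.1.1 < p.1.2 := Fin.lt_def.2 (by have := p.2; omega)

/-- The adjacent transvection. -/
def upT (p : Adj k) (t : F) : SpecialLinearGroup (Fin k) F := SpecialLinearGroup.transvection p.lt.ne t

/-- The opposite adjacent transvection. -/
def loT (p : Adj k) (t : F) : SpecialLinearGroup (Fin k) F := SpecialLinearGroup.transvection p.lt.ne' t

theorem upT_transpose (p : Adj k) (t : F) :
    Matrix.SpecialLinearGroup.transpose (upT p t) = loT p t := by
  refine Subtype.ext ?_
  show (Matrix.transvection p.1.1 p.1.2 t)ᵀ = Matrix.transvection p.1.2 p.1.1 t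
  simp [Matrix.transvection, Matrix.transpose_add]

theorem list_upT {α : Type*} (q : α → Adj k) (t : α → F) : ∀ L : List α,
    IsUpperUni (L.map fun a => upT (q a) (t a)).prod ∧ ∀ i j : Fin k, (hij : (j : ℕ) = i + 1) →
      (((L.map fun a => upT (q a) (t a)).prod : SpecialLinearGroup (Fin k) F) :
        Matrix (Fin k) (Fin k) F) i j =
        (L.map fun a => if q a = ⟨(i, j), hij⟩ then t a else 0).sum
  | [] => ⟨isUpperUni_one, fun i j hij => by
      simp [Matrix.one_apply_ne (show i ≠ j from fun e => by subst e; omega)]⟩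
  | a :: L => by
    obtain ⟨ih1, ih2⟩ := list_upT q t L
    have ha : IsUpperUni (upT (q a) (t a)) := isUpperUni_transvection (q a).lt (t a)
    refine ⟨?_, fun i j hij => ?_⟩
    · rw [List.map_cons, List.prod_cons]; exact ha.mul ih1
    · rw [List.map_cons, List.prod_cons, List.map_cons, List.sum_cons, ← ih2 i j hij,
        Matrix.SpecialLinearGroup.coe_mul, Matrix.mul_apply]
      have hne : i ≠ j := fun e => by subst e; omega
      rw [Finset.sum_eq_add_of_mem i j (Finset.mem_univ _) (Finset.mem_univ _) hne]
      · rw [ha i i le_rfl, if_pos rfl, one_mul, ih1 j j le_rfl, if_pos rfl, mul_one, add_comm]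
        congr 1
        show Matrix.transvection _ _ _ i j = _
        rw [Matrix.transvection, Matrix.add_apply, Matrix.one_apply_ne hne, zero_add,
          Matrix.single_apply]
        simp only [Subtype.ext_iff, Prod.ext_iff]
      · intro l _ ⟨hl1, hl2⟩
        rcases lt_or_ge (l : ℕ) i with h | h
        · rw [ha i l (Fin.mk_le_mk.2 h.le), if_neg (Ne.symm hl1), zero_mul]
        · have : (i : ℕ) ≠ l := fun e => hl1 (Fin.ext e.symm)
          rw [ih1 l j (Fin.mk_le_mk.2 (by omega) : j ≤ l), if_neg hl2, mul_zero]

/-- The product of all adjacent transvections, in any order. -/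
theorem isJordan_prod_upT {α : Type*} [Fintype α] (q : α → Adj k) (hq : Function.Bijective q) (t : α → F)
    (ht : ∀ a, t a ≠ 0) :
    IsJordan ((Finset.univ : Finset α).toList.map fun a => upT (q a) (t a)).prod := by
  classical
  obtain ⟨h1, h2⟩ := list_upT q t (Finset.univ : Finset α).toList
  refine isJordan_of_upper h1 fun i j hij => ?_
  obtain ⟨a, ha⟩ := hq.2 ⟨(i, j), hij⟩
  rw [h2 i j hij, Finset.sum_map_toList, Finset.sum_eq_single a]
  · rw [if_pos ha]; exact ht a
  · exact fun b _ hb => if_neg (fun e => hb (hq.1 (e.trans ha.symm)))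
  · simp

/-- The product of all opposite adjacent transvections, in any order. -/
theorem isJordan_prod_loT {α : Type*} [Fintype α] (q : α → Adj k) (hq : Function.Bijective q) (t : α → F)
    (ht : ∀ a, t a ≠ 0) :
    IsJordan ((Finset.univ : Finset α).toList.map fun a => loT (q a) (t a)).prod := by
  classical
  have hT : ∀ L : List α, (((L.map fun a => loT (q a) (t a)).prod : SpecialLinearGroup (Fin k) F) :
      Matrix (Fin k) (Fin k) F)ᵀ = ((L.reverse.map fun a => upT (q a) (t a)).prod :
        SpecialLinearGroup (Fin k) F) := by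
    intro L
    induction L with
    | nil => simp
    | cons a L ih =>
      rw [List.map_cons, List.prod_cons, List.reverse_cons, List.map_append, List.prod_append,
        Matrix.SpecialLinearGroup.coe_mul, Matrix.SpecialLinearGroup.coe_mul, Matrix.transpose_mul, ih,
        ← upT_transpose, Matrix.SpecialLinearGroup.coe_transpose, Matrix.transpose_transpose]
      simp
  obtain ⟨h1, h2⟩ := list_upT q t (Finset.univ : Finset α).toList.reverse
  have h3 : IsJordan (((Finset.univ : Finset α).toList.reverse).map fun a => upT (q a) (t a)).prod := by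
    refine isJordan_of_upper h1 fun i j hij => ?_
    obtain ⟨a, ha⟩ := hq.2 ⟨(i, j), hij⟩
    rw [h2 i j hij, List.map_reverse, List.sum_reverse, Finset.sum_map_toList, Finset.sum_eq_single a]
    · rw [if_pos ha]; exact ht a
    · exact fun b _ hb => if_neg (fun e => hb (hq.1 (e.trans ha.symm)))
    · simp
  refine isJordan_of_isReg ?_
  have h4 := h3.isReg.transpose
  rwa [← hT, Matrix.transpose_transpose] at h4

theorem dconjSL_one (d : Fin k → Fˣ) : dconjSL d (1 : SpecialLinearGroup (Fin k) F) = 1 := by
  refine Subtype.ext ?_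
  ext a b
  rw [dconjSL_apply, Matrix.SpecialLinearGroup.coe_one, Matrix.one_apply]
  by_cases h : a = b
  · subst h; simp
  · simp [h]

theorem dconjSL_mul (d : Fin k → Fˣ) (M N : SpecialLinearGroup (Fin k) F) :
    dconjSL d (M * N) = dconjSL d M * dconjSL d N := by
  refine Subtype.ext ?_
  show _ = (dconjSL d M : Matrix (Fin k) (Fin k) F) * (dconjSL d N : Matrix (Fin k) (Fin k) F)
  ext a b
  rw [dconjSL_apply, Matrix.SpecialLinearGroup.coe_mul, Matrix.mul_apply, Matrix.mul_apply,
    Finset.mul_sum, Finset.sum_mul]
  refine Finset.sum_congr rfl fun l _ => ?_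
  rw [dconjSL_apply, dconjSL_apply]
  have hl : ((((d l)⁻¹ : Fˣ) : F)) * (d l : F) = 1 := by simp
  linear_combination (-((d a : F) * (M : Matrix (Fin k) (Fin k) F) a l *
    (N : Matrix (Fin k) (Fin k) F) l b * ((((d b)⁻¹ : Fˣ) : F)))) * hl

theorem dconjSL_transvection (d : Fin k → Fˣ) {i j : Fin k} (h : i ≠ j) (t : F) :
    dconjSL d (SpecialLinearGroup.transvection h t) =
      SpecialLinearGroup.transvection h ((d i : F) * t * (((d j)⁻¹ : Fˣ) : F)) := by
  refine Subtype.ext ?_
  ext a b
  rw [dconjSL_apply]
  show _ * Matrix.transvection i j t a b * _ = Matrix.transvection i j _ a b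
  simp only [Matrix.transvection, Matrix.add_apply, Matrix.one_apply, Matrix.single_apply]
  by_cases hab : a = b
  · subst hab
    have : ¬ (i = a ∧ j = a) := fun e => h (e.1.trans e.2.symm)
    simp [this]
  · by_cases hh : i = a ∧ j = b
    · obtain ⟨rfl, rfl⟩ := hh
      simp [hab]
    · simp [hab, hh]

end Cfsg.Agent.H14.ThompsonSplit
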