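import Cfsg.Agent.H14.ThompsonSplit.ChevPinned
import Cfsg.Agent.H14.ThompsonSplit.RegUni
import Cfsg.Agent.H54.MinDeg.Chev
import Cfsg.Agent.S2401

/-!
A Levi subgroup of type A of an exceptional Chevalley group with a fixed point free semisimple
element, from a table.
-/

set_option autoImplicit false
set_option linter.unusedSectionVars false

namespace Cfsg.Agent.H14.ThompsonSplit.Exc

open Cfsg.Lie Cfsg.Agent.H37 Cfsg.Agent.H37.RootSys Cfsg.Agent.H56.ChevAut Cfsg.Agent.Chevalley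
open Cfsg.Agent.H13.Split Matrix
open scoped MatrixGroups
open Cfsg.Agent.H54 (MinDeg.cmOf MinDeg.Rel MinDeg.sysOf)

/-- A table for a system of roots of type `A` and two torus exponents. -/
structure AData (D : ChevalleyDatum) where
  k : ℕ
  k_pos : 0 < k
  rt : Fin k → Fin k → ℕ
  eps : Fin k → Fin k → ℤ
  c : Fin D.rank → ℤ
  d : Fin D.rank → ℤ

namespace AData

variable {D : ChevalleyDatum} (A : AData D)

/-- The weight of a root at the semisimple element. -/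
def wt (r : ℕ) : ℤ := ∑ j : Fin D.rank, A.c j * D.cartan j r

/-- The coordinates of the roots of the Levi subgroup. -/
def u (j : Fin D.rank) (a : Fin A.k) : ℤ :=
  if (a : ℕ) = 0 then 0 else D.cartan j (A.rt a ⟨0, A.k_pos⟩)

/-- The conditions on a table, with a word for the longest element. -/
structure Ok (w : ℕ → ℕ) : Prop where
  size : A.k = 1 ∨ 3 ≤ A.k
  rt_lt : ∀ a b, a ≠ b → A.rt a b < D.nroots
  sign : ∀ a b, a < b → D.nroots / 2 ≤ A.rt a b ∧ A.rt b a < D.nroots / 2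
  adj_inj : ∀ p q : Adj A.k, A.rt p.1.1 p.1.2 = A.rt q.1.1 q.1.2 → p = q
  pm : ∀ a b, A.eps a b = 1 ∨ A.eps a b = -1
  com : ∀ i j, i ≠ j → ∀ p l, p ≠ l → i ≠ l → j ≠ p →
    MinDeg.cmOf D (A.rt i j) (A.rt p l) = MinDeg.Rel.zero
  mul : ∀ i j l, i ≠ j → j ≠ l → i ≠ l → MinDeg.cmOf D (A.rt i j) (A.rt j l) =
    MinDeg.Rel.one (A.rt i l) (A.eps i j * A.eps j l * A.eps i l)
  wt0 : ∀ a b, a ≠ b → A.wt (A.rt a b) = 0
  cover : ∀ r, r < D.nroots → A.wt r = 0 → ∃ a b, a ≠ b ∧ A.rt a b = r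
  nonneg : ∀ r, r < D.nroots → D.nroots / 2 ≤ r → 0 ≤ A.wt r
  small : ∀ r, r < D.nroots → (A.wt r).natAbs ≤ 7
  long : ∀ r, r < D.nroots → A.wt (w r) = -A.wt r
  adj : ∀ p : Adj A.k, ∃ q : Adj A.k, w (A.rt p.1.1 p.1.2) = A.rt q.1.2 q.1.1
  coord : ∀ j a b, a ≠ b → D.cartan (j : Fin D.rank) (A.rt a b) = A.u j a - A.u j b
  delta : ∀ a b, a ≠ b → (∑ j : Fin D.rank, A.d j * D.cartan j (A.rt a b)) =
    (if (a : ℕ) = 0 then 1 else 0) - (if (b : ℕ) = 0 then 1 else 0)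

end AData

variable {D : ChevalleyDatum} {F : Type*} [Field F] (S : Setup D F)

theorem scal_zpow (e : Fin D.rank → ℤ) (x : Fˣ) (r : ℕ) :
    scal (fun j => x ^ e j) r = x ^ ∑ j : Fin D.rank, e j * D.cartan j r := by
  rw [scal]
  have key : ∀ s : Finset (Fin D.rank),
      ∏ m ∈ s, (x ^ e m) ^ D.cartan m r = x ^ ∑ j ∈ s, e j * D.cartan j r := by
    intro s
    induction s using Finset.induction_on with
    | empty => simp
    | insert a s ha ih =>
      rw [Finset.prod_insert ha, Finset.sum_insert ha, _root_.zpow_add, ih, ← _root_.zpow_mul]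
  exact key _

/-- The torus element with given coordinates, in the group. -/
noncomputable def torG (c : Fin D.rank → Fˣ) : ↥(D.group F) :=
  ⟨torus D F c, H37.diagonal_le_group S.Q.ord (by rw [S.Q.K.diagonalSubgroup_eq F]; exact ⟨c, rfl⟩)⟩

theorem torG_mem (c : Fin D.rank → Fˣ) : torG S c ∈ S.Q.amb.H := by
  show torus D F c ∈ D.diagonalSubgroup F
  rw [S.Q.K.diagonalSubgroup_eq F]
  exact ⟨c, rfl⟩

theorem torG_conj (c : Fin D.rank → Fˣ) {r : ℕ} (hr : r < D.nroots) (t : F) :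
    torG S c * xr S r t * (torG S c)⁻¹ = xr S r ((scal c r : F) * t) :=
  H_conj_xr S (torG_mem S c) rfl hr t

/-- The representatives act linearly on the root elements. -/
theorem rep_conj_lin (w : S.Q.X.M.Group) : ∀ r (hr : r < D.nroots), ∃ μ : Fˣ, ∀ t,
    S.Q.sys.rep w * xr S r t * (S.Q.sys.rep w)⁻¹ =
      xr S (S.Q.X.good.hom w ⟨r, hr⟩).val ((μ : F) * t) := by
  refine Sys.gen_induction (p := fun w => ∀ r (hr : r < D.nroots), ∃ μ : Fˣ, ∀ t,
    S.Q.sys.rep w * xr S r t * (S.Q.sys.rep w)⁻¹ =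
      xr S (S.Q.X.good.hom w ⟨r, hr⟩).val ((μ : F) * t)) ?_ ?_ w
  · intro r hr
    exact ⟨1, fun t => by simp [S.Q.sys.rep_one]⟩
  · intro i w ih r hr
    obtain ⟨μ, hμ⟩ := ih r hr
    obtain ⟨k, hk, e1⟩ := S.Q.sys.rep_mul (S.Q.X.M.simple i) w
    obtain ⟨h, hh, e2⟩ := S.Q.sys.rep_simple i
    have hi : (i : ℕ) < D.rank := S.Q.rank_eq.symm ▸ i.isLt
    have hlt : (S.Q.X.good.hom w ⟨r, hr⟩).val < D.nroots := Fin.isLt _
    set s := (S.Q.X.good.hom w ⟨r, hr⟩).val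
    have hsg : ((S.Q.K.sg i s : ℤ) : F) ≠ 0 := by rcases S.Q.K.sg_pm i s with e | e <;> simp [e]
    have hkh : k⁻¹ * h ∈ S.Q.amb.H := mul_mem (inv_mem hk) hh
    obtain ⟨c, hc⟩ := exists_torus S hkh
    have hw : S.Q.K.w i s < D.nroots := (S.Q.K.w_lt i hi s hlt).1
    refine ⟨scal c (S.Q.K.w i s) * Units.mk0 _ hsg * μ, fun t => ?_⟩
    have e5 : S.Q.sys.rep (S.Q.X.M.simple i * w) = k⁻¹ * h * S.Q.sys.ns i * S.Q.sys.rep w := by
      rw [mul_assoc k⁻¹, ← e2, mul_assoc, e1, inv_mul_cancel_left]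
    have e3 : S.Q.sys.ns i * xr S s ((μ : F) * t) * (S.Q.sys.ns i)⁻¹ =
        xr S (S.Q.K.w i s) (((S.Q.K.sg i s : ℤ) : F) * ((μ : F) * t)) :=
      Subtype.ext (S.Q.K.nS_conj_xU F hi hlt _)
    rw [map_mul, Equiv.Perm.mul_apply, S.Q.X.good.hom_simple, S.Q.X.good.sigmaPerm_val,
      show S.Q.X.C.sigma i s = S.Q.K.w i s from sigma_eq_w S.Q.X.good S.Q.K i.isLt hlt, e5,
      show k⁻¹ * h * S.Q.sys.ns i * S.Q.sys.rep w * xr S r t *
          (k⁻¹ * h * S.Q.sys.ns i * S.Q.sys.rep w)⁻¹ =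
        k⁻¹ * h * (S.Q.sys.ns i * (S.Q.sys.rep w * xr S r t * (S.Q.sys.rep w)⁻¹) * (S.Q.sys.ns i)⁻¹) *
          (k⁻¹ * h)⁻¹ by group, hμ, e3, H_conj_xr S hkh hc hw]
    congr 1
    simp only [Units.val_mul, Units.val_mk0]
    ring

theorem E_eq_top [Finite F] (P : Pinned S.Q.amb S.Q.X.w0 F (Fin D.rank)) (hP : P.φ = node S) :
    P.E = ⊤ := by
  refine S.Q.sys.top _ (fun r hr hp t => P.U_le (S.Q.sys.x_mem_U hr hp t))
    ((le_H₀ S P hP).trans fun x hx => (P.H₀_le hx).2) fun i hi => ?_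
  have := P.φ_mem ⟨i, S.Q.rank_eq.symm ▸ hi⟩ (wSL F)
  rw [hP, node_w] at this
  exact this

section General

variable (A : AData D)

include S in
theorem wt_neg {r : ℕ} (hr : r < D.nroots) : A.wt (D.neg r) = -A.wt r := by
  simp only [AData.wt, ← Finset.sum_neg_distrib]
  exact Finset.sum_congr rfl fun j _ => by rw [S.Q.K.cartan_neg_root j.isLt hr]; ring

include S in
theorem cartan_combo {r s k : ℕ} (hr : r < D.nroots) (hs : s < D.nroots) (hk : k < D.nroots) {a b : ℕ}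
    (h : ∀ i, i < D.rank → S.Q.K.cf k i = a * S.Q.K.cf r i + b * S.Q.K.cf s i) {i : ℕ} (hi : i < D.rank) :
    D.cartan i k = a * D.cartan i r + b * D.cartan i s := by
  rw [S.Q.K.cartan_lin i hi k hk, S.Q.K.cartan_lin i hi r hr, S.Q.K.cartan_lin i hi s hs,
    List.map_congr_left (g := fun j => (a : ℤ) * (S.Q.K.cf r j * D.cartan i (D.simple j)) +
      (b : ℤ) * (S.Q.K.cf s j * D.cartan i (D.simple j)))
      (fun j hj => by rw [h j (List.mem_range.1 hj)]; ring),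
    List.sum_map_add, List.sum_map_mul_left, List.sum_map_mul_left]

include S in
theorem wt_combo {r s k : ℕ} (hr : r < D.nroots) (hs : s < D.nroots) (h : Combo S.Q.K r s k) :
    ∃ a b : ℕ, 0 < a ∧ 0 < b ∧ A.wt k = a * A.wt r + b * A.wt s := by
  obtain ⟨hk, a, b, ha, hb, e⟩ := h
  refine ⟨a, b, ha, hb, ?_⟩
  simp only [AData.wt, Finset.mul_sum, ← Finset.sum_add_distrib]
  exact Finset.sum_congr rfl fun j _ => by rw [cartan_combo S hr hs hk e j.isLt]; ring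

variable {A} {w : ℕ → ℕ} (ok : A.Ok w)

include S ok in
theorem pos_of_wt {r : ℕ} (hr : r < D.nroots) (h : 0 < A.wt r) : D.nroots / 2 ≤ r := by
  by_contra hn
  have hev := S.Q.K.two_half
  have h1 := ok.nonneg _ (S.Q.K.neg_lt hr) (by rw [S.Q.K.neg_eq _ hr]; omega)
  rw [wt_neg S A hr] at h1
  omega

include ok in
theorem exists_psi [Finite F] : ∃ φ : SL(A.k, F) →* ↥(D.group F), ∀ (i j : Fin A.k) (hij : i ≠ j) (t : F),
    φ (SpecialLinearGroup.transvection hij t) = xr S (A.rt i j) ((A.eps i j : F) * t) := by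
  classical
  rcases ok.size with h1 | h3
  · exact ⟨1, fun i j hij => absurd (Fin.ext (by have := i.isLt; have := j.isLt; omega)) hij⟩
  obtain ⟨e, he⟩ := Cfsg.Agent.S2401.result (K := F) A.k h3
  let X : {ij : Fin A.k × Fin A.k // ij.1 ≠ ij.2} × F → ↥(D.group F) := fun p =>
    xr S (A.rt p.1.1.1 p.1.1.2) ((A.eps p.1.1.1 p.1.1.2 : F) * p.2)
  refine ⟨(PresentedGroup.toGroup (f := X) ?_).comp e.symm.toMonoidHom, fun i j hij t => ?_⟩
  · rintro r ((⟨a, t, u, rfl⟩ | ⟨a, b, t, u, h1, h2, rfl⟩) | ⟨a, b, h, t, u, hab, rfl⟩) <;>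
      simp only [map_mul, map_inv, FreeGroup.lift_apply_of, X]
    · rw [mul_inv_eq_one, xr_add, mul_add]
    · rw [mul_inv_eq_one, mul_inv_eq_iff_eq_mul]
      exact ((MinDeg.sysOf S.Q.K F).comm0 _ _ (ok.com _ _ a.2 _ _ b.2 h1 h2) _ _).eq
    · obtain ⟨⟨i, j⟩, hij⟩ := a
      obtain ⟨⟨j', l⟩, hjl⟩ := b
      obtain rfl : j = j' := hab
      rw [mul_inv_eq_one, mul_inv_eq_iff_eq_mul, mul_inv_eq_iff_eq_mul]
      refine ((MinDeg.sysOf S.Q.K F).comm1 _ _ _ _ (ok.mul i j l hij hjl h) _ _).trans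
        ((mul_assoc _ _ _).symm.trans ?_)
      have harg : ((A.eps i j * A.eps j l * A.eps i l : ℤ) : F) * ((A.eps i j : F) * t) * ((A.eps j l : F) * u) =
          (A.eps i l : F) * (t * u) := by
        rcases ok.pm i j with e1 | e1 <;> rcases ok.pm j l with e2 | e2 <;> simp [e1, e2] <;> ring
      rw [harg]
      rfl
  · have : e.symm (SpecialLinearGroup.transvection hij t) = PresentedGroup.of (⟨(i, j), hij⟩, t) :=
      e.symm_apply_eq.2 (Subtype.ext (he ⟨(i, j), hij⟩ t).symm)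
    simp only [MonoidHom.coe_comp, Function.comp_apply, MulEquiv.coe_toMonoidHom, this,
      PresentedGroup.toGroup.of, X]

/-- The Levi homomorphism. -/
noncomputable def psi [Finite F] : SL(A.k, F) →* ↥(D.group F) := (exists_psi S ok).choose

include ok in
theorem psi_trans [Finite F] {i j : Fin A.k} (hij : i ≠ j) (t : F) :
    psi S ok (SpecialLinearGroup.transvection hij t) = xr S (A.rt i j) ((A.eps i j : F) * t) :=
  (exists_psi S ok).choose_spec i j hij t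

include ok in
theorem eps_sq (i j : Fin A.k) (t : F) : (A.eps i j : F) * ((A.eps i j : F) * t) = t := by
  rcases ok.pm i j with e | e <;> simp [e]

include ok in
theorem torG_conj_psi [Finite F] {g : ↥(D.group F)} (hg : g ∈ S.Q.amb.H) {c : Fin D.rank → Fˣ}
    (hc : (g : GL D.Idx F) = torus D F c) (e : Fin A.k → Fˣ)
    (he : ∀ a b, a ≠ b → scal c (A.rt a b) = e a * (e b)⁻¹) (M : SL(A.k, F)) :
    g * psi S ok M * g⁻¹ = psi S ok (dconjSL e M) := by
  induction M using Cfsg.Agent.Linear.transvection_induction with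
  | one => rw [dconjSL_one, map_one, mul_one, mul_inv_cancel]
  | htr a b hab t =>
    rw [psi_trans, H_conj_xr S hg hc (ok.rt_lt a b hab), dconjSL_transvection, psi_trans,
      he a b hab, Units.val_mul]
    congr 1
    ring
  | hmul M N hM hN => rw [map_mul, dconjSL_mul, map_mul, ← hM, ← hN]; group

/-- The semisimple element. -/
noncomputable def hel (A : AData D) (ζ : Fˣ) : ↥(D.group F) := torG S fun j => ζ ^ A.c j

theorem hel_conj (A : AData D) (ζ : Fˣ) {r : ℕ} (hr : r < D.nroots) (t : F) :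
    hel S A ζ * xr S r t * (hel S A ζ)⁻¹ = xr S r (((ζ ^ A.wt r : Fˣ) : F) * t) := by
  rw [hel, torG_conj S _ hr, scal_zpow]
  rfl

include ok in
theorem hel_comm [Finite F] (ζ : Fˣ) (M : SL(A.k, F)) : Commute (hel S A ζ) (psi S ok M) := by
  refine mul_inv_eq_iff_eq_mul.1 ?_
  rw [hel, torG_conj_psi S ok (torG_mem S _) rfl (fun _ => (1 : Fˣ))]
  · congr 1
    refine Subtype.ext ?_
    ext a b
    rw [dconjSL_apply]
    simp
  · intro a b hab
    rw [scal_zpow, show (∑ j : Fin D.rank, A.c j * D.cartan j (A.rt a b)) = A.wt (A.rt a b) from rfl,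
      ok.wt0 a b hab]
    simp

/-- The roots of positive weight. -/
def Qset (A : AData D) : Finset ℕ := (posSet D).filter fun r => 0 < A.wt r

/-- The positive unipotent radical. -/
def QG (A : AData D) : Subgroup ↥(D.group F) := XS (xr S) (↑(Qset A) : Set ℕ)

/-- The negative unipotent radical. -/
def VG (A : AData D) : Subgroup ↥(D.group F) := XS (xr S) {r | r < D.nroots ∧ A.wt r < 0}

include S ok in
theorem mem_Qset {r : ℕ} : r ∈ Qset A ↔ r < D.nroots ∧ 0 < A.wt r := by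
  rw [Qset, Finset.mem_filter, mem_posSet]
  exact ⟨fun ⟨⟨a, _⟩, b⟩ => ⟨a, b⟩, fun ⟨a, b⟩ => ⟨⟨a, pos_of_wt S ok a b⟩, b⟩⟩

include ok in
theorem Qset_closed : S.Q.sys.toUnip.Closed (Qset A) := by
  refine ⟨fun r hr => mem_posSet.2 (mem_posSet.1 (Finset.mem_filter.1 hr).1), fun r hr s hs _ k hk => ?_⟩
  rw [mem_Qset S ok] at hr hs ⊢
  obtain ⟨a, b, ha, hb, e⟩ := wt_combo S A hr.1 hs.1 hk
  refine ⟨hk.1, ?_⟩
  rw [e]
  have := hr.2
  have := hs.2
  positivity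

include ok in
theorem psi_norm [Finite F] {T : Set ℕ}
    (hT : ∀ r ∈ T, r < D.nroots ∧ A.wt r ≠ 0)
    (hclo : ∀ r ∈ T, ∀ k, k < D.nroots → (∃ b : ℕ, 0 < b ∧ A.wt k = b * A.wt r) → k ∈ T)
    (M : SL(A.k, F)) : ∀ q ∈ XS (xr S) T, psi S ok M * q * (psi S ok M)⁻¹ ∈ XS (xr S) T := by
  induction M using Cfsg.Agent.Linear.transvection_induction with
  | one => intro q hq; simpa using hq
  | htr a b hab t =>
    intro q hq
    rw [psi_trans]
    refine conj_mem_XS (fun r hr v => ?_) hq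
    obtain ⟨hr1, hr2⟩ := hT r hr
    have h0 := ok.wt0 a b hab
    have hlt := ok.rt_lt a b hab
    have hne : A.rt a b ≠ r := fun e => hr2 (e ▸ h0)
    have hne' : A.rt a b ≠ D.neg r := fun e => hr2 (by
      rw [e, wt_neg S A hr1] at h0
      omega)
    rw [show xr S (A.rt a b) ((A.eps a b : F) * t) * xr S r v * (xr S (A.rt a b) ((A.eps a b : F) * t))⁻¹ =
      xr S (A.rt a b) ((A.eps a b : F) * t) * xr S r v * (xr S (A.rt a b) ((A.eps a b : F) * t))⁻¹ *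
        (xr S r v)⁻¹ * xr S r v by group]
    refine mul_mem (XS_mono (fun k hk => ?_) (xG_comm S.Q.K hlt hr1 hne hne' _ _)) (x_mem_XS hr _)
    obtain ⟨i, j, hi, hj, e⟩ := wt_combo S A hlt hr1 hk
    exact hclo r hr k hk.1 ⟨j, hj, by rw [e, h0, mul_zero, zero_add]⟩
  | hmul M N hM hN =>
    intro q hq
    rw [map_mul, show psi S ok M * psi S ok N * q * (psi S ok M * psi S ok N)⁻¹ =
      psi S ok M * (psi S ok N * q * (psi S ok N)⁻¹) * (psi S ok M)⁻¹ by group]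
    exact hM _ (hN q hq)

theorem hel_norm (A : AData D) (ζ : Fˣ) {T : Set ℕ} (hT : ∀ r ∈ T, r < D.nroots) :
    ∀ q ∈ XS (xr S) T, hel S A ζ * q * (hel S A ζ)⁻¹ ∈ XS (xr S) T := fun q hq =>
  conj_mem_XS (fun r hr t => by rw [hel_conj S A ζ (hT r hr)]; exact x_mem_XS hr _) hq

theorem zpow_ne_one [Fintype F] (hF : 9 ≤ Fintype.card F) {ζ : Fˣ} (hζ : orderOf ζ = Fintype.card F - 1)
    {m : ℤ} (hm : m ≠ 0) (hs : m.natAbs ≤ 7) : ζ ^ m ≠ 1 := by
  intro h
  rw [← orderOf_dvd_iff_zpow_eq_one, hζ] at h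
  have := Nat.le_of_dvd (Int.natAbs_pos.2 hm) (Int.natCast_dvd.1 h)
  omega

include ok in
/-- The semisimple element fixes nothing in the positive radical. -/
theorem fix_QG [Fintype F] (hF : 9 ≤ Fintype.card F) {ζ : Fˣ} (hζ : orderOf ζ = Fintype.card F - 1) :
    ∀ q ∈ QG S A, hel S A ζ * q * (hel S A ζ)⁻¹ = q → q = 1 := by
  have hS := Qset_closed S ok
  suffices ∀ m k, (Qset A).sup id < k + m → ∀ g ∈ XS (xr S) {r | r ∈ Qset A ∧ k ≤ r},
      hel S A ζ * g * (hel S A ζ)⁻¹ = g → g = 1 by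
    intro q hq
    exact this ((Qset A).sup id + 1) 0 (by omega) q (XS_mono
      (show (↑(Qset A) : Set ℕ) ⊆ {r | r ∈ Qset A ∧ 0 ≤ r} from fun r hr => ⟨hr, Nat.zero_le r⟩) hq)
  intro m
  induction m with
  | zero =>
    intro k hk g hg _
    have : {r | r ∈ Qset A ∧ k ≤ r} = ∅ := by
      refine Set.eq_empty_iff_forall_notMem.2 fun r hr => ?_
      have := Finset.le_sup (f := id) hr.1
      simp only [id_eq] at this
      have := hr.2
      omega
    rwa [this, XS_empty, Subgroup.mem_bot] at hg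
  | succ m ih =>
    intro k hk g hg hfix
    by_cases hkS : k ∈ Qset A
    · obtain ⟨t, p, hp, rfl⟩ := S.Q.sys.toUnip.exists_head hS hkS hg
      obtain ⟨hk1, hk2⟩ := (mem_Qset S ok).1 hkS
      have hp' := hel_norm S A ζ (T := {r | r ∈ Qset A ∧ k < r})
        (fun r hr => ((mem_Qset S ok).1 hr.1).1) p hp
      have e : hel S A ζ * (xr S k t * p) * (hel S A ζ)⁻¹ =
          xr S k (((ζ ^ A.wt k : Fˣ) : F) * t) * (hel S A ζ * p * (hel S A ζ)⁻¹) := by
        rw [← hel_conj S A ζ hk1]; group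
      obtain ⟨h1, h2⟩ := S.Q.sys.toUnip.head_unique hS hkS hp' hp (e.symm.trans hfix)
      have ht : t = 0 := by
        by_contra ht
        exact zpow_ne_one hF hζ hk2.ne' (ok.small k hk1)
          (Units.ext (mul_right_cancel₀ ht (h1.trans (one_mul t).symm)))
      subst ht
      have := ih (k + 1) (by omega) p hp h2
      show xr S k 0 * p = 1
      rw [this, xr_zero, mul_one]
    · rw [RootSys.Unip.tail_of_not_mem hkS] at hg
      exact ih (k + 1) (by omega) g hg hfix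

end General

section Long

variable {A : AData D} (ok : A.Ok fun r => S.Q.X.C.act (Chev.longWord S.Q.X.C S.Q.X.n) r)

theorem hom_w0 {r : ℕ} (hr : r < D.nroots) :
    (S.Q.X.good.hom S.Q.X.w0 ⟨r, hr⟩).val = S.Q.X.C.act (Chev.longWord S.Q.X.C S.Q.X.n) r := by
  have h2 := S.Q.X.extra
  simp only [Chev.extraB, Bool.and_eq_true, List.all_eq_true, decide_eq_true_eq] at h2
  rw [Chev.TypeData.w0, S.Q.X.good.hom_wOf_val h2.1.1.2]

include ok in
theorem w0_conj_xr {r : ℕ} (hr : r < D.nroots) : ∃ μ : Fˣ, ∃ s, s < D.nroots ∧ A.wt s = -A.wt r ∧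
    s = S.Q.X.C.act (Chev.longWord S.Q.X.C S.Q.X.n) r ∧
    ∀ t, S.Q.amb.n S.Q.X.w0 * xr S r t * (S.Q.amb.n S.Q.X.w0)⁻¹ = xr S s ((μ : F) * t) := by
  obtain ⟨μ, hμ⟩ := rep_conj_lin S S.Q.X.w0 r hr
  exact ⟨μ, _, Fin.isLt _, by rw [hom_w0 S hr]; exact ok.long r hr, hom_w0 S hr, hμ⟩

include ok in
/-- The longest element inverts the semisimple element. -/
theorem w0_inverts [Finite F] (ζ : Fˣ) :
    S.Q.amb.n S.Q.X.w0 * hel S A ζ * (S.Q.amb.n S.Q.X.w0)⁻¹ = (hel S A ζ)⁻¹ := by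
  set n := S.Q.amb.n S.Q.X.w0
  set h := hel S A ζ
  have hH : n * h * n⁻¹ * h ∈ S.Q.amb.H :=
    mul_mem (S.Q.sys.rep_conj_H _ (torG_mem S _)) (torG_mem S _)
  rw [eq_inv_iff_mul_eq_one]
  refine Subtype.ext (S.Q.faithful (show ((n * h * n⁻¹ * h : ↥(D.group F)) : GL D.Idx F) ∈
    D.diagonalSubgroup F from hH) fun s hs _ => ?_)
  -- the preimage of a root
  obtain ⟨r, hr⟩ := (S.Q.X.good.hom S.Q.X.w0).surjective ⟨s, hs⟩
  obtain ⟨μ, s', -, hwt, hs'e, hμ⟩ := w0_conj_xr S ok r.isLt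
  obtain rfl : s' = s := by
    rw [hs'e, ← hom_w0 S r.isLt]
    exact congrArg Fin.val hr
  refine congrArg Subtype.val (show n * h * n⁻¹ * h * xr S s' 1 = xr S s' 1 * (n * h * n⁻¹ * h) from
    mul_inv_eq_iff_eq_mul.1 ?_)
  obtain ⟨t, ht⟩ : ∃ t, xr S s' (((ζ ^ A.wt s' : Fˣ) : F) * 1) = n * xr S r.val t * n⁻¹ :=
    ⟨((μ⁻¹ : Fˣ) : F) * (((ζ ^ A.wt s' : Fˣ) : F) * 1), by
      rw [hμ, ← mul_assoc, Units.mul_inv, one_mul]⟩
  rw [show n * h * n⁻¹ * h * xr S s' 1 * (n * h * n⁻¹ * h)⁻¹ =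
    n * h * n⁻¹ * (h * xr S s' 1 * h⁻¹) * (n * h * n⁻¹)⁻¹ by group, hel_conj S A ζ hs, ht,
    show n * h * n⁻¹ * (n * xr S r.val t * n⁻¹) * (n * h * n⁻¹)⁻¹ =
      n * (h * xr S r.val t * h⁻¹) * n⁻¹ by group, hel_conj S A ζ r.isLt, hμ]
  have ht' : (μ : F) * t = ((ζ ^ A.wt s' : Fˣ) : F) * 1 :=
    xr_inj S hs ((hμ t).symm.trans ht.symm)
  congr 1
  have hz : ((ζ ^ A.wt r.val : Fˣ) : F) * ((ζ ^ A.wt s' : Fˣ) : F) = 1 := by
    rw [← Units.val_mul, ← _root_.zpow_add, hwt, add_neg_cancel, zpow_zero, Units.val_one]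
  linear_combination ((ζ ^ A.wt r.val : Fˣ) : F) * ht' + hz

include ok in
theorem conj_VG : ∀ v ∈ VG S A, S.Q.amb.n S.Q.X.w0 * v * (S.Q.amb.n S.Q.X.w0)⁻¹ ∈ QG S A := fun v hv =>
  conj_mem_XS (fun r hr t => by
    obtain ⟨μ, s, hs, hwt, -, hμ⟩ := w0_conj_xr S ok hr.1
    rw [hμ]
    exact x_mem_XS (Finset.mem_coe.2 ((mem_Qset S ok).2 ⟨hs, by have := hr.2; omega⟩)) _) hv

include ok in
theorem fix_VG [Fintype F] (hF : 9 ≤ Fintype.card F) {ζ : Fˣ} (hζ : orderOf ζ = Fintype.card F - 1) :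
    ∀ v ∈ VG S A, hel S A ζ * v * (hel S A ζ)⁻¹ = v → v = 1 := by
  intro v hv hfix
  have hinv := w0_inverts S ok ζ
  set n := S.Q.amb.n S.Q.X.w0
  set h := hel S A ζ
  have h1 : h⁻¹ * (n * v * n⁻¹) * h⁻¹⁻¹ = n * v * n⁻¹ := by
    rw [← hinv]
    calc n * h * n⁻¹ * (n * v * n⁻¹) * (n * h * n⁻¹)⁻¹ = n * (h * v * h⁻¹) * n⁻¹ := by group
      _ = _ := by rw [hfix]
  have h2 : h * (n * v * n⁻¹) * h⁻¹ = n * v * n⁻¹ := by
    conv_lhs => rw [← h1]
    group
  exact conj_eq_one_iff.1 (fix_QG S ok hF hζ _ (conj_VG S ok v hv) h2)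

/-- The positive roots of the Levi subgroup. -/
def Jset (A : AData D) : Set ℕ := {r | ∃ a b : Fin A.k, a < b ∧ A.rt a b = r}

include ok in
theorem split_cases : ∀ r ∈ posSet D, r ∈ (↑(Qset A) : Set ℕ) ∨ r ∈ Jset A := by
  intro r hr
  obtain ⟨h1, h2⟩ := mem_posSet.1 hr
  rcases (ok.nonneg r h1 h2).lt_or_eq with h | h
  · exact Or.inl (Finset.mem_coe.2 (Finset.mem_filter.2 ⟨hr, h⟩))
  · obtain ⟨a, b, hab, rfl⟩ := ok.cover r h1 h.symm
    refine Or.inr ⟨a, b, ?_, rfl⟩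
    rcases lt_or_gt_of_ne hab with h' | h'
    · exact h'
    · exact absurd (ok.sign b a h').2 (not_lt.2 h2)

include ok in
theorem dec_U [Finite F] {x : ↥(D.group F)} (hx : x ∈ S.Q.amb.U) :
    ∃ L, IsUpperUni L ∧ ∃ q ∈ QG S A, x = psi S ok L * q := by
  obtain ⟨a, ha, b, hb, rfl⟩ := S.Q.sys.toUnip.exists_split (S := posSet D)
    (by rw [← S.Q.sys.P_eq]; exact S.Q.sys.toUnip.closed_P) (Jset A) (↑(Qset A) : Set ℕ)
    (fun r hr => (split_cases S ok r hr).symm) hx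
  have hle : XS (xr S) (Jset A) ≤ upperUniSub.map (psi S ok) := by
    refine XS_le ?_
    rintro r ⟨i, j, hij, rfl⟩ t
    exact ⟨SpecialLinearGroup.transvection hij.ne ((A.eps i j : F) * t), isUpperUni_transvection hij _,
      by rw [psi_trans, eps_sq ok]⟩
  obtain ⟨L, hL, rfl⟩ := hle ha
  exact ⟨L, hL, b, hb, rfl⟩

include ok in
theorem dec_V [Finite F] {x : ↥(D.group F)} (hx : x ∈ S.Q.amb.U) :
    ∃ L, IsLowerUni L ∧ ∃ v ∈ VG S A,
      S.Q.amb.n S.Q.X.w0 * x * (S.Q.amb.n S.Q.X.w0)⁻¹ = v * psi S ok L := by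
  set n := S.Q.amb.n S.Q.X.w0
  obtain ⟨a, ha, b, hb, rfl⟩ := S.Q.sys.toUnip.exists_split (S := posSet D)
    (by rw [← S.Q.sys.P_eq]; exact S.Q.sys.toUnip.closed_P) (↑(Qset A) : Set ℕ) (Jset A)
    (split_cases S ok) hx
  have hv : n * a * n⁻¹ ∈ VG S A := by
    refine conj_mem_XS (fun r hr t => ?_) ha
    obtain ⟨hr1, hr2⟩ := (mem_Qset S ok).1 hr
    obtain ⟨μ, s, hs, hwt, -, hμ⟩ := w0_conj_xr S ok hr1
    show n * xr S r t * n⁻¹ ∈ _
    rw [hμ]
    exact x_mem_XS (show s ∈ {r | r < D.nroots ∧ A.wt r < 0} from ⟨hs, by omega⟩) _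
  have hl : n * b * n⁻¹ ∈ lowerUniSub.map (psi S ok) := by
    refine conj_mem_XS (fun r hr t => ?_) hb
    obtain ⟨i, j, hij, rfl⟩ := hr
    obtain ⟨μ, s, hs, hwt, hse, hμ⟩ := w0_conj_xr S ok (ok.rt_lt i j hij.ne)
    rw [ok.wt0 i j hij.ne, neg_zero] at hwt
    obtain ⟨p, q, hpq, hs2⟩ := ok.cover s hs hwt
    have hneg : s < D.nroots / 2 := by
      rw [hse, ← hom_w0 S (ok.rt_lt i j hij.ne)]
      exact S.Q.X.w0_neg _ (ok.sign i j hij).1
    have hqp : q < p := by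
      rcases lt_or_gt_of_ne hpq with h' | h'
      · have := (ok.sign p q h').1
        omega
      · exact h'
    show n * xr S (A.rt i j) t * n⁻¹ ∈ _
    rw [hμ, ← hs2]
    exact ⟨SpecialLinearGroup.transvection hqp.ne' ((A.eps p q : F) * ((μ : F) * t)),
      isLowerUni_transvection hqp _, by rw [psi_trans, eps_sq ok]⟩
  obtain ⟨L, hL, e⟩ := hl
  refine ⟨L, hL, _, hv, ?_⟩
  rw [e]
  group

include ok in
theorem conj_jordan [Finite F] (ζ : Fˣ) {X : SL(A.k, F)} (hX : IsJordan X) :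
    ∃ y : ↥(D.group F), y * hel S A ζ * y⁻¹ = hel S A ζ ∧
      y * psi S ok (jordanSL F A.k) * y⁻¹ = psi S ok X := by
  obtain ⟨δ, P, hP⟩ := exists_jordan_conj ⟨0, A.k_pos⟩ hX
  set t := torG S fun j => δ ^ A.d j
  have ht : t * psi S ok (jordanSL F A.k) * t⁻¹ =
      psi S ok (dconjSL (Function.update 1 ⟨0, A.k_pos⟩ δ) (jordanSL F A.k)) := by
    refine torG_conj_psi S ok (torG_mem S _) rfl _ (fun a b hab => ?_) _
    rw [scal_zpow, ok.delta a b hab]
    simp only [Function.update_apply, Pi.one_apply, Fin.ext_iff]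
    split_ifs <;> simp
  refine ⟨psi S ok P * t, ?_, ?_⟩
  · have hc : Commute t (hel S A ζ) := Subtype.ext (S.Q.diag_comm (torG_mem S _) (torG_mem S _))
    exact mul_inv_eq_iff_eq_mul.2 (((hel_comm S ok ζ P).mul_right hc.symm).eq.symm)
  · rw [show psi S ok P * t * psi S ok (jordanSL F A.k) * (psi S ok P * t)⁻¹ =
      psi S ok P * (t * psi S ok (jordanSL F A.k) * t⁻¹) * (psi S ok P)⁻¹ by group, ht, ← map_inv,
      ← map_mul, ← map_mul, hP]

include ok in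
/-- The Levi data. -/
noncomputable def levi [Fintype F] (hF : 9 ≤ Fintype.card F) {ζ : Fˣ}
    (hζ : orderOf ζ = Fintype.card F - 1) {ι : Type*} [Fintype ι] [DecidableEq ι]
    (f : Frame S.Q.amb S.Q.X.w0 F ι) (hE : f.E = ⊤) : Levi f Unit (fun _ => A.k) where
  h := hel S A ζ
  h_mem := ⟨torG_mem S _, hE ▸ Subgroup.mem_top _⟩
  ψ := (psi S ok).comp (Pi.evalMonoidHom (fun _ : Unit => SL(A.k, F)) ())
  ψ_mem _ := hE ▸ Subgroup.mem_top _
  comm M := hel_comm S ok ζ (M ())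
  Q := QG S A
  V := VG S A
  nQ M := psi_norm S ok (T := (↑(Qset A) : Set ℕ))
    (fun r hr => ⟨((mem_Qset S ok).1 hr).1, ((mem_Qset S ok).1 hr).2.ne'⟩)
    (fun r hr k hk ⟨b, hb, e⟩ => (mem_Qset S ok).2 ⟨hk, by
      rw [e]; exact mul_pos (by exact_mod_cast hb) ((mem_Qset S ok).1 hr).2⟩) (M ())
  hQ := hel_norm S A ζ fun r hr => ((mem_Qset S ok).1 hr).1
  fQ := fix_QG S ok hF hζ
  nV M := psi_norm S ok (T := {r | r < D.nroots ∧ A.wt r < 0})
    (fun r hr => ⟨hr.1, hr.2.ne⟩)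
    (fun r hr k hk ⟨b, hb, e⟩ => ⟨hk, by
      rw [e]; exact mul_neg_of_pos_of_neg (by exact_mod_cast hb) hr.2⟩) (M ())
  hV := hel_norm S A ζ fun r hr => hr.1
  fV := fix_VG S ok hF hζ
  decU x hx := by
    obtain ⟨L, hL, q, hq, e⟩ := dec_U S ok hx
    exact ⟨fun _ => L, fun _ => hL, q, hq, e⟩
  decV x hx := by
    obtain ⟨L, hL, v, hv, e⟩ := dec_V S ok hx
    exact ⟨fun _ => L, fun _ => hL, v, hv, e⟩
  conjJ X hX := by
    obtain ⟨y, h1, h2⟩ := conj_jordan S ok ζ (hX ())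
    exact ⟨y, hE ▸ Subgroup.mem_top _, h1, h2⟩
  conjH g hg X hX := by
    obtain ⟨c, hc⟩ := exists_torus S hg
    let e : Fin A.k → Fˣ := fun a => ∏ j : Fin D.rank, c j ^ A.u j a
    refine ⟨fun b => dconjSL e (X b), fun b => isJordan_dconj _ (hX b),
      torG_conj_psi S ok hg hc e (fun a b hab => ?_) (X ())⟩
    simp only [scal, e, ← div_eq_mul_inv, ← Finset.prod_div_distrib]
    exact Finset.prod_congr rfl fun j _ => by rw [ok.coord j a b hab, _root_.zpow_sub, div_eq_mul_inv]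
  real := by
    classical
    set n := S.Q.amb.n S.Q.X.w0
    let J : SL(A.k, F) := ((Finset.univ : Finset (Adj A.k)).toList.map fun p => upT p (1 : F)).prod
    obtain ⟨y, hy1, hy2⟩ := conj_jordan S ok ζ
      (isJordan_prod_upT (id : Adj A.k → Adj A.k) Function.bijective_id (fun _ => (1 : F))
        (fun _ => one_ne_zero) : IsJordan J)
    refine ⟨n * y, 1, one_mem _, hE ▸ Subgroup.mem_top _, ?_, ?_⟩
    · rw [show n * y * hel S A ζ * (n * y)⁻¹ = n * (y * hel S A ζ * y⁻¹) * n⁻¹ by group, hy1]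
      exact w0_inverts S ok ζ
    choose σ hσ using ok.adj
    have hσi : Function.Injective σ := by
      intro p q hpq
      refine ok.adj_inj p q ?_
      have h := (hσ p).trans (((congrArg (fun x : Adj A.k => A.rt x.1.2 x.1.1) hpq)).trans (hσ q).symm)
      simp only [← hom_w0 S (ok.rt_lt _ _ p.lt.ne), ← hom_w0 S (ok.rt_lt _ _ q.lt.ne)] at h
      exact congrArg Fin.val ((S.Q.X.good.hom S.Q.X.w0).injective (Fin.ext h))
    have hex : ∀ p : Adj A.k, ∃ v : F, v ≠ 0 ∧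
        n * psi S ok (upT p 1) * n⁻¹ = psi S ok (loT (σ p) v) := by
      intro p
      obtain ⟨μ, s, -, -, hse, hμ⟩ := w0_conj_xr S ok (ok.rt_lt _ _ p.lt.ne)
      refine ⟨(A.eps (σ p).1.2 (σ p).1.1 : F) * ((μ : F) * ((A.eps p.1.1 p.1.2 : F) * 1)), ?_, ?_⟩
      · rcases ok.pm (σ p).1.2 (σ p).1.1 with e | e <;> rcases ok.pm p.1.1 p.1.2 with e' | e' <;>
          simp [e, e']
      · rw [upT, loT, psi_trans, psi_trans, hμ, eps_sq ok, hse.trans (hσ p)]
    choose v hv0 hv using hex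
    refine ⟨fun _ => ((Finset.univ : Finset (Adj A.k)).toList.map fun p => loT (σ p) (v p)).prod,
      fun _ => isJordan_prod_loT σ (Finite.injective_iff_bijective.1 hσi) v hv0, ?_⟩
    show n * y * psi S ok (jordanSL F A.k) * (n * y)⁻¹ = _
    rw [show n * y * psi S ok (jordanSL F A.k) * (n * y)⁻¹ =
      MulAut.conj n (y * psi S ok (jordanSL F A.k) * y⁻¹) by simp [MulAut.conj_apply, mul_assoc], hy2]
    show MulAut.conj n (psi S ok J) =
      psi S ok (((Finset.univ : Finset (Adj A.k)).toList.map fun p => loT (σ p) (v p)).prod)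
    simp only [J, map_list_prod, List.map_map]
    congr 1
    exact List.map_congr_left fun p _ => hv p

end Long

end Cfsg.Agent.H14.ThompsonSplit.Exc
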