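import Cfsg.Agent.H14.ThompsonSplit.Pinned
import Cfsg.Agent.H56.ChevAut.Roots
import Cfsg.Agent.Chevalley.RankOne
import Cfsg.Agent.H13.Split.Chev

/-!
The fundamental rank one subgroups of a split exceptional Chevalley group.
-/

set_option autoImplicit false
set_option linter.unusedSectionVars false

namespace Cfsg.Agent.H14.ThompsonSplit.Exc

open Cfsg.Lie Cfsg.Agent.H37.RootSys Cfsg.Agent.H56.ChevAut Cfsg.Agent.Chevalley
open Cfsg.Agent.H13.Split Matrix
open scoped MatrixGroups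

variable {D : ChevalleyDatum} {F : Type*} [Field F] (S : Setup D F)

/-- The root elements. -/
abbrev xr (r : ℕ) (t : F) : ↥(D.group F) := xG S.Q.K F r t

theorem xr_add (r : ℕ) (t u : F) : xr S r t * xr S r u = xr S r (t + u) :=
  Subtype.ext (S.Q.K.xU_add F r t u)

theorem xr_zero (r : ℕ) : xr S r 0 = 1 := Subtype.ext (S.Q.K.xU_zero F r)

theorem xr_inv (r : ℕ) (t : F) : (xr S r t)⁻¹ = xr S r (-t) := Subtype.ext (S.Q.K.xU_inv F r t)

theorem xr_inj {r : ℕ} (hr : r < D.nroots) {t u : F} (h : xr S r t = xr S r u) : t = u :=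
  S.xG_injective hr h

/-! ### The weights of torus elements -/

theorem exists_torus {g : ↥(D.group F)} (hg : g ∈ S.Q.amb.H) :
    ∃ c : Fin D.rank → Fˣ, (g : GL D.Idx F) = torus D F c := by
  have h : (g : GL D.Idx F) ∈ D.diagonalSubgroup F := hg
  rw [S.Q.K.diagonalSubgroup_eq F] at h
  obtain ⟨c, hc⟩ := h
  exact ⟨c, hc.symm⟩

/-- The scalar of a torus element at a root. -/
noncomputable def scal (c : Fin D.rank → Fˣ) (r : ℕ) : Fˣ :=
  ∏ m : Fin D.rank, c m ^ D.cartan m r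

theorem torus_conj (c : Fin D.rank → Fˣ) {r : ℕ} (hr : r < D.nroots) (t : F) :
    torus D F c * S.Q.K.xU F r t * (torus D F c)⁻¹ = S.Q.K.xU F r ((scal c r : F) * t) := by
  rw [S.Q.K.torus_eq_prod, scal]
  have key : ∀ l : List (Fin D.rank),
      (l.map fun m : Fin D.rank => S.Q.K.hU F (D.simple (m : ℕ)) (c m : F)).prod * S.Q.K.xU F r t *
        ((l.map fun m : Fin D.rank => S.Q.K.hU F (D.simple (m : ℕ)) (c m : F)).prod)⁻¹ =
      S.Q.K.xU F r (((l.map fun m : Fin D.rank => c m ^ D.cartan m r).prod : Fˣ) * t) := by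
    intro l
    induction l with
    | nil => simp
    | cons m l ih =>
      rw [List.map_cons, List.prod_cons, List.map_cons, List.prod_cons, _root_.mul_inv_rev,
        show ∀ a b : GL D.Idx F, a * b * S.Q.K.xU F r t * (b⁻¹ * a⁻¹) = a * (b * S.Q.K.xU F r t * b⁻¹) * a⁻¹
          from fun a b => by group, ih, S.Q.K.hU_conj_xU F (S.Q.K.simple_lt m m.isLt).1 hr,
        S.Q.K.pairing_simple m.isLt, Units.val_mul, mul_assoc]
  rw [key, Fin.prod_univ_def]

theorem H_conj_xr {g : ↥(D.group F)} (hg : g ∈ S.Q.amb.H) {c : Fin D.rank → Fˣ}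
    (hc : (g : GL D.Idx F) = torus D F c) {r : ℕ} (hr : r < D.nroots) (t : F) :
    g * xr S r t * g⁻¹ = xr S r ((scal c r : F) * t) := by
  refine Subtype.ext ?_
  show (g : GL D.Idx F) * S.Q.K.xU F r t * (g : GL D.Idx F)⁻¹ = _
  rw [hc, torus_conj S c hr]
  rfl

include S in
theorem scal_neg (c : Fin D.rank → Fˣ) {r : ℕ} (hr : r < D.nroots) :
    scal c (D.neg r) = (scal c r)⁻¹ := by
  rw [scal, scal, ← Finset.prod_inv_distrib]
  exact Finset.prod_congr rfl fun m _ => by rw [S.Q.K.cartan_neg_root m.isLt hr, _root_.zpow_neg]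

/-! ### The rank one subgroups -/

theorem exists_node (i : Fin D.rank) : ∃ φ : SL(2, F) →* ↥(D.group F),
    (∀ t, φ (upSL t) = S.xs i t) ∧ (∀ t, φ (loSL t) = S.ys i t) := by
  obtain ⟨φ, hrange, hφ⟩ := S.Q.K.exists_sl2Hom F (S.simple_lt i)
  have hsub : ∀ r, D.rootSubgroup F r ≤ D.group F := fun r g hg => by
    obtain ⟨u, rfl⟩ := (S.Q.K.mem_rootSubgroup F).1 hg
    exact S.Q.K.xU_mem_group F r u
  have hmem : ∀ a, φ a ∈ D.group F := fun a =>
    (sup_le (hsub _) (hsub _) : D.rootSubgroup F (D.simple (i : ℕ)) ⊔ D.rootSubgroup F (D.neg (D.simple (i : ℕ))) ≤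
      D.group F) (by rw [← hrange]; exact ⟨a, rfl⟩)
  refine ⟨φ.codRestrict _ hmem, fun t => Subtype.ext (Units.ext ?_), fun t => Subtype.ext (Units.ext ?_)⟩
  · exact ((hφ (upSL t) t).1 rfl).trans (S.Q.K.coe_xU F _ t).symm
  · exact ((hφ (loSL t) t).2 rfl).trans (S.Q.K.coe_xU F _ t).symm

/-- The rank one subgroups. -/
noncomputable def node (i : Fin D.rank) : SL(2, F) →* ↥(D.group F) := (exists_node S i).choose

theorem node_up (i : Fin D.rank) (t : F) : node S i (upSL t) = S.xs i t :=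
  (exists_node S i).choose_spec.1 t

theorem node_lo (i : Fin D.rank) (t : F) : node S i (loSL t) = S.ys i t :=
  (exists_node S i).choose_spec.2 t

theorem wSL_eq (F : Type*) [Field F] : wSL F = upSL (1 : F) * loSL (-1) * upSL (1 : F) := by
  refine Subtype.ext ?_
  show (wSL F).1 = (upSL (1 : F)).1 * (loSL (-1 : F)).1 * (upSL (1 : F)).1
  ext a b
  fin_cases a <;> fin_cases b <;> simp [wSL, upSL, loSL, Matrix.mul_apply, Fin.sum_univ_two]

theorem diSL_eq {F : Type*} [Field F] (l : Fˣ) : diSL l =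
    upSL (l : F) * loSL (-(l : F)⁻¹) * upSL (l : F) * (upSL (-1) * loSL (-(-1 : F)⁻¹) * upSL (-1)) := by
  refine Subtype.ext ?_
  show (diSL l).1 = (upSL (l : F)).1 * (loSL (-(l : F)⁻¹)).1 * (upSL (l : F)).1 *
    ((upSL (-1 : F)).1 * (loSL (-(-1 : F)⁻¹)).1 * (upSL (-1 : F)).1)
  ext a b
  fin_cases a <;> fin_cases b <;> simp [diSL, upSL, loSL, Matrix.mul_apply, Fin.sum_univ_two]

theorem node_w (i : Fin D.rank) : node S i (wSL F) = S.ns i := by
  rw [wSL_eq, map_mul, map_mul, node_up, node_lo]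
  refine Subtype.ext ?_
  show S.Q.K.xU F (D.simple i) 1 * S.Q.K.xU F (D.neg (D.simple i)) (-1) * S.Q.K.xU F (D.simple i) 1 =
    S.Q.K.nS F i
  rw [Cert.nS, S.Q.K.nU_eq, inv_one]

theorem node_di (i : Fin D.rank) (l : Fˣ) :
    (node S i (diSL l) : GL D.Idx F) = torus D F (Pi.mulSingle i l) := by
  have h : (node S i (diSL l) : GL D.Idx F) = S.Q.K.hU F (D.simple i) (l : F) := by
    rw [diSL_eq, map_mul, map_mul, map_mul, map_mul, map_mul, node_up, node_up, node_lo, node_lo,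
      S.Q.K.hU_eq, S.Q.K.nU_eq, S.Q.K.nU_eq]
    rfl
  rw [h, S.Q.K.hU_eq_torus F (S.simple_lt i)]
  congr 1
  funext m
  rw [S.Q.K.cor_simple i i.isLt m m.isLt, Pi.mulSingle_apply]
  by_cases e : m = i
  · rw [if_pos e, if_pos (congrArg Fin.val e), zpow_one]
  · rw [if_neg e, if_neg (fun e' => e (Fin.ext e')), zpow_zero]

theorem node_di_mem (i : Fin D.rank) (l : Fˣ) : node S i (diSL l) ∈ S.Q.amb.H := by
  show (node S i (diSL l) : GL D.Idx F) ∈ D.diagonalSubgroup F
  rw [node_di, S.Q.K.diagonalSubgroup_eq F]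
  exact ⟨_, rfl⟩

theorem scal_single (j : Fin D.rank) (l : Fˣ) (r : ℕ) : scal (Pi.mulSingle j l) r = l ^ D.cartan j r := by
  rw [scal, Finset.prod_eq_single j]
  · rw [Pi.mulSingle_eq_same]
  · exact fun b _ hb => by rw [Pi.mulSingle_eq_of_ne hb, _root_.one_zpow]
  · simp

theorem exists_scal (i : Fin D.rank) (g : ↥S.Q.amb.H) : ∃ a : Fˣ,
    ∀ t, (g : ↥(D.group F)) * S.xs i t * (g : ↥(D.group F))⁻¹ = S.xs i ((a : F) * t) ∧
      (g : ↥(D.group F)) * S.ys i t * (g : ↥(D.group F))⁻¹ = S.ys i (((a⁻¹ : Fˣ) : F) * t) := by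
  obtain ⟨c, hc⟩ := exists_torus S g.2
  refine ⟨scal c (D.simple i), fun t => ⟨H_conj_xr S g.2 hc (S.simple_lt i) t, ?_⟩⟩
  rw [← scal_neg S c (S.simple_lt i)]
  exact H_conj_xr S g.2 hc (S.Q.K.neg_lt (S.simple_lt i)) t

/-- The scalar of a torus element at a fundamental root. -/
noncomputable def chi (i : Fin D.rank) : ↥S.Q.amb.H →* Fˣ where
  toFun g := (exists_scal S i g).choose
  map_one' := by
    refine Units.ext ?_
    have h := ((exists_scal S i 1).choose_spec 1).1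
    have h' : S.xs i 1 = S.xs i (((exists_scal S i 1).choose : F) * 1) := by
      refine Eq.trans ?_ h
      simp
    rw [mul_one] at h'
    exact (S.xs_injective i h').symm
  map_mul' g g' := by
    refine Units.ext ?_
    have h := ((exists_scal S i (g * g')).choose_spec 1).1
    have h' : S.xs i (((exists_scal S i g).choose : F) * (((exists_scal S i g').choose : F) * 1)) =
        S.xs i (((exists_scal S i (g * g')).choose : F) * 1) := by
      refine Eq.trans ?_ h
      rw [← ((exists_scal S i g).choose_spec _).1, ← ((exists_scal S i g').choose_spec 1).1]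
      simp [mul_assoc]
    rw [mul_one, mul_one] at h'
    rw [Units.val_mul]
    exact (S.xs_injective i h').symm

theorem chi_spec (i : Fin D.rank) (g : ↥S.Q.amb.H) (t : F) :
    (g : ↥(D.group F)) * S.xs i t * (g : ↥(D.group F))⁻¹ = S.xs i ((chi S i g : F) * t) :=
  ((exists_scal S i g).choose_spec t).1

theorem node_conj (i : Fin D.rank) (g : ↥S.Q.amb.H) (a : SL(2, F)) :
    (g : ↥(D.group F)) * node S i a * (g : ↥(D.group F))⁻¹ = node S i (scaleSL (chi S i g) a) := by
  induction a using Cfsg.Agent.Linear.transvection_induction with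
  | one =>
    rw [map_one, mul_one, mul_inv_cancel, show scaleSL (chi S i g) (1 : SL(2, F)) = 1 from
      Subtype.ext (by ext p q; fin_cases p <;> fin_cases q <;> simp [scaleSL]), map_one]
  | htr p q hpq t =>
    have hup : scaleSL (chi S i g) (upSL t) = upSL ((chi S i g : F) * t) := Subtype.ext (by
      ext p q; fin_cases p <;> fin_cases q <;> simp [scaleSL, upSL])
    have hlo : scaleSL (chi S i g) (loSL t) = loSL (((chi S i g)⁻¹ : Fˣ) * t) := Subtype.ext (by
      ext p q; fin_cases p <;> fin_cases q <;> simp [scaleSL, loSL])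
    rcases transvection_eq_up hpq t with e | e <;> rw [e]
    · rw [hup, node_up, node_up]; exact chi_spec S i g t
    · rw [hlo, node_lo, node_lo]; exact ((exists_scal S i g).choose_spec t).2
  | hmul u v hu hv =>
    have hs : scaleSL (chi S i g) (u * v) = scaleSL (chi S i g) u * scaleSL (chi S i g) v := Subtype.ext (by
      show (scaleSL (chi S i g) (u * v)).1 = (scaleSL (chi S i g) u).1 * (scaleSL (chi S i g) v).1
      ext p q
      fin_cases p <;> fin_cases q <;> simp [scaleSL, Matrix.mul_apply, Fin.sum_univ_two] <;> field_simp)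
    rw [map_mul, hs, map_mul, ← hu, ← hv]
    group

/-- The fundamental rank one subgroups. -/
noncomputable def pinned [Finite F]
    (hcol : ∀ j : Fin D.rank, ∑ i ∈ Finset.univ.erase j, (D.cartan j (D.simple i)).natAbs ≤ 3)
    (hconn : ∀ N : Finset (Fin D.rank), N.Nonempty → N ≠ Finset.univ →
      ∃ j ∈ N, ∃ i, i ∉ N ∧ D.cartan j (D.simple i) ≠ 0) :
    Pinned S.Q.amb S.Q.X.w0 F (Fin D.rank) where
  H_comm _ ha _ hb := Subtype.ext (S.Q.diag_comm ha hb)
  s := S.sref
  s_mem i := by rw [S.amb_S_eq]; exact ⟨i, rfl⟩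
  s_surj r hr := by rw [S.amb_S_eq] at hr; exact hr
  φ := node S
  up i t := by
    rw [node_up]
    refine x_mem_XS (Finset.mem_coe.2 (Sys.mem_flip.2 ⟨S.simple_lt i, S.simple_pos i, ?_⟩)) t
    show (S.Q.X.good.hom (S.sref i) _).val < _
    rw [Setup.sref, S.Q.X.good.hom_simple, S.Q.X.good.sigmaPerm_val]
    show S.Q.X.C.sigma i (D.simple i) < _
    rw [neg_simple_eq S.Q.X.good S.Q.K (S.Q.rank_eq ▸ i.isLt)]
    exact S.neg_simple_neg i
  up_surj i x hx := by
    obtain ⟨t, rfl⟩ := S.mem_Uw_sref i hx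
    exact ⟨t, node_up S i t⟩
  up_inj i t ht := by
    rw [node_up] at ht
    exact S.xs_injective i (ht.trans (S.xs_zero i).symm)
  rep i := ⟨1, one_mem _, by rw [S.rep_sref, node_w, one_mul]⟩
  lo_opp i t := by
    obtain ⟨j, hj⟩ := S.simp_spec i
    obtain ⟨t', e⟩ := S.Q.sys.rep_conj S.Q.X.w0 _ (S.Q.K.neg_lt (S.simple_lt i)) t
    obtain ⟨k, hk, ek⟩ := S.Q.amb.n_inv S.Q.X.w0
    rw [S.opp.inv_eq] at ek
    have hn : (S.Q.amb.n S.Q.X.w0)⁻¹ * node S i (loSL t) * S.Q.amb.n S.Q.X.w0 =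
        k * (S.Q.amb.n S.Q.X.w0 * S.ys i t * (S.Q.amb.n S.Q.X.w0)⁻¹) * k⁻¹ := by
      rw [node_lo]
      conv_lhs => rw [show S.Q.amb.n S.Q.X.w0 = ((S.Q.amb.n S.Q.X.w0)⁻¹)⁻¹ from (inv_inv _).symm, ek]
      group
    have e' : S.Q.amb.n S.Q.X.w0 * S.ys i t * (S.Q.amb.n S.Q.X.w0)⁻¹ = xr S (D.simple j) t' := by
      rw [← hj]; exact e
    rw [hn, e']
    obtain ⟨t'', e''⟩ := S.Q.sys.h_conj k hk _ (S.simple_lt j) t'
    rw [show k * xr S (D.simple j) t' * k⁻¹ = xr S (D.simple j) t'' from e'']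
    refine x_mem_XS (Finset.mem_coe.2 (Sys.mem_flip.2 ⟨S.simple_lt j, S.simple_pos j, ?_⟩)) t''
    have hw : S.Q.X.good.hom S.Q.X.w0 ⟨D.simple j, S.simple_lt j⟩ =
        ⟨D.neg (D.simple i), S.Q.K.neg_lt (S.simple_lt i)⟩ := by
      have h2 : S.Q.X.good.hom S.Q.X.w0 ⟨D.neg (D.simple i), S.Q.K.neg_lt (S.simple_lt i)⟩ =
          ⟨D.simple j, S.simple_lt j⟩ := Fin.ext hj
      have h3 := congrArg (S.Q.X.good.hom S.Q.X.w0⁻¹) h2
      rw [← Equiv.Perm.mul_apply, ← map_mul, inv_mul_cancel, map_one, Equiv.Perm.one_apply,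
        S.opp.inv_eq] at h3
      exact h3.symm
    rw [map_mul, map_mul, Equiv.Perm.mul_apply, Equiv.Perm.mul_apply, hw, Setup.sref,
      S.Q.X.good.hom_simple]
    have hs : S.Q.X.good.sigmaPerm (Fin.cast S.Q.rank_eq i) ⟨D.neg (D.simple i), S.Q.K.neg_lt (S.simple_lt i)⟩ =
        ⟨D.simple i, S.simple_lt i⟩ := by
      refine Fin.ext ?_
      rw [S.Q.X.good.sigmaPerm_val]
      show S.Q.X.C.sigma i (D.neg (D.simple i)) = D.simple i
      rw [← neg_simple_eq S.Q.X.good S.Q.K (S.Q.rank_eq ▸ i.isLt)]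
      exact (S.Q.X.good.sigma_spec (S.Q.rank_eq ▸ i.isLt) (S.simple_lt i)).2.2.1
    rw [hs]
    exact S.Q.X.w0_neg (S.simple_lt i) (S.simple_pos i)
  di_mem := node_di_mem S
  χ := chi S
  conj := node_conj S
  C i j := D.cartan j (D.simple i)
  pair i j l := by
    refine Units.ext ?_
    have h := chi_spec S i ⟨node S j (diSL l), node_di_mem S j l⟩ 1
    have h' := H_conj_xr S (node_di_mem S j l) (node_di S j l) (S.simple_lt i) (1 : F)
    rw [scal_single, mul_one] at h'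
    rw [mul_one] at h
    exact S.xs_injective i (h.symm.trans h')
  diag i := S.Q.K.cartan_self i i.isLt
  col := hcol
  conn := hconn

theorem le_H₀ [Finite F] (P : Pinned S.Q.amb S.Q.X.w0 F (Fin D.rank)) (hP : P.φ = node S) :
    S.Q.amb.H ≤ P.H₀ := by
  classical
  intro g hg
  obtain ⟨c, hc⟩ := exists_torus S hg
  have key : ∀ s : Finset (Fin D.rank), ∃ x ∈ P.H₀,
      (x : GL D.Idx F) = torus D F (fun m => if m ∈ s then c m else 1) := by
    intro s
    induction s using Finset.induction_on with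
    | empty =>
      refine ⟨1, one_mem _, ?_⟩
      rw [show (fun m => if m ∈ (∅ : Finset (Fin D.rank)) then c m else 1) = (1 : Fin D.rank → Fˣ) by
        funext m; simp, map_one]
      rfl
    | insert a s ha ih =>
      obtain ⟨x, hx, e⟩ := ih
      refine ⟨node S a (diSL (c a)) * x, mul_mem (hP ▸ P.di_mem_H₀ a (c a)) hx, ?_⟩
      rw [Subgroup.coe_mul, node_di, e, ← map_mul]
      congr 1
      funext m
      by_cases h : m = a
      · subst h; simp [ha]
      · simp [h]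
  obtain ⟨x, hx, e⟩ := key Finset.univ
  rwa [show g = x from Subtype.ext (by rw [hc, e]; simp)]

end Cfsg.Agent.H14.ThompsonSplit.Exc
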