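import Cfsg.Agent.H14.ThompsonSplit.JordanFac

/-!
A semisimple element times a regular unipotent element of its centraliser, acting without fixed
points on two unipotent subgroups: its class squares to the group.
-/

set_option autoImplicit false
set_option linter.unusedSectionVars false

namespace Cfsg.Agent.H14.ThompsonSplit

open Matrix

variable {H : Type*} [Group H] [Finite H]

theorem stable_inv {Q : Subgroup H} {x : H} (h : ∀ q ∈ Q, x * q * x⁻¹ ∈ Q) :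
    ∀ q ∈ Q, x⁻¹ * q * x ∈ Q := by
  intro q hq
  have key : ∀ k : ℕ, x ^ k * q * (x ^ k)⁻¹ ∈ Q := fun k => by
    induction k with
    | zero => simpa using hq
    | succ k ih =>
      rw [pow_succ', show x * x ^ k * q * (x * x ^ k)⁻¹ = x * (x ^ k * q * (x ^ k)⁻¹) * x⁻¹ by group]
      exact h _ ih
  have e : x⁻¹ = x ^ (orderOf x - 1) := by
    rw [inv_eq_iff_mul_eq_one, ← pow_succ', Nat.sub_add_cancel (orderOf_pos x), pow_orderOf_eq_one]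
  have := key (orderOf x - 1)
  rwa [← e, inv_inv] at this

/-- Left multiplication by a fixed point free invariant subgroup is conjugation. -/
theorem fuse_left {Q : Subgroup H} {x : H} (hs : ∀ q ∈ Q, x * q * x⁻¹ ∈ Q)
    (hf : ∀ q ∈ Q, x * q * x⁻¹ = q → q = 1) {d : H} (hd : d ∈ Q) :
    ∃ c : H, d * x = c * x * c⁻¹ := by
  let f : Q → Q := fun c => ⟨c.1 * (x * c.1⁻¹ * x⁻¹), mul_mem c.2 (hs _ (inv_mem c.2))⟩
  have hinj : Function.Injective f := by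
    intro a b hab
    have e : (a : H) * (x * (a : H)⁻¹ * x⁻¹) = b * (x * (b : H)⁻¹ * x⁻¹) := congrArg Subtype.val hab
    refine Subtype.ext (inv_mul_eq_one.1 (hf _ (mul_mem (inv_mem a.2) b.2) ?_))
    calc x * ((a : H)⁻¹ * b) * x⁻¹
        = (a : H)⁻¹ * ((a : H) * (x * (a : H)⁻¹ * x⁻¹)) * (x * b * x⁻¹) := by group
      _ = (a : H)⁻¹ * b := by rw [e]; group
  obtain ⟨c, hc⟩ := Finite.surjective_of_injective hinj ⟨d, hd⟩
  have e : (c : H) * (x * (c : H)⁻¹ * x⁻¹) = d := congrArg Subtype.val hc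
  exact ⟨c, by rw [← e]; group⟩

/-- Right multiplication by a fixed point free invariant subgroup is conjugation. -/
theorem fuse_right {Q : Subgroup H} {x : H} (hs : ∀ q ∈ Q, x * q * x⁻¹ ∈ Q)
    (hf : ∀ q ∈ Q, x * q * x⁻¹ = q → q = 1) {d : H} (hd : d ∈ Q) :
    ∃ c : H, x * d = c * x * c⁻¹ := by
  obtain ⟨c, hc⟩ := fuse_left hs hf (hs d hd)
  exact ⟨c, by rw [← hc]; group⟩

variable {F : Type*} [Field F] [Finite F] {p : ℕ} [Fact p.Prime] [CharP F p]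

theorem pow_eq_one_of_isJordan {n : ℕ} {X : SpecialLinearGroup (Fin n) F} (h : IsJordan X) :
    X ^ p ^ n = 1 := by
  rcases Nat.eq_zero_or_pos n with hn | hn
  · subst hn
    exact Subtype.ext (Matrix.ext fun i => i.elim0)
  have : Nonempty (Fin n) := ⟨⟨0, hn⟩⟩
  refine Subtype.ext ?_
  rw [Matrix.SpecialLinearGroup.coe_pow, Matrix.SpecialLinearGroup.coe_one, ← sub_eq_zero]
  have h1 := sub_pow_char_pow_of_commute (p := p) (n := n)
    (Commute.one_right (X : Matrix (Fin n) (Fin n) F))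
  rw [one_pow] at h1
  rw [← h1]
  exact pow_eq_zero_of_le (Nat.lt_pow_self (Fact.out : p.Prime).one_lt).le h.isReg.1

variable {B : Type*} [Fintype B] {m : B → ℕ} {G : Type*} [Group G]

/-- **A class whose square is the whole group.** -/
theorem exists_square (π : H →* G) (hπ : Function.Surjective π)
    (ψ : (∀ b, SpecialLinearGroup (Fin (m b)) F) →* H) (h : H) (hp : ¬ p ∣ orderOf h)
    (hF : 4 ≤ Nat.card F) (hcomm : ∀ M, Commute h (ψ M)) (Q V : Subgroup H)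
    (nQ : ∀ M, ∀ q ∈ Q, ψ M * q * (ψ M)⁻¹ ∈ Q) (hQ : ∀ q ∈ Q, h * q * h⁻¹ ∈ Q)
    (fQ : ∀ q ∈ Q, h * q * h⁻¹ = q → q = 1)
    (nV : ∀ M, ∀ q ∈ V, ψ M * q * (ψ M)⁻¹ ∈ V) (hV : ∀ q ∈ V, h * q * h⁻¹ ∈ V)
    (fV : ∀ q ∈ V, h * q * h⁻¹ = q → q = 1)
    (hconj : ∀ X : ∀ b, SpecialLinearGroup (Fin (m b)) F, (∀ b, IsJordan (X b)) →
      ∃ y : H, y * (h * ψ fun b => jordanSL F (m b)) * y⁻¹ = h * ψ X)
    (hreal : ∃ r : H, ∃ X : ∀ b, SpecialLinearGroup (Fin (m b)) F, (∀ b, IsJordan (X b)) ∧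
      π (r * (h * ψ fun b => jordanSL F (m b)) * r⁻¹) = π (h * ψ X)⁻¹)
    (hdec : ∀ g : H, π g = 1 ∨ ∃ y : H, ∃ v ∈ V, ∃ M : ∀ b, SpecialLinearGroup (Fin (m b)) F,
      ∃ q ∈ Q, (∀ b, M b = 1 ∨ ∀ c : F, (M b : Matrix (Fin (m b)) (Fin (m b)) F) ≠ c • 1) ∧
        y * g * y⁻¹ = v * ψ M * (h * h) * q) :
    ∃ c : G, ∀ g : G, ∃ x y : G, g = (x * c * x⁻¹) * (y * c * y⁻¹) := by
  set c₀ := h * ψ fun b => jordanSL F (m b) with hc₀
  refine ⟨π c₀, fun g₀ => ?_⟩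
  obtain ⟨g, rfl⟩ := hπ g₀
  rcases hdec g with hg | ⟨y, v, hv, M, q, hq, hM, e⟩
  · obtain ⟨r, X, hX, hr⟩ := hreal
    obtain ⟨y₁, hy₁⟩ := hconj X hX
    refine ⟨π y₁, π r, ?_⟩
    rw [hg]
    simp only [← map_inv, ← map_mul]
    rw [show y₁ * c₀ * y₁⁻¹ * (r * c₀ * r⁻¹) = (y₁ * c₀ * y₁⁻¹) * (r * c₀ * r⁻¹) from rfl,
      map_mul π (y₁ * c₀ * y₁⁻¹), hr, hy₁, ← map_mul, mul_inv_cancel, map_one]
  choose X Y hX hY hXY using fun b => exists_fac hF (M b) (hM b)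
  have hfix : ∀ (Z : ∀ b, SpecialLinearGroup (Fin (m b)) F), (∀ b, IsJordan (Z b)) → ∀ d : H,
      h * ψ Z * d * (h * ψ Z)⁻¹ = d → h * d * h⁻¹ = d := by
    intro Z hZ d hd
    obtain ⟨N, hN⟩ : ∃ N, ∀ b, m b ≤ N :=
      ⟨(Finset.univ : Finset B).sup m, fun b => Finset.le_sup (Finset.mem_univ b)⟩
    have hZp : Z ^ p ^ N = 1 := funext fun b => by
      rw [Pi.pow_apply, show p ^ N = p ^ (m b) * p ^ (N - m b) by
        rw [← pow_add, Nat.add_sub_cancel' (hN b)], pow_mul, pow_eq_one_of_isJordan (hZ b), one_pow]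
      rfl
    have hpw : (h * ψ Z) ^ p ^ N = h ^ p ^ N := by
      rw [(hcomm Z).mul_pow, ← map_pow, hZp, map_one, mul_one]
    have h1 : Commute (h * ψ Z) d := mul_inv_eq_iff_eq_mul.1 hd
    have h2 : Commute (h ^ p ^ N) d := hpw ▸ h1.pow_left _
    obtain ⟨k, hk⟩ := exists_pow_eq_self_of_coprime (x := h) (n := p ^ N)
      (Nat.Coprime.pow_left N (((Fact.out : p.Prime).coprime_iff_not_dvd).2 hp))
    have h3 : Commute h d := hk ▸ h2.pow_left k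
    rw [h3.eq, mul_inv_cancel_right]
  have hst : ∀ (R : Subgroup H), (∀ M, ∀ q ∈ R, ψ M * q * (ψ M)⁻¹ ∈ R) →
      (∀ q ∈ R, h * q * h⁻¹ ∈ R) → ∀ Z, ∀ q ∈ R, h * ψ Z * q * (h * ψ Z)⁻¹ ∈ R := by
    intro R hn hh Z q hq
    rw [show h * ψ Z * q * (h * ψ Z)⁻¹ = h * (ψ Z * q * (ψ Z)⁻¹) * h⁻¹ by group]
    exact hh _ (hn Z q hq)
  obtain ⟨c₁, hc₁⟩ := fuse_left (hst V nV hV X)
    (fun d hd hd' => fV d hd (hfix X hX d hd')) hv
  obtain ⟨c₂, hc₂⟩ := fuse_right (hst Q nQ hQ Y)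
    (fun d hd hd' => fQ d hd (hfix Y hY d hd')) hq
  obtain ⟨y₁, hy₁⟩ := hconj X hX
  obtain ⟨y₂, hy₂⟩ := hconj Y hY
  refine ⟨π (y⁻¹ * c₁ * y₁), π (y⁻¹ * c₂ * y₂), ?_⟩
  rw [← map_inv, ← map_inv, ← map_mul, ← map_mul, ← map_mul, ← map_mul, ← map_mul]
  congr 1
  have eM : ψ M * (h * h) = h * ψ X * (h * ψ Y) := by
    rw [show M = X * Y from funext hXY, map_mul,
      show h * ψ X * (h * ψ Y) = h * (ψ X * h) * ψ Y by group, ← (hcomm X).eq,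
      show h * (h * ψ X) * ψ Y = h * h * (ψ X * ψ Y) by group]
    exact ((((hcomm X).mul_right (hcomm Y)).mul_left ((hcomm X).mul_right (hcomm Y))).eq).symm
  calc g = y⁻¹ * (y * g * y⁻¹) * y := by group
    _ = y⁻¹ * ((v * (h * ψ X)) * ((h * ψ Y) * q)) * y := by
      rw [e, show v * ψ M * (h * h) * q = v * (ψ M * (h * h)) * q by group, eM]; group
    _ = y⁻¹ * (c₁ * (h * ψ X) * c₁⁻¹ * (c₂ * (h * ψ Y) * c₂⁻¹)) * y := by rw [hc₁, hc₂]
    _ = _ := by rw [← hy₁, ← hy₂]; group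

end Cfsg.Agent.H14.ThompsonSplit
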