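import Cfsg.Agent.H14.ThompsonSplit.Diag

/-!
The doubles of coordinate blocks under the twist of an antidiagonal form.
-/

set_option autoImplicit false
set_option linter.unusedSectionVars false

namespace Cfsg.Agent.H14.ThompsonSplit

open Matrix Cfsg.Agent.Linear Cfsg.Agent.H54 Cfsg.Agent.H52.TwistedBruhat Cfsg.Agent.H83.Classical
open scoped MatrixGroups

variable {n k : ℕ} {F : Type*} [Field F] (ef : Fin n → Fˣ)

/-- The twist by the antidiagonal form with coefficients `ef`. -/
noncomputable def tau : GL (Fin n) F →* GL (Fin n) F :=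
  (MulAut.conj (diagGL ef)).toMonoidHom.comp (theta (RingHom.id F))

theorem tau_apply (g : GL (Fin n) F) (i j : Fin n) :
    (tau ef g : Matrix (Fin n) (Fin n) F) i j =
      (ef i : F) * ((g⁻¹ : GL (Fin n) F) : Matrix (Fin n) (Fin n) F) j.rev i.rev * ((ef j)⁻¹ : Fˣ) := by
  show ((diagGL ef * theta (RingHom.id F) g * (diagGL ef)⁻¹ : GL (Fin n) F) :
    Matrix (Fin n) (Fin n) F) i j = _
  rw [diag_conj_apply, theta_apply]
  rfl

theorem tau_tau {c : Fˣ} (hc : ∀ i, ef i.rev = c * ef i) (g : GL (Fin n) F) : tau ef (tau ef g) = g := by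
  refine Units.ext (Matrix.ext fun i j => ?_)
  rw [tau_apply, ← map_inv, tau_apply, inv_inv, Fin.rev_rev, Fin.rev_rev, hc j, hc i]
  have h1 := (ef i).ne_zero
  have h2 := (ef j).ne_zero
  have h3 := c.ne_zero
  simp only [Units.val_mul, Units.val_inv_eq_inv_val]
  field_simp

theorem tau_diag (d : Fin n → Fˣ) : tau ef (diagGL d) = diagGL fun i => (d i.rev)⁻¹ := by
  refine Units.ext (Matrix.ext fun i j => ?_)
  rw [tau_apply, diagGL_inv, diagGL_coe, diagGL_coe, Matrix.diagonal_apply, Matrix.diagonal_apply]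
  by_cases h : i = j
  · subst h
    rw [if_pos rfl, if_pos rfl, Pi.inv_apply, mul_comm (ef i : F), mul_assoc, Units.mul_inv, mul_one]
  · rw [if_neg (fun e => h (Fin.rev_injective e.symm)), if_neg h, mul_zero, zero_mul]

theorem diag_fixed {d : Fin n → Fˣ} (hd : ∀ i, d i.rev = (d i)⁻¹) : tau ef (diagGL d) = diagGL d := by
  rw [tau_diag]
  congr 1
  funext i
  rw [hd, inv_inv]

theorem sym_of_fixed {d : Fin n → Fˣ} (h : tau ef (diagGL d) = diagGL d) (i : Fin n) :
    d i.rev = (d i)⁻¹ := by
  rw [tau_diag] at h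
  have := congrFun (diagGL_inj h) i
  rw [← this, inv_inv]

/-- The image of a block under the twist. -/
noncomputable def twSL (d : Fin k → Fˣ) (M : SpecialLinearGroup (Fin k) F) : SpecialLinearGroup (Fin k) F :=
  dconjSL d (Matrix.SpecialLinearGroup.transpose M⁻¹)

theorem twSL_apply (d : Fin k → Fˣ) (M : SpecialLinearGroup (Fin k) F) (a b : Fin k) :
    (twSL d M : Matrix (Fin k) (Fin k) F) a b =
      (d a : F) * ((M⁻¹ : SpecialLinearGroup (Fin k) F) : Matrix (Fin k) (Fin k) F) b a * ((d b)⁻¹ : Fˣ) :=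
  dconjSL_apply d _ a b

theorem isJordan_tw (d : Fin k → Fˣ) {X : SpecialLinearGroup (Fin k) F} (h : IsJordan X) :
    IsJordan (twSL d X) :=
  isJordan_dconj d (isJordan_of_isReg (isJordan_inv h).isReg.transpose)

/-- The mirrored coordinates. -/
def revEmb (e : Fin k ↪ Fin n) : Fin k ↪ Fin n := e.trans (Fin.revPerm : Equiv.Perm (Fin n)).toEmbedding

theorem revEmb_apply (e : Fin k ↪ Fin n) (a : Fin k) : revEmb e a = (e a).rev := rfl

theorem tau_embGL (e : Fin k ↪ Fin n) (M : SpecialLinearGroup (Fin k) F) :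
    tau ef (embGL e M) = embGL (revEmb e) (twSL (fun a => ef (e a).rev) M) := by
  refine eq_embGL _ _ _ (fun a b => ?_) (fun y hy j => ?_) (fun y hy i => ?_)
  · rw [tau_apply, revEmb_apply, revEmb_apply, Fin.rev_rev, Fin.rev_rev, twSL_apply, ← map_inv,
      embGL_apply]
  · rw [tau_apply, ← map_inv, embGL_right e _ (fun ⟨a, ha⟩ => hy ⟨a, by rw [revEmb_apply, ha, Fin.rev_rev]⟩),
      Matrix.one_apply, Matrix.one_apply]
    by_cases h : y = j
    · subst h; simp
    · rw [if_neg (fun e => h (Fin.rev_injective e.symm)), if_neg h, mul_zero, zero_mul]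
  · rw [tau_apply, ← map_inv, embGL_left e _ (fun ⟨a, ha⟩ => hy ⟨a, by rw [revEmb_apply, ha, Fin.rev_rev]⟩),
      Matrix.one_apply, Matrix.one_apply]
    by_cases h : i = y
    · subst h; simp
    · rw [if_neg (fun e => h (Fin.rev_injective e.symm)), if_neg h, mul_zero, zero_mul]

/-- Coordinates disjoint from their mirror images. -/
def Half (e : Fin k ↪ Fin n) : Prop := ∀ a b, e a ≠ (e b).rev

variable {e : Fin k ↪ Fin n}

theorem Half.commute (he : Half e) (M N : SpecialLinearGroup (Fin k) F) :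
    Commute (embGL e M) (tau ef (embGL e N)) := by
  rw [tau_embGL]
  exact embGL_commute e (revEmb e) he _ _

/-- The double of a block. -/
noncomputable def dblGL (he : Half e) : SpecialLinearGroup (Fin k) F →* GL (Fin n) F where
  toFun M := embGL e M * tau ef (embGL e M)
  map_one' := by rw [map_one, map_one, one_mul]
  map_mul' M N := by rw [map_mul, map_mul, (he.commute ef N M).symm.mul_mul_mul_comm]

theorem dblGL_eq (he : Half e) (M : SpecialLinearGroup (Fin k) F) :
    dblGL ef he M = embGL e M * embGL (revEmb e) (twSL (fun a => ef (e a).rev) M) := by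
  show embGL e M * tau ef (embGL e M) = _
  rw [tau_embGL]

theorem dblGL_fixed (he : Half e) {c : Fˣ} (hc : ∀ i, ef i.rev = c * ef i)
    (M : SpecialLinearGroup (Fin k) F) : tau ef (dblGL ef he M) = dblGL ef he M := by
  show tau ef (embGL e M * tau ef (embGL e M)) = _
  rw [map_mul, tau_tau ef hc]
  exact ((he.commute ef M M).eq).symm

theorem emb_mul_apply_range {e' : Fin k ↪ Fin n} (hd : ∀ a b, e a ≠ e' b) (M N : SpecialLinearGroup (Fin k) F)
    (a : Fin k) (j : Fin n) :
    ((embGL e M * embGL e' N : GL (Fin n) F) : Matrix (Fin n) (Fin n) F) (e a) j =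
      (embGL e M : Matrix (Fin n) (Fin n) F) (e a) j := by
  rw [Units.val_mul, Matrix.mul_apply, Finset.sum_eq_single j]
  · by_cases hj : j ∈ Set.range e'
    · rw [embGL_right e M (fun ⟨c, hc⟩ => by obtain ⟨d, hd'⟩ := hj; exact hd c d (hc.trans hd'.symm)),
        Matrix.one_apply_ne (fun h => by obtain ⟨d, hd'⟩ := hj; exact hd a d (h.trans hd'.symm)), zero_mul]
    · rw [embGL_left e' N hj, Matrix.one_apply_eq, mul_one]
  · intro l _ hl
    by_cases h : l ∈ Set.range e
    · obtain ⟨c, rfl⟩ := h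
      rw [embGL_left e' N (fun ⟨d, hd'⟩ => hd c d hd'.symm), Matrix.one_apply_ne hl, mul_zero]
    · rw [embGL_right e M h, Matrix.one_apply_ne (fun h' => h ⟨a, h'⟩), zero_mul]
  · simp

theorem emb_mul_apply_out {e' : Fin k ↪ Fin n} (M N : SpecialLinearGroup (Fin k) F) {i : Fin n}
    (hi : i ∉ Set.range e) (j : Fin n) :
    ((embGL e M * embGL e' N : GL (Fin n) F) : Matrix (Fin n) (Fin n) F) i j =
      (embGL e' N : Matrix (Fin n) (Fin n) F) i j := by
  rw [Units.val_mul, Matrix.mul_apply, Finset.sum_eq_single i]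
  · rw [embGL_left e M hi, Matrix.one_apply_eq, one_mul]
  · intro l _ hl
    rw [embGL_left e M hi, Matrix.one_apply_ne (Ne.symm hl), zero_mul]
  · simp

theorem dblGL_apply (he : Half e) (M : SpecialLinearGroup (Fin k) F) (a b : Fin k) :
    (dblGL ef he M : Matrix (Fin n) (Fin n) F) (e a) (e b) = (M : Matrix (Fin k) (Fin k) F) a b := by
  rw [dblGL_eq, emb_mul_apply_range (e' := revEmb e) he, embGL_apply]

theorem dblGL_apply_rev (he : Half e) (M : SpecialLinearGroup (Fin k) F) (a b : Fin k) :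
    (dblGL ef he M : Matrix (Fin n) (Fin n) F) (e a).rev (e b).rev =
      (ef (e a).rev : F) * ((M⁻¹ : SpecialLinearGroup (Fin k) F) : Matrix (Fin k) (Fin k) F) b a *
        ((ef (e b).rev)⁻¹ : Fˣ) := by
  rw [dblGL_eq, emb_mul_apply_out M _ (fun ⟨c, hc⟩ => he c a hc),
    show (e a).rev = revEmb e a from rfl, show (e b).rev = revEmb e b from rfl, embGL_apply, twSL_apply]
  rfl

theorem dblGL_out (he : Half e) (M : SpecialLinearGroup (Fin k) F) {i : Fin n}
    (h1 : i ∉ Set.range e) (h2 : i ∉ Set.range (revEmb e)) (j : Fin n) :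
    (dblGL ef he M : Matrix (Fin n) (Fin n) F) i j = (1 : Matrix (Fin n) (Fin n) F) i j := by
  rw [dblGL_eq, emb_mul_apply_out M _ h1, embGL_left (revEmb e) _ h2]

theorem dblGL_zero_of_mem (he : Half e) (M : SpecialLinearGroup (Fin k) F) (a : Fin k) {j : Fin n}
    (hj : j ∉ Set.range e) : (dblGL ef he M : Matrix (Fin n) (Fin n) F) (e a) j = 0 := by
  rw [dblGL_eq, emb_mul_apply_range (e' := revEmb e) he, embGL_right e M hj, Matrix.one_apply_ne]
  exact fun h => hj ⟨a, h⟩

theorem dblGL_transvection (he : Half e) {a b : Fin k} (h : a ≠ b) (t : F) :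
    dblGL ef he (Matrix.SpecialLinearGroup.transvection h t) =
      xGL (e.injective.ne h) t * xGL (Fin.rev_injective.ne (e.injective.ne h.symm))
        (-((ef (e b).rev : F) * t * ((ef (e a).rev)⁻¹ : Fˣ))) := by
  show embGL e _ * tau ef (embGL e _) = _
  rw [embGL_transvection]
  congr 1
  refine Units.ext (Matrix.ext fun i j => ?_)
  rw [tau_apply, xGL_inv, xGL_apply, xGL_apply]
  by_cases h1 : i = (e b).rev ∧ j = (e a).rev
  · obtain ⟨rfl, rfl⟩ := h1
    simp only [Fin.rev_rev, and_self, if_true, if_neg (e.injective.ne h),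
      if_neg (Fin.rev_injective.ne (e.injective.ne h.symm))]
    ring
  · rw [if_neg h1, if_neg (show ¬(j.rev = e a ∧ i.rev = e b) from fun h' =>
      h1 ⟨by rw [← h'.2, Fin.rev_rev], by rw [← h'.1, Fin.rev_rev]⟩)]
    by_cases h2 : i = j
    · subst h2; simp
    · rw [if_neg (fun h' => h2 (Fin.rev_injective h'.symm)), if_neg h2]
      ring

theorem diag_conj_dblGL (he : Half e) {d : Fin n → Fˣ} (hd : tau ef (diagGL d) = diagGL d)
    {M M' : SpecialLinearGroup (Fin k) F} (h : ∀ a b, (M' : Matrix (Fin k) (Fin k) F) a b =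
      (d (e a) : F) * (M : Matrix (Fin k) (Fin k) F) a b * ((d (e b))⁻¹ : Fˣ)) :
    diagGL d * dblGL ef he M * (diagGL d)⁻¹ = dblGL ef he M' := by
  show diagGL d * (embGL e M * tau ef (embGL e M)) * (diagGL d)⁻¹ = embGL e M' * tau ef (embGL e M')
  rw [← diag_conj_embGL e d M M' h, map_mul, map_mul, map_inv, hd]
  group

theorem diag_commute_dblGL (he : Half e) {d : Fin n → Fˣ} (hd : tau ef (diagGL d) = diagGL d)
    (h : ∀ a b, d (e a) = d (e b)) (M : SpecialLinearGroup (Fin k) F) :
    Commute (diagGL d) (dblGL ef he M) :=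
  mul_inv_eq_iff_eq_mul.1 (diag_conj_dblGL ef he hd fun a b => by
    rw [h a b, mul_comm, ← mul_assoc, Units.inv_mul, one_mul])

/-- A fixed monomial matrix mirroring the block conjugates the double into itself. -/
theorem mirror_dblGL (he : Half e) {c : Fˣ} (hc : ∀ i, ef i.rev = c * ef i) (d : Fin n → Fˣ)
    (π : Equiv.Perm (Fin n)) (hπ : ∀ a, π (e a) = (e a).rev)
    (hfix : tau ef (diagGL d * permGL F π) = diagGL d * permGL F π) (M : SpecialLinearGroup (Fin k) F) :
    diagGL d * permGL F π * dblGL ef he M * (diagGL d * permGL F π)⁻¹ =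
      dblGL ef he (twSL (fun a => ef (e a)) (dconjSL (fun a => d (e a).rev) M)) := by
  set r := diagGL d * permGL F π with hr
  set X := dconjSL (fun a => d (e a).rev) M with hX
  have h1 : r * embGL e M * r⁻¹ = embGL (revEmb e) X := by
    rw [hr, show diagGL d * permGL F π * embGL e M * (diagGL d * permGL F π)⁻¹ =
      diagGL d * (permGL F π * embGL e M * (permGL F π)⁻¹) * (diagGL d)⁻¹ by group, perm_conj_embGL,
      show e.trans π.toEmbedding = revEmb e from Function.Embedding.ext fun a => hπ a]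
    exact diag_conj_embGL (revEmb e) d M X fun a b => dconjSL_apply _ _ a b
  have h2 : tau ef (embGL (revEmb e) X) = embGL e (twSL (fun a => ef (e a)) X) := by
    rw [tau_embGL]
    congr 1
    · congr 1
      exact Function.Embedding.ext fun a => Fin.rev_rev (e a)
    · congr 1
      funext a
      rw [revEmb_apply, Fin.rev_rev]
  show r * (embGL e M * tau ef (embGL e M)) * r⁻¹ = _
  have h3 : r * tau ef (embGL e M) * r⁻¹ = tau ef (r * embGL e M * r⁻¹) := by
    rw [map_mul, map_mul, map_inv, hfix]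
  rw [show r * (embGL e M * tau ef (embGL e M)) * r⁻¹ =
    (r * embGL e M * r⁻¹) * (r * tau ef (embGL e M) * r⁻¹) by group, h3, h1, h2]
  show _ = embGL e _ * tau ef (embGL e _)
  rw [← h2, tau_tau ef hc]
  rw [h2]
  exact (embGL_commute (revEmb e) e (fun a b h => he b a h.symm) _ _).eq

end Cfsg.Agent.H14.ThompsonSplit
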