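import Mathlib

/-!
Reaching every element of a split torus by moves along coroots, a move along a node being allowed
when the root of the node is non-trivial on the current element.
-/

set_option autoImplicit false
set_option linter.unusedSectionVars false

namespace Cfsg.Agent.H14.ThompsonSplit

open Polynomial

variable {F : Type*} [Field F] [Fintype F]

/-- Few units have a prescribed power. -/
theorem card_zpow_eq [DecidableEq F] {c : ℤ} (hc : c ≠ 0) (d : Fˣ) :
    ((Finset.univ : Finset Fˣ).filter fun l => l ^ c = d).card ≤ c.natAbs := by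
  classical
  obtain ⟨e, he⟩ : ∃ e : Fˣ, ∀ l : Fˣ, l ^ c = d ↔ l ^ c.natAbs = e := by
    rcases Int.natAbs_eq c with h | h
    · exact ⟨d, fun l => by rw [h, zpow_natCast, Int.natAbs_natCast]⟩
    · refine ⟨d⁻¹, fun l => ?_⟩
      rw [h, zpow_neg, zpow_natCast, Int.natAbs_neg, Int.natAbs_natCast, inv_eq_iff_eq_inv]
  refine le_trans ?_ ((Multiset.toFinset_card_le _).trans (card_nthRoots c.natAbs (e : F)))
  refine Finset.card_le_card_of_injOn (fun l => (l : F)) (fun l hl => ?_)
    (fun a _ b _ h => Units.ext h)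
  simp only [Finset.mem_coe, Finset.mem_filter, Finset.mem_univ, true_and] at hl
  rw [Finset.mem_coe, Multiset.mem_toFinset, mem_nthRoots (Int.natAbs_pos.2 hc),
    ← Units.val_pow_eq_pow_val, (he l).1 hl]

/-- A unit avoiding few power equations. -/
theorem exists_avoid_powers {ι : Type*} (J : Finset ι) (c : ι → ℤ) (d : ι → Fˣ)
    (hc : ∀ j ∈ J, c j ≠ 0) (hsum : ∑ j ∈ J, (c j).natAbs + 1 < Fintype.card F) :
    ∃ l : Fˣ, ∀ j ∈ J, l ^ c j ≠ d j := by
  classical
  by_contra h
  push Not at h
  have hsub : (Finset.univ : Finset Fˣ) ⊆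
      J.biUnion fun j => Finset.univ.filter fun l => l ^ c j = d j := fun l _ => by
    obtain ⟨j, hj, e⟩ := h l
    exact Finset.mem_biUnion.2 ⟨j, hj, by simp [e]⟩
  have h1 := (Finset.card_le_card hsub).trans Finset.card_biUnion_le
  have h2 := h1.trans (Finset.sum_le_sum fun j hj => card_zpow_eq (hc j hj) (d j))
  rw [Finset.card_univ, Fintype.card_units] at h2
  omega

variable {ι : Type*} [Fintype ι] [DecidableEq ι] {H : Type*} [CommGroup H]

/-- The combinatorial data of a torus with coroots and roots. -/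
structure TorusData (F : Type*) [Field F] (ι : Type*) [Fintype ι] [DecidableEq ι] (H : Type*)
    [CommGroup H] where
  /-- the Cartan integers: the root `i` on the coroot `j` -/
  C : ι → ι → ℤ
  /-- the coroots -/
  h : ι → Fˣ →* H
  /-- the roots -/
  χ : ι → H →* Fˣ
  pair : ∀ i j l, χ i (h j l) = l ^ C i j
  diag : ∀ i, C i i = 2
  col : ∀ j, ∑ i ∈ Finset.univ.erase j, (C i j).natAbs ≤ 3
  conn : ∀ N : Finset ι, N.Nonempty → N ≠ Finset.univ → ∃ j ∈ N, ∃ i, i ∉ N ∧ C i j ≠ 0
  gen : ∀ k : H, ∃ δ : ι → Fˣ, k = ∏ i, h i (δ i)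

namespace TorusData

variable (T : TorusData F ι H)

theorem chi_move (i j : ι) (k : H) (l : Fˣ) : T.χ i (k * T.h j l) = T.χ i k * l ^ T.C i j := by
  rw [map_mul, T.pair]

variable {P : H → Prop} (hmove : ∀ k j, P k → T.χ j k ≠ 1 → ∀ l, P (k * T.h j l))
  (hq : 9 ≤ Fintype.card F)
include hmove hq

/-- Some reachable element has all roots non-trivial. -/
theorem exists_regular {k : H} (hk : P k) {t : ι} (ht : T.χ t k ≠ 1) :
    ∃ A : H, P A ∧ ∀ i, T.χ i A ≠ 1 := by
  classical
  generalize hn : (Finset.univ.filter fun i => T.χ i k = 1).card = n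
  induction n using Nat.strong_induction_on generalizing k t with
  | _ n ih =>
  subst hn
  set N := Finset.univ.filter fun i => ¬ T.χ i k = 1 with hN
  by_cases hall : N = Finset.univ
  · refine ⟨k, hk, fun i => ?_⟩
    have : i ∈ N := hall ▸ Finset.mem_univ i
    exact (Finset.mem_filter.1 this).2
  obtain ⟨j, hj, i, hi, hij⟩ := T.conn N ⟨t, by simp [hN, ht]⟩ hall
  have hjk : T.χ j k ≠ 1 := (Finset.mem_filter.1 hj).2
  have hik : T.χ i k = 1 := by
    by_contra h
    exact hi (Finset.mem_filter.2 ⟨Finset.mem_univ i, h⟩)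
  set J := Finset.univ.filter fun l => T.C l j ≠ 0 with hJ
  obtain ⟨l, hl⟩ := exists_avoid_powers J (fun x => T.C x j) (fun x => (T.χ x k)⁻¹)
    (fun x hx => (Finset.mem_filter.1 hx).2) (by
      have h1 : ∑ x ∈ J, (T.C x j).natAbs ≤ ∑ x, (T.C x j).natAbs :=
        Finset.sum_le_sum_of_subset (Finset.filter_subset _ _)
      rw [← Finset.add_sum_erase _ _ (Finset.mem_univ j), T.diag] at h1
      have := T.col j
      simp only [Int.reduceAbs] at h1
      omega)
  have hgood : ∀ x, (T.C x j ≠ 0 ∨ T.χ x k ≠ 1) → T.χ x (k * T.h j l) ≠ 1 := by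
    intro x hx h
    rw [T.chi_move] at h
    by_cases h0 : T.C x j = 0
    · rw [h0, zpow_zero, mul_one] at h
      exact hx.resolve_left (not_not.2 h0) h
    · exact hl x (Finset.mem_filter.2 ⟨Finset.mem_univ x, h0⟩) (eq_inv_of_mul_eq_one_right h)
  refine ih _ ?_ (hmove k j hk hjk l) (hgood j (Or.inr hjk)) rfl
  refine Finset.card_lt_card (Finset.ssubset_iff_subset_ne.2 ⟨fun x hx => ?_, fun e => ?_⟩)
  · simp only [Finset.mem_filter, Finset.mem_univ, true_and] at hx ⊢
    by_contra h
    exact hgood x (Or.inr h) hx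
  · have : i ∈ Finset.univ.filter fun x => T.χ x (k * T.h j l) = 1 := e ▸ by simp [hik]
    exact hgood i (Or.inl hij) (Finset.mem_filter.1 this).2

/-- From an element regular on a list, every translate along the list is reachable. -/
theorem reach_list : ∀ (L : List ι), L.Nodup → ∀ (A : H), P A → (∀ i ∈ L, T.χ i A ≠ 1) →
    ∀ δ : ι → Fˣ, P (A * (L.map fun i => T.h i (δ i)).prod)
  | [], _, A, hA, _, _ => by simpa using hA
  | j :: L, hnd, A, hA, hreg, δ => by
    classical
    obtain ⟨hjL, hL⟩ := List.nodup_cons.1 hnd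
    set K := A * ((j :: L).map fun i => T.h i (δ i)).prod with hK
    set J : Finset (Option ι) := (L.toFinset.filter fun i => T.C i j ≠ 0).image some ∪ {none} with hJ
    obtain ⟨y, hy⟩ := exists_avoid_powers J
      (fun o => o.elim 2 fun i => T.C i j)
      (fun o => o.elim (T.χ j K)⁻¹ fun i => (T.χ i A * δ j ^ T.C i j)⁻¹)
      (fun o ho => by
        rw [hJ, Finset.mem_union, Finset.mem_singleton, Finset.mem_image] at ho
        rcases ho with ⟨i, hi, rfl⟩ | rfl
        · exact (Finset.mem_filter.1 hi).2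
        · simp) (by
      have h1 : ∑ o ∈ J, (o.elim 2 fun i => T.C i j).natAbs ≤
          ∑ i ∈ L.toFinset.filter (fun i => T.C i j ≠ 0), (T.C i j).natAbs + 2 := by
        rw [hJ, Finset.sum_union (by simp), Finset.sum_singleton,
          Finset.sum_image (fun a _ b _ h => Option.some_injective _ h)]
        rfl
      have h2 : ∑ i ∈ L.toFinset.filter (fun i => T.C i j ≠ 0), (T.C i j).natAbs ≤
          ∑ i ∈ Finset.univ.erase j, (T.C i j).natAbs := by
        refine Finset.sum_le_sum_of_subset fun i hi => Finset.mem_erase.2 ⟨?_, Finset.mem_univ i⟩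
        rintro rfl
        exact hjL (List.mem_toFinset.1 (Finset.mem_filter.1 hi).1)
      have := T.col j
      omega)
    set A' := A * T.h j (δ j * y) with hA'
    have hA'P : P A' := hmove A j hA (hreg j (by simp)) _
    have hreg' : ∀ i ∈ L, T.χ i A' ≠ 1 := by
      intro i hi h
      rw [hA', T.chi_move, mul_zpow, ← mul_assoc] at h
      by_cases h0 : T.C i j = 0
      · rw [h0, zpow_zero, zpow_zero, mul_one, mul_one] at h
        exact hreg i (by simp [hi]) h
      · exact hy (some i) (Finset.mem_union_left _ (Finset.mem_image.2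
          ⟨i, Finset.mem_filter.2 ⟨List.mem_toFinset.2 hi, h0⟩, rfl⟩))
          (eq_inv_of_mul_eq_one_right h)
    have hK' := reach_list L hL A' hA'P hreg' δ
    have e : A' * (L.map fun i => T.h i (δ i)).prod = K * T.h j y := by
      rw [hA', hK, List.map_cons, List.prod_cons, map_mul]
      ac_rfl
    rw [e] at hK'
    have hjK : T.χ j (K * T.h j y) ≠ 1 := fun h => by
      rw [T.chi_move, T.diag] at h
      exact hy none (Finset.mem_union_right _ (Finset.mem_singleton_self _))
        (eq_inv_of_mul_eq_one_right h)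
    have := hmove _ j hK' hjK y⁻¹
    rwa [mul_assoc, ← map_mul, mul_inv_cancel, map_one, mul_one] at this

/-- Every element is reachable. -/
theorem reach {k : H} {t : ι} (hk : ∀ l, P (k * T.h t l)) (K : H) : P K := by
  classical
  obtain ⟨l, hl⟩ := exists_avoid_powers {t} (fun x => T.C x t) (fun x => (T.χ x k)⁻¹)
    (fun x hx => by rw [Finset.mem_singleton.1 hx, T.diag]; decide)
    (by rw [Finset.sum_singleton, T.diag]; simp only [Int.reduceAbs]; omega)
  obtain ⟨A, hA, hreg⟩ := T.exists_regular hmove hq (hk l) (t := t) (fun h =>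
    hl t (Finset.mem_singleton_self t) (eq_inv_of_mul_eq_one_right (by rwa [T.chi_move] at h)))
  obtain ⟨δ, hδ⟩ := T.gen (A⁻¹ * K)
  have := T.reach_list hmove hq (Finset.univ : Finset ι).toList (Finset.nodup_toList _) A hA
    (fun i _ => hreg i) δ
  rwa [Finset.prod_map_toList, ← hδ, mul_inv_cancel_left] at this

end TorusData

end Cfsg.Agent.H14.ThompsonSplit
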