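import Cfsg.Agent.H14.ThompsonSplit.Reflect
import Cfsg.Agent.H14.ThompsonSplit.RankOne
import Cfsg.Agent.H14.ThompsonSplit.Game
import Cfsg.Agent.Linear.Generation

/-!
Gauss decomposition with prescribed torus part: in a split Tits system with a family of rank one
subgroups for the fundamental roots, every non-central element is conjugate to an element of
`U⁻ K U` for every torus element `K`.
-/

set_option autoImplicit false
set_option linter.unusedSectionVars false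

namespace Cfsg.Agent.H14.ThompsonSplit

open Cfsg.Agent.H28 Cfsg.Agent.H13.Split Matrix
open Cfsg.Agent.H37 (Tits.Ambient)

/-- A normal subgroup of a split Tits system with rank one subgroups at the fundamental roots. -/
structure Frame {G W : Type*} [Group G] [Group W] (A : Tits.Ambient G W) (w₀ : W)
    (F : Type*) [Field F] (ι : Type*) [Fintype ι] [DecidableEq ι] where
  E : Subgroup G
  E_normal : E.Normal
  U_le : A.U ≤ E
  H_comm : ∀ a ∈ A.H, ∀ b ∈ A.H, a * b = b * a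
  s : ι → W
  s_mem : ∀ i, s i ∈ A.S
  s_surj : ∀ r ∈ A.S, ∃ i, s i = r
  φ : ι → SpecialLinearGroup (Fin 2) F →* G
  φ_mem : ∀ i a, φ i a ∈ E
  up : ∀ i t, φ i (upSL t) ∈ A.Uw (s i)
  up_surj : ∀ i, ∀ x ∈ A.Uw (s i), ∃ t, φ i (upSL t) = x
  lo_conj : ∀ i, ∃ c : Fˣ, ∀ t, A.n (s i) * φ i (upSL t) * (A.n (s i))⁻¹ = φ i (loSL ((c : F) * t))
  lo_opp : ∀ i t, (A.n w₀)⁻¹ * φ i (loSL t) * A.n w₀ ∈ A.Uw (w₀ * s i * w₀)
  opp_surj : ∀ i, ∀ x ∈ A.Uw (w₀ * s i * w₀), ∃ t, φ i (loSL t) = A.n w₀ * x * (A.n w₀)⁻¹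
  di_mem : ∀ i l, φ i (diSL l) ∈ A.H
  χ : ι → ↥A.H →* Fˣ
  conj : ∀ i (k : ↥A.H) a, (k : G) * φ i a * (k : G)⁻¹ = φ i (scaleSL (χ i k) a)
  C : ι → ι → ℤ
  pair : ∀ i j l, χ i ⟨φ j (diSL l), di_mem j l⟩ = l ^ C i j
  diag : ∀ i, C i i = 2
  col : ∀ j, ∑ i ∈ Finset.univ.erase j, (C i j).natAbs ≤ 3
  conn : ∀ N : Finset ι, N.Nonempty → N ≠ Finset.univ → ∃ j ∈ N, ∃ i, i ∉ N ∧ C i j ≠ 0
  gen : ∀ k ∈ A.H ⊓ E, k ∈ Subgroup.closure (Set.range fun q : ι × Fˣ => φ q.1 (diSL q.2))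

theorem upSL_zero {F : Type*} [Field F] : upSL (0 : F) = 1 :=
  Subtype.ext (by show !![(1 : F), 0; 0, 1] = 1; exact Matrix.one_fin_two.symm)

theorem loSL_zero {F : Type*} [Field F] : loSL (0 : F) = 1 :=
  Subtype.ext (by show !![(1 : F), 0; 0, 1] = 1; exact Matrix.one_fin_two.symm)

theorem diSL_mul {F : Type*} [Field F] (a b : Fˣ) : diSL (a * b) = diSL a * diSL b := by
  refine Subtype.ext ?_
  show (diSL (a * b)).1 = (diSL a).1 * (diSL b).1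
  ext i j
  fin_cases i <;> fin_cases j <;> simp [diSL, Matrix.mul_apply, Fin.sum_univ_two, mul_comm]

theorem transvection_eq_up {F : Type*} [Field F] {i j : Fin 2} (h : i ≠ j) (t : F) :
    Matrix.SpecialLinearGroup.transvection h t = upSL t ∨
      Matrix.SpecialLinearGroup.transvection h t = loSL t := by
  fin_cases i <;> fin_cases j
  · exact absurd rfl h
  · left
    refine Subtype.ext ?_
    show Matrix.transvection 0 1 t = _
    ext a b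
    fin_cases a <;> fin_cases b <;> simp [Matrix.transvection, upSL]
  · right
    refine Subtype.ext ?_
    show Matrix.transvection 1 0 t = _
    ext a b
    fin_cases a <;> fin_cases b <;> simp [Matrix.transvection, loSL]
  · exact absurd rfl h

namespace Frame

variable {G W : Type*} [Group G] [Group W] [Finite G] {A : Tits.Ambient G W} {p : ℕ} [Fact p.Prime]
  {w₀ : W} {F : Type*} [Field F] {ι : Type*} [Fintype ι] [DecidableEq ι]
  (f : Frame A w₀ F ι) (hA : Hyp A p) (hw₀ : A.Uw w₀ = A.U)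
include f

/-- The torus elements of `E` form a commutative group. -/
@[reducible] def commH : CommGroup ↥(A.H ⊓ f.E) :=
  { (inferInstance : Group ↥(A.H ⊓ f.E)) with
    mul_comm := fun a b => Subtype.ext (f.H_comm _ a.2.1 _ b.2.1) }

/-- The coroot into the torus of `E`. -/
def hh (i : ι) : Fˣ →* ↥(A.H ⊓ f.E) where
  toFun l := ⟨f.φ i (diSL l), f.di_mem i l, f.φ_mem i _⟩
  map_one' := Subtype.ext (by
    show f.φ i (diSL 1) = 1
    have h := diSL_mul (1 : Fˣ) (1 : Fˣ)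
    rw [mul_one] at h
    rw [left_eq_mul.1 h, map_one])
  map_mul' a b := Subtype.ext (by
    show f.φ i (diSL (a * b)) = f.φ i (diSL a) * f.φ i (diSL b)
    rw [diSL_mul, map_mul])

/-- The torus data of the frame. -/
def torusData : @TorusData F _ ι _ _ ↥(A.H ⊓ f.E) f.commH :=
  letI := f.commH
  { C := f.C
    h := f.hh
    χ := fun i => (f.χ i).comp (Subgroup.inclusion inf_le_left)
    pair := fun i j l => f.pair i j l
    diag := f.diag
    col := f.col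
    conn := f.conn
    gen := fun k => by
      let P : (ι → Fˣ) →* ↥(A.H ⊓ f.E) :=
        { toFun := fun δ => ∏ i, f.hh i (δ i)
          map_one' := by simp
          map_mul' := fun a b => by simp [Finset.prod_mul_distrib] }
      have hle : Subgroup.closure (Set.range fun q : ι × Fˣ => f.φ q.1 (diSL q.2)) ≤
          P.range.map (A.H ⊓ f.E).subtype := by
        rw [Subgroup.closure_le]
        rintro _ ⟨⟨i, l⟩, rfl⟩
        refine ⟨f.hh i l, ⟨Pi.mulSingle i l, ?_⟩, rfl⟩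
        show ∏ j, f.hh j ((Pi.mulSingle i l : ι → Fˣ) j) = _
        rw [Finset.prod_eq_single i (fun j _ hj => by rw [Pi.mulSingle_eq_of_ne hj, map_one])
          (fun h => absurd (Finset.mem_univ i) h), Pi.mulSingle_eq_same]
      obtain ⟨k', ⟨δ, hδ⟩, e⟩ := hle (f.gen k k.2)
      exact ⟨δ, (Subtype.ext e : k' = k).symm.trans hδ.symm⟩ }

include hA hw₀

/-- The radical of a fundamental reflection is stable under its rank one subgroup. -/
theorem rad_stable (i : ι) (a : SpecialLinearGroup (Fin 2) F) :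
    ∀ d ∈ rad A (f.s i), f.φ i a * d * (f.φ i a)⁻¹ ∈ rad A (f.s i) := by
  obtain ⟨c, hc⟩ := f.lo_conj i
  have hn : ∀ d ∈ rad A (f.s i), A.n (f.s i) * d * (A.n (f.s i))⁻¹ ∈ rad A (f.s i) := by
    intro d hd
    refine (mem_rad A).2 ⟨hd.2, ?_⟩
    obtain ⟨l, hl, el⟩ := A.n_mul (f.s i) (f.s i)
    rw [A.sq_S _ (f.s_mem i), A.n_one, mul_one] at el
    rw [show A.n (f.s i) * (A.n (f.s i) * d * (A.n (f.s i))⁻¹) * (A.n (f.s i))⁻¹ =
      (A.n (f.s i) * A.n (f.s i)) * d * (A.n (f.s i) * A.n (f.s i))⁻¹ by group, el]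
    exact A.H_conj_U l hl d hd.1
  have hn' : ∀ d ∈ rad A (f.s i), (A.n (f.s i))⁻¹ * d * A.n (f.s i) ∈ rad A (f.s i) := by
    intro d hd
    obtain ⟨k, hk, ek⟩ := A.n_inv (f.s i)
    rw [A.S_inv (f.s_mem i)] at ek
    rw [show (A.n (f.s i))⁻¹ * d * A.n (f.s i) = (A.n (f.s i))⁻¹ * d * ((A.n (f.s i))⁻¹)⁻¹ by
      group, ek, show k * A.n (f.s i) * d * (k * A.n (f.s i))⁻¹ =
      k * (A.n (f.s i) * d * (A.n (f.s i))⁻¹) * k⁻¹ by group]
    exact hA.rad_conj_H _ hk (hn d hd)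
  induction a using Cfsg.Agent.Linear.transvection_induction with
  | one => intro d hd; simpa using hd
  | htr i' j' hij t =>
    intro d hd
    rcases transvection_eq_up hij t with e | e <;> rw [e]
    · exact hA.norm _ (f.s_mem i) _ (A.Uw_le _ (f.up i t)) d hd
    · have e1 : f.φ i (loSL t) =
          A.n (f.s i) * f.φ i (upSL ((c : F)⁻¹ * t)) * (A.n (f.s i))⁻¹ := by
        rw [hc, mul_inv_cancel_left₀ c.ne_zero]
      rw [e1, show A.n (f.s i) * f.φ i (upSL ((c : F)⁻¹ * t)) * (A.n (f.s i))⁻¹ * d *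
        (A.n (f.s i) * f.φ i (upSL ((c : F)⁻¹ * t)) * (A.n (f.s i))⁻¹)⁻¹ =
        A.n (f.s i) * (f.φ i (upSL ((c : F)⁻¹ * t)) * ((A.n (f.s i))⁻¹ * d * A.n (f.s i)) *
          (f.φ i (upSL ((c : F)⁻¹ * t)))⁻¹) * (A.n (f.s i))⁻¹ by group]
      exact hn _ (hA.norm _ (f.s_mem i) _ (A.Uw_le _ (f.up i _)) _ (hn' d hd))
  | hmul a b ha hb =>
    intro d hd
    rw [map_mul, show f.φ i a * f.φ i b * d * (f.φ i a * f.φ i b)⁻¹ =
      f.φ i a * (f.φ i b * d * (f.φ i b)⁻¹) * (f.φ i a)⁻¹ by group]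
    exact ha _ (hb d hd)

/-- The radical of the opposite reflection, moved to the negative side, is stable under the rank
one subgroup. -/
theorem opp_stable (i : ι) (a : SpecialLinearGroup (Fin 2) F) :
    ∀ d ∈ rad A (w₀ * f.s i * w₀), ∃ d' ∈ rad A (w₀ * f.s i * w₀),
      f.φ i a * (A.n w₀ * d * (A.n w₀)⁻¹) * (f.φ i a)⁻¹ = A.n w₀ * d' * (A.n w₀)⁻¹ := by
  obtain ⟨c, hc⟩ := f.lo_conj i
  set σ := w₀ * f.s i * w₀ with hσdef
  have hσ : σ ∈ A.S := sigma_mem hA hw₀ (f.s_mem i)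
  induction a using Cfsg.Agent.Linear.transvection_induction with
  | one => intro d hd; exact ⟨d, hd, by simp⟩
  | htr i' j' hij t =>
    intro d hd
    rcases transvection_eq_up hij t with e | e <;> rw [e]
    · have hx : ∃ y ∈ A.Uw σ, ∃ k ∈ A.H,
          (A.n w₀)⁻¹ * f.φ i (upSL t) * A.n w₀ = k * (A.n σ * y * (A.n σ)⁻¹) * k⁻¹ := by
        obtain ⟨k₁, hk₁, e₁⟩ := A.n_mul (f.s i) w₀
        obtain ⟨k₂, hk₂, e₂⟩ := A.n_mul w₀ σ
        rw [show w₀ * σ = f.s i * w₀ by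
          rw [hσdef, ← mul_assoc, ← mul_assoc, sq_w₀ hA hw₀, one_mul]] at e₂
        have e3 : (A.n (f.s i))⁻¹ * A.n w₀ =
            (A.n (f.s i) * A.n (f.s i))⁻¹ * (k₁ * k₂⁻¹) * (A.n w₀ * A.n σ) := by
          rw [e₂, show (A.n (f.s i) * A.n (f.s i))⁻¹ * (k₁ * k₂⁻¹) * (k₂ * A.n (f.s i * w₀)) =
            (A.n (f.s i) * A.n (f.s i))⁻¹ * (k₁ * A.n (f.s i * w₀)) by group, ← e₁]
          group
        obtain ⟨l, hl, el⟩ := A.n_mul (f.s i) (f.s i)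
        rw [A.sq_S _ (f.s_mem i), A.n_one, mul_one] at el
        rw [el] at e3
        set m := l⁻¹ * (k₁ * k₂⁻¹) with hm
        have hmH : m ∈ A.H := mul_mem (inv_mem hl) (mul_mem hk₁ (inv_mem hk₂))
        refine ⟨_, f.lo_opp i ((c : F) * t), _, A.n_conj_H' w₀ hmH, ?_⟩
        have hup : f.φ i (upSL t) = (A.n (f.s i))⁻¹ * f.φ i (loSL ((c : F) * t)) * A.n (f.s i) := by
          rw [← hc]; group
        have e4 : (A.n (f.s i))⁻¹ = m * (A.n w₀ * A.n σ) * (A.n w₀)⁻¹ := by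
          rw [← e3]; group
        rw [hup, show A.n (f.s i) = (m * (A.n w₀ * A.n σ) * (A.n w₀)⁻¹)⁻¹ by rw [← e4, inv_inv]]
        group
      obtain ⟨y, hy, k, hk, ek⟩ := hx
      have hs' : ∀ r ∈ rad A σ, A.n σ * r * (A.n σ)⁻¹ ∈ rad A σ := by
        intro r hr
        refine (mem_rad A).2 ⟨hr.2, ?_⟩
        obtain ⟨l, hl, el⟩ := A.n_mul σ σ
        rw [A.sq_S _ hσ, A.n_one, mul_one] at el
        rw [show A.n σ * (A.n σ * r * (A.n σ)⁻¹) * (A.n σ)⁻¹ =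
          (A.n σ * A.n σ) * r * (A.n σ * A.n σ)⁻¹ by group, el]
        exact A.H_conj_U l hl r hr.1
      have hs'' : ∀ r ∈ rad A σ, (A.n σ)⁻¹ * r * A.n σ ∈ rad A σ := by
        intro r hr
        obtain ⟨l, hl, el⟩ := A.n_inv σ
        rw [A.S_inv hσ] at el
        rw [show (A.n σ)⁻¹ * r * A.n σ = (A.n σ)⁻¹ * r * ((A.n σ)⁻¹)⁻¹ by group, el,
          show l * A.n σ * r * (l * A.n σ)⁻¹ = l * (A.n σ * r * (A.n σ)⁻¹) * l⁻¹ by group]
        exact hA.rad_conj_H _ hl (hs' r hr)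
      refine ⟨_, hA.rad_conj_H _ hk (hs' _ (hA.norm _ hσ y (A.Uw_le _ hy) _
        (hs'' _ (hA.rad_conj_H _ (inv_mem hk) hd)))), ?_⟩
      have ek' : f.φ i (upSL t) =
          A.n w₀ * (k * (A.n σ * y * (A.n σ)⁻¹) * k⁻¹) * (A.n w₀)⁻¹ := by rw [← ek]; group
      rw [ek']; group
    · refine ⟨_, hA.norm _ hσ _ (A.Uw_le _ (f.lo_opp i t)) d hd, ?_⟩
      group
  | hmul a b ha hb =>
    intro d hd
    obtain ⟨d₁, hd₁, e₁⟩ := hb d hd
    obtain ⟨d₂, hd₂, e₂⟩ := ha d₁ hd₁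
    refine ⟨d₂, hd₂, ?_⟩
    rw [map_mul, ← e₂, ← e₁]
    group

/-- An element is reachable when a conjugate under `E` lies in `U⁻ k U`. -/
def Reach (g : G) (k : G) : Prop :=
  ∃ y ∈ f.E, ∃ c ∈ A.U, ∃ b ∈ A.U, y * g * y⁻¹ = A.n w₀ * c * (A.n w₀)⁻¹ * k * b

/-- Moving the torus part along a node with a non-central component. -/
theorem move {g : G} {k : G} (hkH : k ∈ A.H) (i : ι) {y c b : G} (hy : y ∈ f.E) (hc : c ∈ A.U)
    (hb : b ∈ A.U) (e : y * g * y⁻¹ = A.n w₀ * c * (A.n w₀)⁻¹ * k * b)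
    (hnc : f.χ i ⟨k, hkH⟩ ≠ 1 ∨ c ∉ rad A (w₀ * f.s i * w₀)) (l : Fˣ) :
    f.Reach g (k * f.φ i (diSL l)) := by
  obtain ⟨r, hr, v, hv, rfl⟩ := hA.exists_rad_mul (w₀ * f.s i * w₀) hc
  obtain ⟨r', hr', v', hv', rfl⟩ := hA.exists_rad_mul (f.s i) hb
  obtain ⟨te, hte⟩ := f.opp_surj i v hv
  obtain ⟨te', hte'⟩ := f.up_surj i v' hv'
  have hnc' : te ≠ 0 ∨ te' ≠ 0 ∨ f.χ i ⟨k, hkH⟩ ≠ 1 := by
    rcases hnc with h | h
    · exact Or.inr (Or.inr h)
    · refine Or.inl fun h0 => h ?_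
      rw [h0, loSL_zero, map_one] at hte
      have hv1 : v = 1 := conj_eq_one_iff.1 hte.symm
      rw [hv1, mul_one]
      exact hr
  obtain ⟨a, e₂, e₃, ea⟩ := exists_shift (f.φ i) (f.conj i ⟨k, hkH⟩) hnc' l
  have hr1 : v'⁻¹ * r' * v' ∈ rad A (f.s i) := by
    simpa using hA.norm _ (f.s_mem i) v'⁻¹ (inv_mem (A.Uw_le _ hv')) r' hr'
  obtain ⟨r₂, hr₂, er₂⟩ := f.opp_stable hA hw₀ i a r hr
  have hr₃ := f.rad_stable hA hw₀ i a _ hr1
  refine ⟨f.φ i a * y, mul_mem (f.φ_mem i a) hy,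
    r₂ * ((A.n w₀)⁻¹ * f.φ i (loSL e₂) * A.n w₀), mul_mem hr₂.1 (A.Uw_le _ (f.lo_opp i e₂)),
    f.φ i (upSL e₃) * (f.φ i a * (v'⁻¹ * r' * v') * (f.φ i a)⁻¹),
    mul_mem (A.Uw_le _ (f.up i e₃)) hr₃.1, ?_⟩
  rw [show f.φ i a * y * g * (f.φ i a * y)⁻¹ = f.φ i a * (y * g * y⁻¹) * (f.φ i a)⁻¹ by group, e]
  calc f.φ i a * (A.n w₀ * (r * v) * (A.n w₀)⁻¹ * k * (r' * v')) * (f.φ i a)⁻¹
      = (f.φ i a * (A.n w₀ * r * (A.n w₀)⁻¹) * (f.φ i a)⁻¹) *
        (f.φ i a * ((A.n w₀ * v * (A.n w₀)⁻¹) * k * v') * (f.φ i a)⁻¹) *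
        (f.φ i a * (v'⁻¹ * r' * v') * (f.φ i a)⁻¹) := by group
    _ = A.n w₀ * r₂ * (A.n w₀)⁻¹ * (f.φ i (loSL e₂) * (k * f.φ i (diSL l)) * f.φ i (upSL e₃)) *
        (f.φ i a * (v'⁻¹ * r' * v') * (f.φ i a)⁻¹) := by
          rw [er₂, ← hte, ← hte', ea]
    _ = _ := by group

/-- **Gauss decomposition with prescribed torus part.** -/
theorem gauss (hF : 9 ≤ Nat.card F) {g : G} (hg : g ∈ f.E)
    (hout : ∃ y ∈ f.E, y * g * y⁻¹ ∉ A.B) {K : G} (hK : K ∈ A.H ⊓ f.E) : f.Reach g K := by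
  classical
  have : Finite F := Nat.finite_of_card_ne_zero (by omega)
  have : Fintype F := Fintype.ofFinite F
  rw [Nat.card_eq_fintype_card] at hF
  obtain ⟨y, hy, hyB⟩ := hout
  obtain ⟨t, ht, u, hu, c, hc, k, hk, b, hb, e, hct⟩ := exists_start hA hw₀ hyB
  obtain ⟨i, hi⟩ := f.s_surj _ (sigma_mem hA hw₀ ht)
  have hit : w₀ * f.s i * w₀ = t := by
    rw [hi]
    simp only [← mul_assoc, sq_w₀ hA hw₀, one_mul]
    rw [mul_assoc, sq_w₀ hA hw₀, mul_one]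
  have huy : u * y ∈ f.E := mul_mem (f.U_le hu) hy
  have e' : (u * y) * g * (u * y)⁻¹ = A.n w₀ * c * (A.n w₀)⁻¹ * k * b := by rw [← e]; group
  have hkE : k ∈ f.E := by
    have h1 : A.n w₀ * c * (A.n w₀)⁻¹ * k * b ∈ f.E := e' ▸ mul_mem (mul_mem huy hg) (inv_mem huy)
    have hcE : A.n w₀ * c * (A.n w₀)⁻¹ ∈ f.E := f.E_normal.conj_mem _ (f.U_le hc) _
    have := mul_mem (mul_mem (inv_mem hcE) h1) (inv_mem (f.U_le hb))
    rwa [show (A.n w₀ * c * (A.n w₀)⁻¹)⁻¹ * (A.n w₀ * c * (A.n w₀)⁻¹ * k * b) * b⁻¹ = k by group]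
      at this
  let := f.commH
  exact f.torusData.reach (P := fun x : ↥(A.H ⊓ f.E) => f.Reach g (x : G))
    (fun x j hx hj l => by
      obtain ⟨y, hy, c, hc, b, hb, e⟩ := hx
      exact f.move hA hw₀ x.2.1 j hy hc hb e (Or.inl hj) l)
    hF (k := ⟨k, hk, hkE⟩) (t := i)
    (fun l => f.move hA hw₀ hk i huy hc hb e' (Or.inr (hit.symm ▸ hct)) l) ⟨K, hK⟩

end Frame

end Cfsg.Agent.H14.ThompsonSplit
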