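import Cfsg.Agent.H14.ThompsonSplit.Pinned
import Cfsg.Agent.H14.ThompsonSplit.Cover

/-!
A frame with a Levi subgroup of type A gives a class whose square is the whole simple group.
-/

set_option autoImplicit false
set_option linter.unusedSectionVars false

namespace Cfsg.Agent.H14.ThompsonSplit

open Cfsg.Agent.H28 Cfsg.Agent.H13.Split Matrix
open scoped commutatorElement
open Cfsg.Agent.H37 (Tits.Ambient)

/-- An upper unitriangular determinant one matrix. -/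
def IsUpperUni {n : ℕ} {F : Type*} [Field F] (L : SpecialLinearGroup (Fin n) F) : Prop :=
  ∀ i j : Fin n, j ≤ i → (L : Matrix (Fin n) (Fin n) F) i j = if i = j then 1 else 0

/-- A lower unitriangular determinant one matrix. -/
def IsLowerUni {n : ℕ} {F : Type*} [Field F] (L : SpecialLinearGroup (Fin n) F) : Prop :=
  ∀ i j : Fin n, i ≤ j → (L : Matrix (Fin n) (Fin n) F) i j = if i = j then 1 else 0

/-- A lower times an upper unitriangular matrix is trivial or not scalar. -/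
theorem eq_one_or_nonscalar {n : ℕ} {F : Type*} [Field F] {L L' : SpecialLinearGroup (Fin n) F}
    (hL : IsLowerUni L) (hL' : IsUpperUni L') :
    L * L' = 1 ∨ ∀ c : F, ((L * L' : SpecialLinearGroup (Fin n) F) : Matrix (Fin n) (Fin n) F) ≠ c • 1 := by
  by_contra hcon
  push Not at hcon
  obtain ⟨hne, c, hc⟩ := hcon
  have hprod : ∀ i j : Fin n, ∑ k, (L : Matrix (Fin n) (Fin n) F) i k * (L' : Matrix (Fin n) (Fin n) F) k j =
      if i = j then c else 0 := by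
    intro i j
    have := congrFun (congrFun hc i) j
    rw [Matrix.SpecialLinearGroup.coe_mul, Matrix.mul_apply] at this
    rw [this, Matrix.smul_apply, Matrix.one_apply, smul_eq_mul]
    split_ifs <;> simp
  rcases Nat.eq_zero_or_pos n with hn | hn
  · subst hn
    exact hne (Subtype.ext (Matrix.ext fun i => i.elim0))
  have hc1 : c = 1 := by
    have h := hprod ⟨0, hn⟩ ⟨0, hn⟩
    rw [if_pos rfl, Finset.sum_eq_single ⟨0, hn⟩] at h
    · rwa [hL _ _ le_rfl, hL' _ _ le_rfl, if_pos rfl, one_mul, eq_comm] at h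
    · intro k _ hk
      rw [hL _ _ (Fin.mk_le_mk.2 (Nat.zero_le _) : (⟨0, hn⟩ : Fin n) ≤ k), if_neg (Ne.symm hk), zero_mul]
    · simp
  refine hne (Subtype.ext ?_)
  rw [hc, hc1, one_smul, Matrix.SpecialLinearGroup.coe_one]

variable {G W : Type*} [Group G] [Group W] [Finite G] {A : Tits.Ambient G W} {p : ℕ} [Fact p.Prime]
  {w₀ : W} {F : Type*} [Field F] {ι : Type*} [Fintype ι] [DecidableEq ι]

/-- A Levi subgroup of type A with a fixed point free semisimple element. -/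
structure Levi (f : Frame A w₀ F ι) (B : Type*) (m : B → ℕ) where
  h : G
  h_mem : h ∈ A.H ⊓ f.E
  ψ : (∀ b, SpecialLinearGroup (Fin (m b)) F) →* G
  ψ_mem : ∀ M, ψ M ∈ f.E
  comm : ∀ M, Commute h (ψ M)
  Q : Subgroup G
  V : Subgroup G
  nQ : ∀ M, ∀ q ∈ Q, ψ M * q * (ψ M)⁻¹ ∈ Q
  hQ : ∀ q ∈ Q, h * q * h⁻¹ ∈ Q
  fQ : ∀ q ∈ Q, h * q * h⁻¹ = q → q = 1
  nV : ∀ M, ∀ q ∈ V, ψ M * q * (ψ M)⁻¹ ∈ V
  hV : ∀ q ∈ V, h * q * h⁻¹ ∈ V
  fV : ∀ q ∈ V, h * q * h⁻¹ = q → q = 1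
  decU : ∀ x ∈ A.U, ∃ L, (∀ b, IsUpperUni (L b)) ∧ ∃ q ∈ Q, x = ψ L * q
  decV : ∀ x ∈ A.U, ∃ L, (∀ b, IsLowerUni (L b)) ∧ ∃ v ∈ V, A.n w₀ * x * (A.n w₀)⁻¹ = v * ψ L
  conjJ : ∀ X : ∀ b, SpecialLinearGroup (Fin (m b)) F, (∀ b, IsJordan (X b)) →
    ∃ y ∈ f.E, y * h * y⁻¹ = h ∧ y * ψ (fun b => jordanSL F (m b)) * y⁻¹ = ψ X
  conjH : ∀ k ∈ A.H, ∀ X : ∀ b, SpecialLinearGroup (Fin (m b)) F, (∀ b, IsJordan (X b)) →
    ∃ Y : ∀ b, SpecialLinearGroup (Fin (m b)) F, (∀ b, IsJordan (Y b)) ∧ k * ψ X * k⁻¹ = ψ Y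
  real : ∃ r k, k ∈ A.H ∧ k * r ∈ f.E ∧ r * h * r⁻¹ = h⁻¹ ∧
    ∃ X : ∀ b, SpecialLinearGroup (Fin (m b)) F, (∀ b, IsJordan (X b)) ∧
      r * ψ (fun b => jordanSL F (m b)) * r⁻¹ = ψ X

variable (hA : Hyp A p) (hw₀ : A.Uw w₀ = A.U)

theorem comm_mem_U (hH : ∀ a ∈ A.H, ∀ b ∈ A.H, a * b = b * a) {a b : G} (ha : a ∈ A.B) (hb : b ∈ A.B) :
    a * b * a⁻¹ * b⁻¹ ∈ A.U := by
  obtain ⟨u, hu, h, hh, rfl⟩ := ha
  obtain ⟨u', hu', h', hh', rfl⟩ := hb
  have e : h * h' * h⁻¹ * h'⁻¹ = 1 := by rw [hH h hh h' hh']; group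
  have e2 : u * h * (u' * h') * (u * h)⁻¹ * (u' * h')⁻¹ =
      u * (h * u' * h⁻¹) * (h' * u⁻¹ * h'⁻¹) * u'⁻¹ := by
    calc u * h * (u' * h') * (u * h)⁻¹ * (u' * h')⁻¹
        = u * (h * u' * h⁻¹) * ((h * h' * h⁻¹ * h'⁻¹) * (h' * u⁻¹ * h'⁻¹)) * u'⁻¹ := by group
      _ = _ := by rw [e, one_mul]
  rw [e2]
  exact mul_mem (mul_mem (mul_mem hu (A.H_conj_U h hh u' hu')) (A.H_conj_U h' hh' _ (inv_mem hu)))
    (inv_mem hu')

include hA hw₀

/-- The unipotent subgroup meets no centre. -/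
theorem exists_not_comm (f : Frame A w₀ F ι) (hgen : ∀ g : G, ∃ h ∈ A.H, ∃ x ∈ f.E, g = h * x) :
    ∀ u ∈ A.U, u ≠ 1 → ∃ x ∈ f.E, x * u ≠ u * x := by
  intro u hu hne
  by_contra hcon
  push Not at hcon
  obtain ⟨k, hk, x, hx, e⟩ := hgen (A.n w₀)
  refine hne ?_
  have h2 : u ∈ rad A w₀ := (mem_rad A).2 ⟨hu, by
    rw [e, show k * x * u * (k * x)⁻¹ = k * (x * u * x⁻¹) * k⁻¹ by group, hcon x hx,
      mul_inv_cancel_right]
    exact A.H_conj_U k hk u hu⟩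
  rw [hA.rad_full hw₀, Subgroup.mem_bot] at h2
  exact h2

/-- **Thompson's property from a frame with a Levi subgroup.** -/
theorem cover_of_levi [CharP F p] {B : Type*} [Fintype B] {m : B → ℕ} (f : Frame A w₀ F ι)
    (hgen : ∀ g : G, ∃ h ∈ A.H, ∃ x ∈ f.E, g = h * x) (D : Levi f B m) (hF : 9 ≤ Nat.card F)
    {T : Type*} [Group T] [IsSimpleGroup T] (hnc : ∃ a b : T, a * b ≠ b * a)
    (N : Subgroup G) (hEN : f.E ≤ N) (π : ↥N →* T) (hπ : Function.Surjective π)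
    (hker : π.ker ≤ Subgroup.center ↥N) :
    ∃ c : T, ∀ g : T, ∃ x y : T, g = (x * c * x⁻¹) * (y * c * y⁻¹) := by
  haveI := f.E_normal
  haveI : Finite F := Nat.finite_of_card_ne_zero (by omega)
  let π' : ↥f.E →* T := π.comp (Subgroup.inclusion hEN)
  -- surjectivity
  obtain ⟨u, hu, hu1⟩ : ∃ u ∈ A.U, u ≠ 1 := by
    obtain ⟨s, hs⟩ := hA.nonempty
    obtain ⟨u, hu, h1⟩ := (A.Uw s).ne_bot_iff_exists_ne_one.1 (A.Uw_S_ne s hs) |>
      fun ⟨u, h⟩ => (⟨u.1, u.2, fun e => h (Subtype.ext e)⟩ : ∃ u, u ∈ A.Uw s ∧ u ≠ 1)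
    exact ⟨u, A.Uw_le s hu, h1⟩
  have hπ' : Function.Surjective π' := by
    have hn : ((f.E.subgroupOf N).map π).Normal := Subgroup.Normal.map inferInstance _ hπ
    rcases hn.eq_bot_or_eq_top with h | h
    · exfalso
      obtain ⟨x, hx, hne⟩ := exists_not_comm hA hw₀ f hgen u hu hu1
      have h1 : (⟨u, hEN (f.U_le hu)⟩ : ↥N) ∈ π.ker := MonoidHom.mem_ker.2 (Subgroup.mem_bot.1
        (h ▸ Subgroup.mem_map_of_mem π (show (⟨u, hEN (f.U_le hu)⟩ : ↥N) ∈ f.E.subgroupOf N from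
          f.U_le hu)))
      exact hne (congrArg Subtype.val (Subgroup.mem_center_iff.1 (hker h1) ⟨x, hEN hx⟩))
    · intro t
      obtain ⟨x, hx, rfl⟩ := (h ▸ Subgroup.mem_top t : t ∈ (f.E.subgroupOf N).map π)
      exact ⟨⟨x, hx⟩, rfl⟩
  -- elements without a conjugate outside `B`
  let K : Subgroup ↥f.E :=
    { carrier := {x | ∀ y : ↥f.E, ((y * x * y⁻¹ : ↥f.E) : G) ∈ A.B}
      one_mem' := fun y => by simp
      mul_mem' := fun {a b} ha hb y => by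
        rw [show y * (a * b) * y⁻¹ = (y * a * y⁻¹) * (y * b * y⁻¹) by group, Subgroup.coe_mul]
        exact mul_mem (ha y) (hb y)
      inv_mem' := fun {a} ha y => by
        rw [show y * a⁻¹ * y⁻¹ = (y * a * y⁻¹)⁻¹ by group, Subgroup.coe_inv]
        exact inv_mem (ha y) }
  haveI : K.Normal := ⟨fun x hx g y => by
    rw [show y * (g * x * g⁻¹) * y⁻¹ = (y * g) * x * (y * g)⁻¹ by group]
    exact hx _⟩
  have hK : ∀ x ∈ K, π' x = 1 := by
    have hn : (K.map π').Normal := Subgroup.Normal.map inferInstance _ hπ'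
    rcases hn.eq_bot_or_eq_top with h | h
    · exact fun x hx => Subgroup.mem_bot.1 (h ▸ Subgroup.mem_map_of_mem π' hx)
    exfalso
    set P := (A.U.subgroupOf f.E).map π' with hP
    have hPp : IsPGroup p P := (hA.pU.comap_subtype).map _
    have hc : commutator T ≤ P := by
      rw [commutator_def, Subgroup.commutator_le]
      intro a _ b _
      obtain ⟨a, ha, rfl⟩ := (h ▸ Subgroup.mem_top a : a ∈ K.map π')
      obtain ⟨b, hb, rfl⟩ := (h ▸ Subgroup.mem_top b : b ∈ K.map π')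
      refine ⟨a * b * a⁻¹ * b⁻¹, ?_, by simp [commutatorElement_def]⟩
      have ha' := ha 1
      have hb' := hb 1
      simp only [one_mul, inv_one, mul_one] at ha' hb'
      exact comm_mem_U f.H_comm ha' hb'
    have htop : commutator T = ⊤ := by
      haveI : (commutator T).Normal := by rw [commutator_def]; infer_instance
      rcases (inferInstance : (commutator T).Normal).eq_bot_or_eq_top with h0 | h0
      · exfalso
        obtain ⟨a, b, hab⟩ := hnc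
        have : ⁅a, b⁆ ∈ commutator T := Subgroup.commutator_mem_commutator (Subgroup.mem_top a) (Subgroup.mem_top b)
        rw [h0, Subgroup.mem_bot, commutatorElement_eq_one_iff_mul_comm] at this
        exact hab this
      · exact h0
    rw [htop] at hc
    have hT : IsPGroup p T := fun t => by
      obtain ⟨k, hk⟩ := hPp ⟨t, hc (Subgroup.mem_top t)⟩
      exact ⟨k, congrArg Subtype.val hk⟩
    haveI : Finite T := Finite.of_surjective π hπ
    haveI : Nontrivial T := IsSimpleGroup.toNontrivial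
    haveI := hT.center_nontrivial
    rcases (inferInstance : (Subgroup.center T).Normal).eq_bot_or_eq_top with h0 | h0
    · exact absurd h0 ((Subgroup.nontrivial_iff_ne_bot _).1 inferInstance)
    · obtain ⟨a, b, hab⟩ := hnc
      exact hab (Subgroup.mem_center_iff.1 (h0 ▸ Subgroup.mem_top b) a)
  -- the Levi data inside `E`
  have hp : ¬ p ∣ orderOf (⟨D.h, (Subgroup.mem_inf.1 D.h_mem).2⟩ : ↥f.E) := by
    rw [Subgroup.orderOf_mk]
    intro hd
    refine hA.pH (hd.trans ?_)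
    have := orderOf_dvd_natCard (⟨D.h, (Subgroup.mem_inf.1 D.h_mem).1⟩ : ↥A.H)
    rwa [Subgroup.orderOf_mk] at this
  let ψ' : (∀ b, SpecialLinearGroup (Fin (m b)) F) →* ↥f.E := D.ψ.codRestrict f.E D.ψ_mem
  refine exists_square π' hπ' ψ' ⟨D.h, (Subgroup.mem_inf.1 D.h_mem).2⟩ hp (by omega)
    (fun M => Subtype.ext (D.comm M)) (D.Q.subgroupOf f.E) (D.V.subgroupOf f.E)
    (fun M q hq => D.nQ M q hq) (fun q hq => D.hQ q hq)
    (fun q hq e => Subtype.ext (D.fQ q hq (congrArg Subtype.val e)))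
    (fun M q hq => D.nV M q hq) (fun q hq => D.hV q hq)
    (fun q hq e => Subtype.ext (D.fV q hq (congrArg Subtype.val e))) ?_ ?_ ?_
  · intro X hX
    obtain ⟨y, hy, e1, e2⟩ := D.conjJ X hX
    refine ⟨⟨y, hy⟩, Subtype.ext ?_⟩
    show y * (D.h * D.ψ fun b => jordanSL F (m b)) * y⁻¹ = D.h * D.ψ X
    rw [show y * (D.h * D.ψ fun b => jordanSL F (m b)) * y⁻¹ =
      (y * D.h * y⁻¹) * (y * D.ψ (fun b => jordanSL F (m b)) * y⁻¹) by group, e1, e2]
  · obtain ⟨r, k, hk, hkr, e1, X, hX, e2⟩ := D.real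
    obtain ⟨Y, hY, e3⟩ := D.conjH k hk X hX
    refine ⟨⟨k * r, hkr⟩, fun b => (Y b)⁻¹, fun b => isJordan_inv (hY b), congrArg π' (Subtype.ext ?_)⟩
    show k * r * (D.h * D.ψ fun b => jordanSL F (m b)) * (k * r)⁻¹ = (D.h * D.ψ fun b => (Y b)⁻¹)⁻¹
    rw [show (fun b => (Y b)⁻¹) = Y⁻¹ from rfl, map_inv, _root_.mul_inv_rev D.h, inv_inv,
      show k * r * (D.h * D.ψ fun b => jordanSL F (m b)) * (k * r)⁻¹ =
        (k * (r * D.h * r⁻¹) * k⁻¹) * (k * (r * D.ψ (fun b => jordanSL F (m b)) * r⁻¹) * k⁻¹) by group,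
      e1, e2, e3, show k * D.h⁻¹ * k⁻¹ = D.h⁻¹ by
        rw [f.H_comm k hk _ (inv_mem (Subgroup.mem_inf.1 D.h_mem).1), mul_inv_cancel_right],
      ((D.comm Y).inv_left).eq]
  · intro g
    by_cases hg : g ∈ K
    · exact Or.inl (hK g hg)
    right
    obtain ⟨y₀, hy₀⟩ := not_forall.1 hg
    have hK2 : D.h * D.h ∈ A.H ⊓ f.E := mul_mem D.h_mem D.h_mem
    obtain ⟨y, hy, c, hc, b, hb, e⟩ := f.gauss hA hw₀ hF g.2 ⟨y₀, y₀.2, hy₀⟩ hK2
    obtain ⟨L, hL, v, hv, ev⟩ := D.decV c hc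
    obtain ⟨L', hL', q, hq, eq⟩ := D.decU b hb
    have hvE : v ∈ f.E := by
      rw [show v = A.n w₀ * c * (A.n w₀)⁻¹ * (D.ψ L)⁻¹ by rw [ev]; group]
      exact mul_mem (f.E_normal.conj_mem _ (f.U_le hc) _) (inv_mem (D.ψ_mem _))
    have hqE : q ∈ f.E := by
      rw [show q = (D.ψ L')⁻¹ * b by rw [eq]; group]
      exact mul_mem (inv_mem (D.ψ_mem _)) (f.U_le hb)
    refine ⟨⟨y, hy⟩, ⟨v, hvE⟩, hv, L * L', ⟨q, hqE⟩, hq, fun b => eq_one_or_nonscalar (hL b) (hL' b),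
      Subtype.ext ?_⟩
    show y * g * y⁻¹ = v * D.ψ (L * L') * (D.h * D.h) * q
    have hcm : Commute (D.ψ L') (D.h * D.h) := ((D.comm L').symm).mul_right (D.comm L').symm
    rw [e, ev, eq, map_mul,
      show v * (D.ψ L * D.ψ L') * (D.h * D.h) * q = v * D.ψ L * (D.ψ L' * (D.h * D.h)) * q by group,
      hcm.eq]
    group

/-- Images with a non-trivial unipotent part are not commutative. -/
theorem exists_noncomm (f : Frame A w₀ F ι) (hgen : ∀ g : G, ∃ h ∈ A.H, ∃ x ∈ f.E, g = h * x)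
    (hF : 9 ≤ Nat.card F) {T : Type*} [Group T] (N : Subgroup G) (hEN : f.E ≤ N) (π : ↥N →* T)
    (hker : π.ker ≤ Subgroup.center ↥N) : ∃ a b : T, a * b ≠ b * a := by
  by_contra hcon
  push Not at hcon
  haveI : Finite F := Nat.finite_of_card_ne_zero (by omega)
  obtain ⟨σ, hσ⟩ := hA.nonempty
  obtain ⟨i, rfl⟩ := f.s_surj σ hσ
  obtain ⟨ζ, hζ⟩ : ∃ ζ : Fˣ, ζ ^ f.C i i ≠ 1 := by
    cases nonempty_fintype F
    rw [Nat.card_eq_fintype_card] at hF
    obtain ⟨l, hl⟩ := exists_avoid_powers {i} (fun x => f.C x x) (fun _ => (1 : Fˣ))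
      (fun x _ => by rw [f.diag]; decide)
      (by rw [Finset.sum_singleton, f.diag]; simp only [Int.reduceAbs]; omega)
    exact ⟨l, hl i (Finset.mem_singleton_self i)⟩
  have hc0 : ((ζ ^ f.C i i : Fˣ) : F) - 1 ≠ 0 := fun h => hζ (Units.ext (sub_eq_zero.1 h))
  refine A.Uw_S_ne _ hσ ((Subgroup.eq_bot_iff_forall _).2 fun v hv => ?_)
  obtain ⟨s, rfl⟩ := f.up_surj i v hv
  by_contra hne
  obtain ⟨x, hx, hxv⟩ := exists_not_comm hA hw₀ f hgen _ (A.Uw_le _ hv) hne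
  set t := s / (((ζ ^ f.C i i : Fˣ) : F) - 1) with ht
  have e1 : f.φ i (upSL (((ζ ^ f.C i i : Fˣ) : F) * t)) =
      f.φ i (diSL ζ) * f.φ i (upSL t) * (f.φ i (diSL ζ))⁻¹ := by
    rw [show f.φ i (diSL ζ) = ((⟨_, f.di_mem i ζ⟩ : ↥A.H) : G) from rfl, f.conj, f.pair]
    congr 1
    refine Subtype.ext ?_
    ext a b
    fin_cases a <;> fin_cases b <;> simp [scaleSL, upSL]
  have e2 : upSL (((ζ ^ f.C i i : Fˣ) : F) * t) = upSL s * upSL t := by
    refine Subtype.ext ?_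
    show (upSL _).1 = (upSL s).1 * (upSL t).1
    have hs : s = t * (((ζ ^ f.C i i : Fˣ) : F) - 1) := by rw [ht, div_mul_cancel₀ _ hc0]
    generalize ((ζ ^ f.C i i : Fˣ) : F) = c at hs ⊢
    ext a b
    fin_cases a <;> fin_cases b <;> simp [upSL, Matrix.mul_apply, Fin.sum_univ_two]
    linear_combination -hs
  have hv' : f.φ i (upSL s) =
      f.φ i (diSL ζ) * f.φ i (upSL t) * (f.φ i (diSL ζ))⁻¹ * (f.φ i (upSL t))⁻¹ := by
    rw [← e1, e2, map_mul, mul_inv_cancel_right]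
  let a : ↥N := ⟨_, hEN (f.φ_mem i (diSL ζ))⟩
  let b : ↥N := ⟨_, hEN (f.φ_mem i (upSL t))⟩
  have hmem : a * b * a⁻¹ * b⁻¹ ∈ π.ker := by
    rw [MonoidHom.mem_ker, map_mul, map_mul, map_mul, map_inv, map_inv, hcon (π a) (π b)]
    group
  refine hxv ?_
  have h3 := congrArg Subtype.val (Subgroup.mem_center_iff.1 (hker hmem) ⟨x, hEN hx⟩)
  simp only [Subgroup.coe_mul, Subgroup.coe_inv, a, b] at h3
  rw [hv']
  exact h3

/-- Thompson's property from pinned data with a Levi subgroup. -/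
theorem cover_of_pinned [CharP F p] {B : Type*} [Fintype B] {m : B → ℕ} (P : Pinned A w₀ F ι)
    (gen : ∀ k ∈ A.H ⊓ P.E, k ∈ P.H₀) (D : Levi (P.frame hA hw₀ gen) B m) (hF : 9 ≤ Nat.card F)
    {T : Type*} [Group T] [IsSimpleGroup T]
    (N : Subgroup G) [N.Normal] (hUN : A.U ≤ N) (π : ↥N →* T) (hπ : Function.Surjective π)
    (hker : π.ker ≤ Subgroup.center ↥N) :
    ∃ c : T, ∀ g : T, ∃ x y : T, g = (x * c * x⁻¹) * (y * c * y⁻¹) :=
  cover_of_levi hA hw₀ _ P.exists_H_mul_E D hF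
    (exists_noncomm hA hw₀ (P.frame hA hw₀ gen) P.exists_H_mul_E hF N (P.E_le N hUN) π hker)
    N (P.E_le N hUN) π hπ hker

end Cfsg.Agent.H14.ThompsonSplit
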