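import Cfsg.Agent.H14.ThompsonSplit.TwCommon

/-!
The rank one group of the short root in odd dimension: the three dimensional representation.
-/

set_option autoImplicit false
set_option linter.unusedSectionVars false

namespace Cfsg.Agent.H14.ThompsonSplit

open Matrix Cfsg.Agent.Linear Cfsg.Agent.H54 Cfsg.Agent.H52.TwistedBruhat Cfsg.Agent.H83.Classical
open Cfsg.Agent.H13.Split
open scoped MatrixGroups

variable {n : ℕ} {F : Type*} [Field F]

/-- The matrix of the adjoint representation in an orthogonal basis. -/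
def adjMat (A : Matrix (Fin 2) (Fin 2) F) : Matrix (Fin 3) (Fin 3) F :=
  !![A 0 0 ^ 2, 2 * A 0 0 * A 0 1, -A 0 1 ^ 2;
     A 0 0 * A 1 0, A 0 0 * A 1 1 + A 0 1 * A 1 0, -(A 0 1 * A 1 1);
     -A 1 0 ^ 2, -(2 * A 1 0 * A 1 1), A 1 1 ^ 2]

/-- The adjoint representation of the special linear group of degree two. -/
def adjSL : SpecialLinearGroup (Fin 2) F →* SpecialLinearGroup (Fin 3) F where
  toFun A := ⟨adjMat (A : Matrix (Fin 2) (Fin 2) F), by
    have h := A.2
    rw [Matrix.det_fin_two] at h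
    rw [Matrix.det_fin_three]
    simp only [adjMat, Matrix.of_apply, Matrix.cons_val', Matrix.cons_val_zero, Matrix.cons_val_one,
      Matrix.cons_val_fin_one, Matrix.empty_val', Matrix.cons_val]
    set a := (A : Matrix (Fin 2) (Fin 2) F) 0 0
    set b := (A : Matrix (Fin 2) (Fin 2) F) 0 1
    set c := (A : Matrix (Fin 2) (Fin 2) F) 1 0
    set d := (A : Matrix (Fin 2) (Fin 2) F) 1 1
    linear_combination ((a * d - b * c) ^ 2 + (a * d - b * c) + 1) * h⟩
  map_one' := Subtype.ext (by
    ext i j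
    fin_cases i <;> fin_cases j <;> simp [adjMat])
  map_mul' A B := Subtype.ext (by
    ext i j
    show adjMat ((A : Matrix (Fin 2) (Fin 2) F) * (B : Matrix (Fin 2) (Fin 2) F)) i j =
      (adjMat (A : Matrix (Fin 2) (Fin 2) F) * adjMat (B : Matrix (Fin 2) (Fin 2) F)) i j
    fin_cases i <;> fin_cases j <;>
      simp [adjMat, Matrix.mul_apply, Fin.sum_univ_two, Fin.sum_univ_three] <;> ring)

theorem adjSL_coe (A : SpecialLinearGroup (Fin 2) F) :
    (adjSL A : Matrix (Fin 3) (Fin 3) F) = adjMat (A : Matrix (Fin 2) (Fin 2) F) := rfl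

/-- Three consecutive coordinates around the fixed one. -/
structure IsMid (a b c : Fin n) : Prop where
  adj : (b : ℕ) = a + 1
  mid : b.rev = b
  last : c = a.rev

namespace IsMid

variable {a b c : Fin n} (hm : IsMid a b c)
include hm

theorem vals : (c : ℕ) = a + 2 ∧ n = 2 * a + 3 := by
  have h1 := congrArg Fin.val hm.mid
  have h2 := congrArg Fin.val hm.last
  rw [Fin.val_rev] at h1 h2
  have := hm.adj
  have := b.isLt
  have := a.isLt
  omega

theorem lt_ab : a < b := Fin.lt_def.2 (by have := hm.adj; omega)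
theorem lt_bc : b < c := Fin.lt_def.2 (by have := hm.vals; have := hm.adj; omega)
theorem lt_ac : a < c := hm.lt_ab.trans hm.lt_bc

/-- The three coordinates. -/
def emb : Fin 3 ↪ Fin n :=
  ⟨![a, b, c], fun x y h => by
    have := hm.lt_ab.ne; have := hm.lt_bc.ne; have := hm.lt_ac.ne
    fin_cases x <;> fin_cases y <;> simp_all⟩

theorem emb_zero : hm.emb 0 = a := rfl
theorem emb_one : hm.emb 1 = b := rfl
theorem emb_two : hm.emb 2 = c := rfl

theorem rev_emb (x : Fin 3) : (hm.emb x).rev = hm.emb x.rev := by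
  fin_cases x
  · show a.rev = c
    exact hm.last.symm
  · show b.rev = b
    exact hm.mid
  · show c.rev = a
    rw [hm.last, Fin.rev_rev]

theorem mem_range {x : Fin n} : x ∈ Set.range hm.emb ↔ x = a ∨ x = b ∨ x = c := by
  constructor
  · rintro ⟨y, rfl⟩
    fin_cases y
    · exact Or.inl rfl
    · exact Or.inr (Or.inl rfl)
    · exact Or.inr (Or.inr rfl)
  · rintro (rfl | rfl | rfl)
    · exact ⟨0, rfl⟩
    · exact ⟨1, rfl⟩
    · exact ⟨2, rfl⟩

end IsMid

/-- The rank one group around the fixed coordinate. -/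
noncomputable def midHom {a b c : Fin n} (hm : IsMid a b c) : SpecialLinearGroup (Fin 2) F →* GL (Fin n) F :=
  (embGL hm.emb).comp adjSL

variable {ef : Fin n → Fˣ} {a b c : Fin n} (hm : IsMid a b c)
include hm

theorem mid_fixed (h2 : (2 : F) ≠ 0) (ha : ef a = 1) (hb : ef b = (Units.mk0 2 h2)⁻¹) (hc : ef c = 1)
    (A : SpecialLinearGroup (Fin 2) F) : tau ef (midHom hm A) = midHom hm A := by
  have hre : revEmb hm.emb = (Fin.revPerm : Equiv.Perm (Fin 3)).toEmbedding.trans hm.emb := by
    refine Function.Embedding.ext fun x => ?_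
    rw [revEmb_apply, hm.rev_emb]
    rfl
  show tau ef (embGL hm.emb (adjSL A)) = embGL hm.emb (adjSL A)
  rw [tau_embGL, hre, embGL_trans_perm]
  refine congrArg _ (Subtype.ext (Matrix.ext fun x y => ?_))
  show (twSL (fun z => ef (hm.emb z).rev) (adjSL A) : Matrix (Fin 3) (Fin 3) F) x.rev y.rev = _
  rw [twSL_apply, ← map_inv]
  simp only [hm.rev_emb, Fin.rev_rev, adjSL_coe, Matrix.SpecialLinearGroup.coe_inv, Matrix.adjugate_fin_two]
  fin_cases x <;> fin_cases y <;>
    simp [adjMat, hm.emb_zero, hm.emb_one, hm.emb_two, ha, hb, hc, Fin.rev, Units.val_inv_eq_inv_val] <;>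
    field_simp <;> ring

theorem mid_up_entry (t : F) (x y : Fin 3) :
    (midHom hm (upSL t) : Matrix (Fin n) (Fin n) F) (hm.emb x) (hm.emb y) =
      (!![1, 2 * t, -t ^ 2; 0, 1, -t; 0, 0, 1] : Matrix (Fin 3) (Fin 3) F) x y := by
  show (embGL hm.emb (adjSL (upSL t)) : Matrix (Fin n) (Fin n) F) (hm.emb x) (hm.emb y) = _
  rw [embGL_apply, adjSL_coe]
  fin_cases x <;> fin_cases y <;> simp [adjMat, upSL]

/-- A matrix which is one outside the upper triangle of the three coordinates. -/
theorem mid_mem_outPart {g : GL (Fin n) F}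
    (h : ∀ x y, ¬ ((x = a ∨ x = b ∨ x = c) ∧ (y = a ∨ y = b ∨ y = c) ∧ x < y) →
      (g : Matrix (Fin n) (Fin n) F) x y = if x = y then 1 else 0) :
    g ∈ outPart (Equiv.swap a c)⁻¹ := by
  have hl1 := hm.lt_ab
  have hl2 := hm.lt_bc
  refine mem_outPart.2 ⟨mem_unitri.2 ⟨mem_upper.2 fun i j hij => ?_, fun i => ?_⟩,
    mem_lowerGL.2 fun r q hrq => ?_⟩
  · rw [h i j (fun e => absurd hij e.2.2.asymm), if_neg hij.ne']
  · rw [h i i (fun e => absurd e.2.2 (lt_irrefl _)), if_pos rfl]
  · rw [Equiv.swap_inv, perm_conj_apply, h]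
    · rw [if_neg (fun e => hrq.ne ((Equiv.swap a c).injective e))]
    · rintro ⟨hx, hy, hlt⟩
      have hr : r = a ∨ r = b ∨ r = c := by
        rcases hx with e | e | e <;> rw [Equiv.swap_apply_eq_iff] at e <;> subst e <;>
          simp [Equiv.swap_apply_of_ne_of_ne hl1.ne' hl2.ne]
      have hq : q = a ∨ q = b ∨ q = c := by
        rcases hy with e | e | e <;> rw [Equiv.swap_apply_eq_iff] at e <;> subst e <;>
          simp [Equiv.swap_apply_of_ne_of_ne hl1.ne' hl2.ne]
      have h3 : Equiv.swap a c b = b := Equiv.swap_apply_of_ne_of_ne hl1.ne' hl2.ne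
      rcases hr with rfl | rfl | rfl <;> rcases hq with rfl | rfl | rfl <;>
        simp only [Equiv.swap_apply_left, Equiv.swap_apply_right, h3, Fin.lt_def] at hlt hrq hl1 hl2 <;>
        omega

theorem mid_up_mem (t : F) : midHom hm (upSL t) ∈ outPart (Equiv.swap a c)⁻¹ := by
  refine mid_mem_outPart hm fun x y h => ?_
  by_cases hx : x ∈ Set.range hm.emb
  · by_cases hy : y ∈ Set.range hm.emb
    · obtain ⟨x', rfl⟩ := hx
      obtain ⟨y', rfl⟩ := hy
      rw [mid_up_entry]
      have h01 := hm.lt_ab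
      have h12 := hm.lt_bc
      have h02 := hm.lt_ac
      fin_cases x' <;> fin_cases y' <;>
        simp_all [hm.emb_zero, hm.emb_one, hm.emb_two, h01.ne, h12.ne, h02.ne, h01.ne', h12.ne', h02.ne']
    · rw [show midHom hm (upSL t) = embGL hm.emb (adjSL (upSL t)) from rfl, embGL_right _ _ hy, Matrix.one_apply]
  · rw [show midHom hm (upSL t) = embGL hm.emb (adjSL (upSL t)) from rfl, embGL_left _ _ hx, Matrix.one_apply]

theorem outPart_mid_support {g : GL (Fin n) F} (hg : g ∈ outPart (Equiv.swap a c)⁻¹) (x y : Fin n)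
    (h : ¬ ((x = a ∨ x = b ∨ x = c) ∧ (y = a ∨ y = b ∨ y = c) ∧ x < y)) :
    (g : Matrix (Fin n) (Fin n) F) x y = if x = y then 1 else 0 := by
  rcases lt_trichotomy x y with hxy | hxy | hxy
  · rw [if_neg hxy.ne]
    refine outPart_support hg ?_
    have h1 := hm.vals
    have h2 := hm.adj
    simp only [Equiv.swap_apply_def, Fin.lt_def, Fin.ext_iff] at hxy h ⊢
    split_ifs <;> omega
  · subst hxy
    rw [if_pos rfl, (mem_unitri.1 (mem_outPart.1 hg).1).2]
  · rw [if_neg hxy.ne', mem_upper.1 (mem_unitri.1 (mem_outPart.1 hg).1).1 x y hxy]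

theorem mid_up_surj (h2 : (2 : F) ≠ 0) (ha : ef a = 1) (hb : ef b = (Units.mk0 2 h2)⁻¹) (hc : ef c = 1)
    (T : TwData n F) (hσ : T.σ = RingHom.id F) (hT : T.e = ef) {g : GL (Fin n) F}
    (hg : g ∈ outPart (Equiv.swap a c)⁻¹) (hfix : T.Θ g = g) :
    midHom hm (upSL ((g : Matrix (Fin n) (Fin n) F) a b / 2)) = g := by
  classical
  set G := (g : Matrix (Fin n) (Fin n) F) with hG
  have hs := outPart_mid_support hm hg
  have hl1 := hm.lt_ab
  have hl2 := hm.lt_bc
  have hl3 := hm.lt_ac
  have hca : c.rev = a := by rw [hm.last, Fin.rev_rev]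
  have hac : a.rev = c := hm.last.symm
  have hrow : ∀ y : Fin n, G a a * 1 * G y c + G a b * (2 : F)⁻¹ * G y b + G a c * 1 * G y a =
      formMat ef a y := fun y => by
    have h := congrFun (congrFun ((TwData.Θ_eq_self_iff T g).1 hfix) a) y
    rw [hσ, hT] at h
    rw [← h, Matrix.mul_apply]
    have hinner : ∀ j, (G * formMat ef) a j = G a j.rev * (ef j.rev : F) := fun j => by
      rw [Matrix.mul_apply, Finset.sum_eq_single j.rev]
      · simp [formMat]
      · intro i _ hi
        simp [formMat, hi]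
      · exact fun h => absurd (Finset.mem_univ _) h
    simp only [← hG, hinner, RingHom.coe_id, Matrix.map_id, Matrix.transpose_apply]
    rw [← Finset.sum_subset (Finset.subset_univ ({c, b, a} : Finset (Fin n)))]
    · rw [Finset.sum_insert (by simp [hl2.ne', hl3.ne']), Finset.sum_insert (by simp [hl1.ne']),
        Finset.sum_singleton, hca, hm.mid, hac, ha, hb, hc, Units.val_inv_eq_inv_val, Units.val_mk0,
        Units.val_one, add_assoc]
    · intro j _ hj
      simp only [Finset.mem_insert, Finset.mem_singleton, not_or] at hj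
      have h0 : G a j.rev = 0 := by
        rw [hG, hs a j.rev ?_, if_neg]
        · exact fun e => hj.1 (by rw [← Fin.rev_rev j, ← e, hac])
        · rintro ⟨-, e | e | e, -⟩
          · exact hj.1 (by rw [← Fin.rev_rev j, e, hac])
          · exact hj.2.1 (by rw [← Fin.rev_rev j, e, hm.mid])
          · exact hj.2.2 (by rw [← Fin.rev_rev j, e, hca])
      rw [h0, zero_mul, zero_mul]
  have hd : ∀ x, G x x = 1 := fun x => by rw [hG, hs x x (fun e => absurd e.2.2 (lt_irrefl _)), if_pos rfl]
  have hba : G b a = 0 := by rw [hG, hs b a (fun e => absurd e.2.2 hl1.asymm), if_neg hl1.ne']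
  have ea := hrow a
  have eb := hrow b
  rw [formMat, Matrix.of_apply, if_neg (by rw [hac]; exact hl3.ne), hd] at ea
  rw [formMat, Matrix.of_apply, if_neg (by rw [hm.mid]; exact hl1.ne), hd, hd, hba] at eb
  refine Units.ext (Matrix.ext fun x y => ?_)
  by_cases hxy : (x = a ∨ x = b ∨ x = c) ∧ (y = a ∨ y = b ∨ y = c) ∧ x < y
  · obtain ⟨hx, hy, hlt⟩ := hxy
    obtain ⟨x', rfl⟩ := hm.mem_range.2 hx
    obtain ⟨y', rfl⟩ := hm.mem_range.2 hy
    rw [mid_up_entry]
    fin_cases x' <;> fin_cases y' <;>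
      simp only [hm.emb_zero, hm.emb_one, hm.emb_two, Fin.zero_eta, Fin.mk_one, Fin.reduceFinMk] at hlt ⊢ <;>
      first
        | exact absurd hlt (lt_irrefl _)
        | exact absurd hlt hl1.asymm
        | exact absurd hlt hl2.asymm
        | exact absurd hlt hl3.asymm
        | (simp
           field_simp at ea eb ⊢
           first
             | ring1
             | linear_combination eb
             | linear_combination -eb
             | linear_combination ea
             | linear_combination -ea)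
  · rw [outPart_mid_support hm (mid_up_mem hm _) x y hxy]
    exact (hs x y hxy).symm

theorem mid_up_inj (h2 : (2 : F) ≠ 0) {t : F} (h : midHom hm (upSL t) = 1) : t = 0 := by
  have e := mid_up_entry hm t 0 1
  rw [h, Units.val_one, Matrix.one_apply_ne (hm.emb.injective.ne (by decide))] at e
  simpa [h2] using e.symm

theorem mid_rev_conj (d : Fin n → Fˣ) (hd : d = 1) (t : F) :
    (diagGL d * permGL F Fin.revPerm)⁻¹ * midHom hm (loSL t) * (diagGL d * permGL F Fin.revPerm) =
      midHom hm (upSL (-t)) := by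
  subst hd
  rw [diagGL_one, one_mul]
  refine eq_embGL hm.emb _ _ (fun x y => ?_) (fun y hy j => ?_) (fun y hy i => ?_)
  · rw [perm_conj_apply]
    show (embGL hm.emb (adjSL (loSL t)) : Matrix (Fin n) (Fin n) F) (hm.emb x).rev (hm.emb y).rev = _
    rw [hm.rev_emb, hm.rev_emb, embGL_apply, adjSL_coe, adjSL_coe]
    fin_cases x <;> fin_cases y <;> simp [adjMat, upSL, loSL, Fin.rev]
  all_goals
    have hy' : (Fin.revPerm y) ∉ Set.range hm.emb := fun ⟨z, hz⟩ => hy ⟨z.rev, by
      rw [← hm.rev_emb, hz, Fin.revPerm_apply, Fin.rev_rev]⟩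
    rw [perm_conj_apply]
  · rw [show midHom hm (loSL t) = embGL hm.emb (adjSL (loSL t)) from rfl, embGL_left _ _ hy',
      Matrix.one_apply, Matrix.one_apply]
    simp only [EmbeddingLike.apply_eq_iff_eq]
  · rw [show midHom hm (loSL t) = embGL hm.emb (adjSL (loSL t)) from rfl, embGL_right _ _ hy',
      Matrix.one_apply, Matrix.one_apply]
    simp only [EmbeddingLike.apply_eq_iff_eq]

theorem mid_w : ∃ d : Fin n → Fˣ, midHom hm (wSL F) = diagGL d * permGL F (Equiv.swap a c) := by
  refine ⟨fun x => if x ∈ ({a, b, c} : Finset (Fin n)) then -1 else 1, ?_⟩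
  refine (eq_embGL hm.emb _ _ (fun x y => ?_) (fun y hy j => ?_) (fun y hy i => ?_)).symm
  · rw [Units.val_mul, diagGL_coe, Matrix.diagonal_mul, permGL_apply, adjSL_coe]
    have h1 := hm.lt_ab.ne
    have h2 := hm.lt_bc.ne
    have h3 := hm.lt_ac.ne
    fin_cases x <;> fin_cases y <;>
      simp [adjMat, wSL, hm.emb_zero, hm.emb_one, hm.emb_two, h1, h2, h3, h1.symm, h2.symm, h3.symm,
        Equiv.swap_apply_of_ne_of_ne h1.symm h2]
  · have hy' : ¬ (y = a ∨ y = b ∨ y = c) := fun e => hy (hm.mem_range.2 e)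
    push Not at hy'
    rw [Units.val_mul, diagGL_coe, Matrix.diagonal_mul, permGL_apply, if_neg (by simp [hy']), Units.val_one,
      one_mul, Matrix.one_apply]
    refine if_congr ⟨fun h => ?_, fun h => ?_⟩ rfl rfl
    · rwa [eq_comm, Equiv.swap_apply_eq_iff, Equiv.swap_apply_of_ne_of_ne hy'.1 hy'.2.2, eq_comm] at h
    · rw [← h, Equiv.swap_apply_of_ne_of_ne hy'.1 hy'.2.2]
  · have hy' : ¬ (y = a ∨ y = b ∨ y = c) := fun e => hy (hm.mem_range.2 e)
    push Not at hy'
    rw [Units.val_mul, diagGL_coe, Matrix.diagonal_mul, permGL_apply,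
      Equiv.swap_apply_of_ne_of_ne hy'.1 hy'.2.2, Matrix.one_apply]
    by_cases h : i = y
    · subst h; simp [hy']
    · simp [h]

theorem mid_di (l : Fˣ) :
    midHom hm (diSL l) = diagGL (fun x => if x = a then l * l else if x = c then (l * l)⁻¹ else 1) := by
  refine (eq_embGL hm.emb _ _ (fun x y => ?_) (fun y hy j => ?_) (fun y hy i => ?_)).symm
  · rw [diagGL_coe, Matrix.diagonal_apply, adjSL_coe]
    have h1 := hm.lt_ab.ne
    have h2 := hm.lt_bc.ne
    have h3 := hm.lt_ac.ne
    fin_cases x <;> fin_cases y <;>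
      simp [adjMat, diSL, hm.emb_zero, hm.emb_one, hm.emb_two, h1, h2, h3, h1.symm, h2.symm, h3.symm, pow_two]
  · have hy' : ¬ (y = a ∨ y = b ∨ y = c) := fun e => hy (hm.mem_range.2 e)
    push Not at hy'
    rw [diagGL_coe, Matrix.diagonal_apply, Matrix.one_apply]
    by_cases h : y = j
    · subst h; simp [hy']
    · simp [h]
  · have hy' : ¬ (y = a ∨ y = b ∨ y = c) := fun e => hy (hm.mem_range.2 e)
    push Not at hy'
    rw [diagGL_coe, Matrix.diagonal_apply, Matrix.one_apply]
    by_cases h : i = y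
    · subst h; simp [hy']
    · simp [h]

theorem mid_conj (d : Fin n → Fˣ) (hd : tau ef (diagGL d) = diagGL d) (A : SpecialLinearGroup (Fin 2) F) :
    diagGL d * midHom hm A * (diagGL d)⁻¹ = midHom hm (scaleSL (d a / d b) A) := by
  have hb : (d b : F) * d b = 1 := by
    have h := sym_of_fixed _ hd b
    rw [hm.mid] at h
    rw [← Units.val_mul, mul_eq_one_iff_eq_inv.2 h, Units.val_one]
  have hc : (d c : F) = ((d a)⁻¹ : Fˣ) := by
    rw [hm.last, sym_of_fixed _ hd a]
  refine diag_conj_embGL _ d (adjSL A) _ fun x y => ?_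
  rw [adjSL_coe, adjSL_coe]
  have hbi : ((d b)⁻¹ : Fˣ) = d b := inv_eq_of_mul_eq_one_left (Units.ext hb)
  have hb2 : (d b : F) ^ 2 = 1 := by rw [pow_two]; exact hb
  fin_cases x <;> fin_cases y <;>
    simp [adjMat, scaleSL, hm.emb_zero, hm.emb_one, hm.emb_two, hc, div_eq_mul_inv, hbi] <;>
    (try field_simp) <;> (try simp only [hb2, one_mul, mul_one]) <;> (try ring1)

end Cfsg.Agent.H14.ThompsonSplit
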