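import Cfsg.Agent.H14.ThompsonSplit.Mid
import Cfsg.Agent.H83.Classical.Orthogonal
import Cfsg.Agent.H13.Split.Classical
import Cfsg.Agent.S0295

/-!
The projective orthogonal groups of odd dimension are squares of conjugacy classes.
-/

set_option autoImplicit false
set_option linter.unusedSectionVars false

namespace Cfsg.Agent.H14.ThompsonSplit.POddCase

open Matrix Cfsg.Agent.Linear Cfsg.Agent.H54 Cfsg.Agent.H52.TwistedBruhat Cfsg.Agent.H83.Classical
open Cfsg.Agent.H13.Split
open Cfsg.Agent.H37 (Tits.Ambient)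
open scoped MatrixGroups

variable {m : ℕ} {F : Type*} [Field F] [Finite F] (h2 : (2 : F) ≠ 0)

variable (m) in
/-- The twist data of the orthogonal group. -/
noncomputable abbrev T : TwData (m + m + 1) F := Orth.data m h2

theorem hσ : (T m h2).σ = RingHom.id F := rfl

theorem e_rev (i : Fin (m + m + 1)) : (T m h2).e i.rev = 1 * (T m h2).e i := by
  rw [one_mul]
  exact Orth.eHalf_rev m h2 i

/-- The left end of a node. -/
def pa (i : Fin m) : Fin (m + m + 1) := ⟨i, by omega⟩

/-- The right end of a node. -/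
def pb (i : Fin m) : Fin (m + m + 1) := ⟨(i : ℕ) + 1, by omega⟩

theorem pa_val (i : Fin m) : (pa i : ℕ) = i := rfl
theorem pb_val (i : Fin m) : (pb i : ℕ) = i + 1 := rfl

theorem isPair {i : Fin m} (h : (i : ℕ) + 1 < m) : IsPair (pa i) (pb i) :=
  ⟨rfl, by show (i : ℕ) + 1 + ((i : ℕ) + 1) + 1 < m + m + 1; omega⟩

theorem isMid {i : Fin m} (h : ¬ (i : ℕ) + 1 < m) : IsMid (pa i) (pb i) (pa i).rev :=
  ⟨rfl, Fin.ext (by rw [Fin.val_rev, pb_val]; omega), rfl⟩

theorem e_a (i : Fin m) : (T m h2).e (pa i) = 1 := if_neg (show ¬ (i : ℕ) = m by omega)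

theorem e_b {i : Fin m} (h : ¬ (i : ℕ) + 1 < m) : (T m h2).e (pb i) = (Units.mk0 2 h2)⁻¹ :=
  if_pos (show (i : ℕ) + 1 = m by omega)

theorem e_c (i : Fin m) : (T m h2).e (pa i).rev = 1 := by rw [e_rev, e_a, one_mul]

/-- The rank one subgroups. -/
noncomputable def node (i : Fin m) : SpecialLinearGroup (Fin 2) F →* ↥(T m h2).Grp :=
  if h : (i : ℕ) + 1 < m then
    twHom (T m h2) (hσ h2) (pairHom (T m h2).e (isPair h)) (pair_fixed _ (isPair h) (e_rev h2))
  else twHom (T m h2) (hσ h2) (midHom (isMid h))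
    (mid_fixed (isMid h) h2 (e_a h2 i) (e_b h2 h) (e_c h2 i))

/-- The fundamental reflections. -/
def refl (i : Fin m) : ↥(TwData.symPerm (m + m + 1)) :=
  if h : (i : ℕ) + 1 < m then
    ⟨pairPerm (pa i) (pb i),
      TwData.SGen.mem ⟨pa i, pb i, rfl, Or.inr (Or.inr ⟨(isPair h).lt_rev, rfl⟩)⟩⟩
  else ⟨Equiv.swap (pa i) (pa i).rev,
    TwData.SGen.mem ⟨pa i, pb i, rfl, Or.inr (Or.inl ⟨(isMid h).mid, rfl⟩)⟩⟩

theorem node_pair {i : Fin m} (h : (i : ℕ) + 1 < m) (A : SpecialLinearGroup (Fin 2) F) :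
    (node h2 i A : GL (Fin (m + m + 1)) F) = pairHom (T m h2).e (isPair h) A := by
  rw [node, dif_pos h]; rfl

theorem node_mid {i : Fin m} (h : ¬ (i : ℕ) + 1 < m) (A : SpecialLinearGroup (Fin 2) F) :
    (node h2 i A : GL (Fin (m + m + 1)) F) = midHom (isMid h) A := by
  rw [node, dif_neg h]; rfl

theorem refl_pair {i : Fin m} (h : (i : ℕ) + 1 < m) :
    (refl i : Equiv.Perm (Fin (m + m + 1))) = pairPerm (pa i) (pb i) := by
  rw [refl, dif_pos h]

theorem refl_mid {i : Fin m} (h : ¬ (i : ℕ) + 1 < m) :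
    (refl i : Equiv.Perm (Fin (m + m + 1))) = Equiv.swap (pa i) (pa i).rev := by
  rw [refl, dif_neg h]

/-- The coroots on the first half. -/
def coVec (i : Fin m) (l : Fˣ) : Fin m → Fˣ :=
  if (i : ℕ) + 1 < m then adjVec (i : ℕ) l else Pi.mulSingle i (l * l)

theorem node_di (i : Fin m) (l : Fˣ) :
    (node h2 i (diSL l) : GL (Fin (m + m + 1)) F) = diagGL (halfVec m (coVec i l)) := by
  by_cases h : (i : ℕ) + 1 < m
  · rw [node_pair h2 h, pair_di _ (isPair h) (show (pb i : ℕ) < m from h) (by omega), coVec, if_pos h]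
    rfl
  · rw [node_mid h2 h, mid_di, coVec, if_neg h]
    congr 1
    funext x
    have hx := Fin.val_rev x
    have := x.isLt
    have hi := i.isLt
    simp only [Fin.ext_iff, Fin.val_rev, pa_val]
    by_cases hlo : (x : ℕ) < m
    · rw [halfVec_low _ hlo, Pi.mulSingle_apply]
      simp only [Fin.ext_iff]
      split_ifs <;> first | omega | rfl
    · by_cases hhi : (x.rev : ℕ) < m
      · rw [halfVec_high _ hlo hhi, Pi.mulSingle_apply]
        simp only [Fin.ext_iff]
        split_ifs <;> first | omega | rfl | simp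
      · rw [halfVec_mid _ hlo hhi]
        split_ifs <;> first | omega | rfl

/-- The exponent of a coroot at the first places and the fixed one. -/
def bExp (m j x : ℕ) : ℤ :=
  if x < m then
    (if j + 1 < m then (if x = j then 1 else if x = j + 1 then -1 else 0) else (if x = j then 2 else 0))
  else 0

theorem half_zpow (j : Fin m) (l : Fˣ) (x : Fin (m + m + 1)) (hx : (x : ℕ) ≤ m) :
    (halfVec m (coVec j l) : Fin (m + m + 1) → Fˣ) x = l ^ bExp m j x := by
  have hr := Fin.val_rev x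
  have hj := j.isLt
  by_cases hlo : (x : ℕ) < m
  · rw [halfVec_low _ hlo]
    simp only [bExp, if_pos hlo, coVec]
    split_ifs with h1 <;>
      simp only [adjVec, Pi.mulSingle_apply, Fin.ext_iff] <;> split_ifs <;>
      first | omega | simp [_root_.zpow_two, pow_two]
  · rw [halfVec_mid _ hlo (by omega), bExp, if_neg hlo, zpow_zero]

variable (m) in
/-- The fundamental rank one subgroups. -/
noncomputable def pinned : Pinned (T m h2).system (revW (m + m + 1)) F (Fin m) where
  H_comm := system_H_comm _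
  s := refl
  s_mem i := by
    show TwData.SGen _
    by_cases h : (i : ℕ) + 1 < m
    · rw [refl_pair h]; exact ⟨pa i, pb i, rfl, Or.inr (Or.inr ⟨(isPair h).lt_rev, rfl⟩)⟩
    · rw [refl_mid h]; exact ⟨pa i, pb i, rfl, Or.inr (Or.inl ⟨(isMid h).mid, rfl⟩)⟩
  s_surj := by
    rintro ⟨r, hr⟩ ⟨a, b, hab, hc⟩
    have hb := b.isLt
    rcases hc with ⟨h, e⟩ | ⟨h, e⟩ | ⟨h, e⟩
    · have h' := congrArg Fin.val h
      rw [Fin.val_rev] at h'
      omega
    · have h' := congrArg Fin.val h
      rw [Fin.val_rev] at h'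
      refine ⟨⟨a, by omega⟩, Subtype.ext ?_⟩
      rw [refl_mid (show ¬ (a : ℕ) + 1 < m by omega)]
      refine Eq.trans ?_ e.symm
      rfl
    · rw [Fin.lt_def, Fin.val_rev] at h
      refine ⟨⟨a, by omega⟩, Subtype.ext ?_⟩
      rw [refl_pair (show (a : ℕ) + 1 < m by omega)]
      refine Eq.trans ?_ e.symm
      rw [show pa (⟨(a : ℕ), _⟩ : Fin m) = a from Fin.ext rfl,
        show pb (⟨(a : ℕ), _⟩ : Fin m) = b from Fin.ext hab.symm]
      rfl
  φ := node h2
  up i t := by
    rw [mem_system_Uw]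
    by_cases h : (i : ℕ) + 1 < m
    · rw [node_pair h2 h, refl_pair h]; exact pair_up_mem _ (isPair h) t
    · rw [node_mid h2 h, refl_mid h]; exact mid_up_mem (isMid h) t
  up_surj i x hx := by
    rw [mem_system_Uw] at hx
    by_cases h : (i : ℕ) + 1 < m
    · refine ⟨((x : GL (Fin (m + m + 1)) F) : Matrix _ _ F) (pa i) (pb i), Subtype.ext ?_⟩
      rw [node_pair h2 h]
      rw [refl_pair h] at hx
      exact pair_up_surj _ (isPair h) hx ((mem_Grp_iff _ (hσ h2)).1 x.2)
    · refine ⟨((x : GL (Fin (m + m + 1)) F) : Matrix _ _ F) (pa i) (pb i) / 2, Subtype.ext ?_⟩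
      rw [node_mid h2 h]
      rw [refl_mid h] at hx
      exact mid_up_surj (isMid h) h2 (e_a h2 i) (e_b h2 h) (e_c h2 i) (T m h2) (hσ h2) rfl hx x.2
  up_inj i t ht := by
    have ht' := congrArg Subtype.val ht
    by_cases h : (i : ℕ) + 1 < m
    · rw [node_pair h2 h] at ht'
      exact pair_up_inj _ (isPair h) ht'
    · rw [node_mid h2 h] at ht'
      exact mid_up_inj (isMid h) h2 ht'
  rep i := by
    by_cases h : (i : ℕ) + 1 < m
    · obtain ⟨d, hd⟩ := pair_w (T m h2).e (isPair h)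
      exact system_rep _ _ d (by rw [node_pair h2 h, hd, refl_pair h])
    · obtain ⟨d, hd⟩ := mid_w (F := F) (isMid h)
      exact system_rep _ _ d (by rw [node_mid h2 h, hd, refl_mid h])
  lo_opp i t := by
    rw [mem_system_Uw]
    show ((((T m h2).system.n (revW (m + m + 1)) : ↥(T m h2).Grp) : GL (Fin (m + m + 1)) F))⁻¹ *
      (node h2 i (loSL t) : GL (Fin (m + m + 1)) F) *
      ((T m h2).system.n (revW (m + m + 1)) : GL (Fin (m + m + 1)) F) ∈ _
    rw [system_n_coe]
    have hr : (Fin.revPerm : Equiv.Perm (Fin (m + m + 1)))⁻¹ = Fin.revPerm := Equiv.Perm.inv_def _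
    show _ ∈ outPart (Fin.revPerm * (refl i : Equiv.Perm (Fin (m + m + 1))) * Fin.revPerm)⁻¹
    by_cases h : (i : ℕ) + 1 < m
    · rw [node_pair h2 h, refl_pair h]
      have h2' := pair_lo_mem (T m h2).e (isPair h) ((T m h2).f Fin.revPerm) Fin.revPerm
        TwData.rev_mem_symPerm (by rw [hr]; exact Fin.rev_lt_rev.2 (isPair h).lt) t
      rwa [hr] at h2'
    · rw [node_mid h2 h, refl_mid h,
        show (Fin.revPerm : Equiv.Perm (Fin (m + m + 1))) * Equiv.swap (pa i) (pa i).rev * Fin.revPerm =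
          Equiv.swap (pa i) (pa i).rev by
            show revConj (Equiv.swap (pa i) (pa i).rev) = _
            rw [TwData.revConj_swap, Fin.rev_rev, Equiv.swap_comm]]
      show (diagGL ((T m h2).f Fin.revPerm) * permGL F Fin.revPerm)⁻¹ * midHom (isMid h) (loSL t) *
        (diagGL ((T m h2).f Fin.revPerm) * permGL F Fin.revPerm) ∈ _
      rw [mid_rev_conj (isMid h) ((T m h2).f Fin.revPerm) rfl]
      exact mid_up_mem (isMid h) (-t)
  di_mem i l := by rw [system_H_iff, node_di]; exact diag_mem_torus _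
  χ i := twChi (T m h2) (pa i) (pb i)
  conj i := by
    rintro ⟨g, hg⟩ A
    obtain ⟨d, hd⟩ := exists_of_mem_torus ((system_H_iff _ g).1 hg)
    rw [twChi_diag _ _ _ d g hg hd]
    refine Subtype.ext ?_
    show (g : GL (Fin (m + m + 1)) F) * (node h2 i A : GL (Fin (m + m + 1)) F) *
      (g : GL (Fin (m + m + 1)) F)⁻¹ = _
    rw [hd]
    have hfix : tau (T m h2).e (diagGL d) = diagGL d := by rw [← hd]; exact (mem_Grp_iff _ (hσ h2)).1 g.2
    by_cases h : (i : ℕ) + 1 < m
    · rw [node_pair h2 h, node_pair h2 h]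
      exact pair_conj _ (isPair h) hfix A
    · rw [node_mid h2 h, node_mid h2 h]
      exact mid_conj (isMid h) d hfix A
  C i j := bExp m j i - bExp m j ((i : ℕ) + 1)
  pair i j l := by
    rw [twChi_diag _ _ _ _ _ _ (node_di h2 j l), half_zpow _ _ _ (show (i : ℕ) ≤ m by omega),
      half_zpow _ _ _ (show (i : ℕ) + 1 ≤ m by omega), _root_.zpow_sub, div_eq_mul_inv]
    rfl
  diag i := by
    have := i.isLt
    simp only [bExp]
    split_ifs <;> omega
  col j := by
    refine col_of_bound (fun i j : Fin m => bExp m j i - bExp m j ((i : ℕ) + 1)) j (Finset.univ.erase j)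
      (fun i => (if (i : ℕ) + 1 = j then 2 else 0) + (if (i : ℕ) = (j : ℕ) + 1 then 1 else 0))
      (fun i hi hT => absurd (Finset.mem_erase.2 ⟨hi, Finset.mem_univ i⟩) hT) (fun i hi => ?_) ?_
    · have hne : (i : ℕ) ≠ j := fun e => (Finset.mem_erase.1 hi).1 (Fin.ext e)
      have := i.isLt
      have := j.isLt
      simp only [bExp]
      split_ifs <;> omega
    · rw [Finset.sum_add_distrib, ← Finset.sum_filter, ← Finset.sum_filter, Finset.sum_const,
        Finset.sum_const]
      have h1 : ((Finset.univ.erase j).filter fun i : Fin m => (i : ℕ) + 1 = (j : ℕ)).card ≤ 1 :=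
        Finset.card_le_one.2 fun a ha b hb => Fin.ext (by
          have := (Finset.mem_filter.1 ha).2; have := (Finset.mem_filter.1 hb).2; omega)
      have h3 : ((Finset.univ.erase j).filter fun i : Fin m => (i : ℕ) = (j : ℕ) + 1).card ≤ 1 :=
        Finset.card_le_one.2 fun a ha b hb => Fin.ext (by
          have := (Finset.mem_filter.1 ha).2; have := (Finset.mem_filter.1 hb).2; omega)
      simp only [smul_eq_mul]
      omega
  conn := conn_of_parent _ (fun i : Fin m => (i : ℕ))
    (fun i hi => ⟨⟨(i : ℕ) - 1, by omega⟩, show (i : ℕ) - 1 < i by omega, by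
      have := i.isLt
      constructor <;> simp only [bExp] <;> split_ifs <;> omega⟩)
    (fun i i' h h' => Fin.ext (h.trans h'.symm))

variable (m) in
/-- Half vectors whose product is a square come from the coroots. -/
theorem half_mem_H₀ (hm : 0 < m) (f : Fin m → Fˣ) (hf : IsSquare (∏ x, f x)) :
    InTorus (pinned m h2) (halfVec m f) := by
  refine ⟨halfVec_mem_Grp (T m h2) (hσ h2) (by omega) f, ?_⟩
  let g : (Fin m → Fˣ) →* ↥(T m h2).Grp :=
    ((diagHom (m + m + 1) F).comp (halfVec m)).codRestrict _ (halfVec_mem_Grp (T m h2) (hσ h2) (by omega))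
  have hgen : ∀ i : Fin m, ∀ l : Fˣ, coVec i l ∈ (pinned m h2).H₀.comap g := fun i l => by
    show g (coVec i l) ∈ (pinned m h2).H₀
    rw [show g (coVec i l) = node h2 i (diSL l) from Subtype.ext (node_di h2 i l).symm]
    exact (pinned m h2).di_mem_H₀ i l
  refine mem_half_span (S := (pinned m h2).H₀.comap g) ⟨m - 1, by omega⟩ (show m - 1 + 1 = m by omega)
    (fun i hi l => ?_) f ?_
  · have hi' : i < m - 1 := hi
    have := hgen ⟨i, by omega⟩ l
    rwa [coVec, if_pos (show i + 1 < m by omega)] at this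
  · obtain ⟨l, hl⟩ := hf
    rw [hl]
    have := hgen ⟨m - 1, by omega⟩ l
    rwa [coVec, if_neg (show ¬ (m - 1 + 1 < m) by omega)] at this

theorem unitri_le_omega [Fintype F] (hp : ∃ p, p.Prime ∧ Odd p ∧ CharP F p)
    (e : ↥(Cfsg.isometryGroup F (Cfsg.quadFormOdd m F)) ≃* ↥(T m h2).Grp) :
    (T m h2).system.U ≤ (Cfsg.Omega F (Cfsg.quadFormOdd m F)).map e.toMonoidHom := by
  obtain ⟨p, hp, hp2, hc⟩ := hp
  haveI := Fact.mk hp
  intro g hg
  obtain ⟨k, hk⟩ := IsPGroup.iff_orderOf.mp (isPGroup_unitriGL (n := m + m + 1) (F := F) p)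
    ⟨_, (system_U_iff _ g).1 hg⟩
  rw [Subgroup.orderOf_mk, Subgroup.orderOf_coe] at hk
  obtain ⟨j, hj⟩ := hp2.pow (n := k)
  refine ⟨e.symm g, ?_, e.apply_symm_apply g⟩
  have ho : orderOf (e.symm g) = p ^ k := by rw [MulEquiv.orderOf_eq, hk]
  rw [show e.symm g = e.symm g ^ (j + 1) * e.symm g ^ (j + 1) by
    rw [← pow_add, show j + 1 + (j + 1) = p ^ k + 1 by omega, pow_succ, ← ho, pow_orderOf_eq_one, one_mul]]
  exact Orth.sq_mem_omega m h2 _

/-- Representatives of the torus modulo the coroots. -/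
noncomputable def cosetRep (q : Fˣ × Fˣ) : GL (Fin (m + m + 1)) F :=
  diagGL (fun x => if (x : ℕ) = m then q.1 else
    (halfVec m (fun y => if (y : ℕ) + 1 = m then q.2 else 1) : Fin (m + m + 1) → Fˣ) x)

theorem cosetRep_mem {q : Fˣ × Fˣ} (hq : q.1 = 1 ∨ q.1 = -1) :
    (cosetRep q : GL (Fin (m + m + 1)) F) ∈ (T m h2).Grp := by
  refine (mem_Grp_iff _ (hσ h2)).2 (diag_fixed _ fun x => ?_)
  rw [Fin.val_rev]
  have := x.isLt
  by_cases h : (x : ℕ) = m
  · rw [if_pos h, if_pos (by omega)]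
    rcases hq with e | e <;> rw [e] <;> simp
  · rw [if_neg h, if_neg (by omega)]
    exact halfVec_sym (by omega) _ x

theorem gen [Fintype F] (hm : 0 < m) (hp : ∃ p, p.Prime ∧ Odd p ∧ CharP F p)
    (e : ↥(Cfsg.isometryGroup F (Cfsg.quadFormOdd m F)) ≃* ↥(T m h2).Grp)
    (hidx : (Cfsg.Omega F (Cfsg.quadFormOdd m F)).index = 4) :
    ∀ g ∈ (T m h2).system.H ⊓ (pinned m h2).E, g ∈ (pinned m h2).H₀ := by
  classical
  obtain ⟨ν, hν⟩ := Cfsg.Agent.Orthogonal.exists_not_isSquare h2
  have hν0 : ν ≠ 0 := fun h => hν (by rw [h]; exact IsSquare.zero)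
  set Ω := Cfsg.Omega F (Cfsg.quadFormOdd m F)
  haveI : (Ω.map e.toMonoidHom).Normal := Subgroup.Normal.map inferInstance _ e.surjective
  let S : Finset ↥(T m h2).Grp :=
    (({1, -1} : Finset Fˣ) ×ˢ ({1, Units.mk0 ν hν0} : Finset Fˣ)).attach.image fun q =>
      ⟨cosetRep q.1, cosetRep_mem h2 (by
        have := (Finset.mem_product.1 q.2).1
        simpa using this)⟩
  refine (pinned m h2).gen_of_index (Ω.map e.toMonoidHom) (unitri_le_omega h2 hp e) S (fun k hk => ?_) ?_
  · obtain ⟨d, hd⟩ := exists_of_mem_torus ((system_H_iff _ k).1 hk)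
    have hsym := sym_of_fixed (T m h2).e (by rw [← hd]; exact (mem_Grp_iff _ (hσ h2)).1 k.2)
    set ε := d ⟨m, by omega⟩ with hε
    have hε' : ε = 1 ∨ ε = -1 := by
      have h := hsym ⟨m, by omega⟩
      rw [show (⟨m, _⟩ : Fin (m + m + 1)).rev = ⟨m, by omega⟩ from
        Fin.ext (by rw [Fin.val_rev]; show m + m + 1 - (m + 1) = m; omega), ← hε] at h
      have hsq : (ε : F) * ε = 1 := by rw [← Units.val_mul, mul_eq_one_iff_eq_inv.2 h, Units.val_one]
      rcases mul_self_eq_one_iff.1 hsq with h' | h'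
      · exact Or.inl (Units.ext (by simpa using h'))
      · exact Or.inr (Units.ext (by simpa using h'))
    set f : Fin m → Fˣ := fun i => d (pa i)
    obtain ⟨u, hu, hsq⟩ : ∃ u ∈ ({1, Units.mk0 ν hν0} : Finset Fˣ), IsSquare (u⁻¹ * ∏ x, f x) := by
      by_cases h : IsSquare ((∏ x, f x : Fˣ) : F)
      · obtain ⟨r, hr⟩ := h
        have hr0 : r ≠ 0 := fun h => (∏ x, f x).ne_zero (by rw [hr, h, mul_zero])
        exact ⟨1, by simp, Units.mk0 r hr0, Units.ext (by simpa using hr)⟩
      · obtain ⟨r, hr⟩ : IsSquare (ν⁻¹ * ((∏ x, f x : Fˣ) : F)) :=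
          (Cfsg.Agent.Orthogonal.isSquare_mul_iff h2 (inv_ne_zero hν0) (Units.ne_zero _)).2
            (iff_of_false (by simpa [isSquare_inv] using hν) h)
        have hr0 : r ≠ 0 := fun h => mul_ne_zero (inv_ne_zero hν0) (Units.ne_zero _) (by rw [hr, h, mul_zero])
        exact ⟨Units.mk0 ν hν0, by simp, Units.mk0 r hr0,
          Units.ext (by rw [Units.val_mul, Units.val_inv_eq_inv_val]; exact hr)⟩
    set f₀ : Fin m → Fˣ := fun y => f y * (if (y : ℕ) + 1 = m then u else 1)⁻¹ with hf₀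
    have hprod : ∏ x, f₀ x = u⁻¹ * ∏ x, f x := by
      rw [hf₀, Finset.prod_mul_distrib, mul_comm, Finset.prod_inv_distrib,
        Finset.prod_eq_single (⟨m - 1, by omega⟩ : Fin m)]
      · rw [if_pos (show m - 1 + 1 = m by omega)]
      · exact fun b _ hb => if_neg fun h => hb (Fin.ext (by show (b : ℕ) = m - 1; omega))
      · simp
    obtain ⟨hv, hv'⟩ := half_mem_H₀ m h2 hm f₀ (hprod ▸ hsq)
    have hmem : (ε, u) ∈ ({1, -1} : Finset Fˣ) ×ˢ ({1, Units.mk0 ν hν0} : Finset Fˣ) :=
      Finset.mem_product.2 ⟨by simpa using hε', hu⟩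
    refine ⟨_, Finset.mem_image.2 ⟨⟨(ε, u), hmem⟩, Finset.mem_attach _ _, rfl⟩, ⟨_, hv⟩, hv', Subtype.ext ?_⟩
    show (k : GL (Fin (m + m + 1)) F) = cosetRep (ε, u) * diagGL (halfVec m f₀)
    rw [hd, cosetRep, ← diagGL_mul]
    congr 1
    funext x
    have := x.isLt
    have hr := Fin.val_rev x
    rw [Pi.mul_apply]
    by_cases hlo : (x : ℕ) < m
    · rw [if_neg hlo.ne, halfVec_low _ hlo, halfVec_low _ hlo, hf₀]
      show d x = _ * (d (pa ⟨x, hlo⟩) * _)
      rw [show pa (⟨x, hlo⟩ : Fin m) = x from Fin.ext rfl, mul_left_comm, mul_inv_cancel, mul_one]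
    · by_cases hhi : (x.rev : ℕ) < m
      · rw [if_neg (by omega), halfVec_high _ hlo hhi, halfVec_high _ hlo hhi, hf₀]
        show d x = _ * (d (pa ⟨x.rev, hhi⟩) * _)⁻¹
        rw [show pa (⟨x.rev, hhi⟩ : Fin m) = x.rev from Fin.ext rfl, ← mul_inv, mul_left_comm, mul_inv_cancel,
          mul_one, hsym, inv_inv]
      · rw [if_pos (by omega), halfVec_mid _ hlo hhi, mul_one, hε]
        congr 1
        exact Fin.ext (by show (x : ℕ) = m; omega)
  · rw [show (Ω.map e.toMonoidHom).index = Ω.index from Subgroup.index_map_equiv Ω e, hidx]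
    refine Finset.card_image_le.trans ?_
    rw [Finset.card_attach, Finset.card_product]
    calc _ ≤ 2 * 2 := Nat.mul_le_mul Finset.card_le_two Finset.card_le_two
      _ = 4 := rfl

variable (m) in
/-- The levels. -/
def shape : LevShape (m + m + 1) (m - 1) where
  lv x := if (x : ℕ) < m - 1 then 0 else if (x : ℕ) ≤ m + 1 then (x : ℕ) - (m - 1) + 1 else 4
  T := 4
  first x h := if_pos h
  last x h := by
    rw [Fin.val_rev] at h
    rw [if_neg (by omega), if_neg (by omega)]
  inner x h h' := by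
    rw [Fin.val_rev] at h'
    rw [if_neg h, if_pos (show (x : ℕ) ≤ m + 1 by omega)]
    omega
  T_pos := by norm_num
  mono x y h := by
    have : (x : ℕ) ≤ y := h
    split_ifs <;> omega

theorem hk (m : ℕ) : 2 * (m - 1) ≤ m + m + 1 := by omega

variable (m) in
/-- The setup of the Levi subgroup. -/
noncomputable def setup : TwSetup (T m h2).system (revW (m + m + 1)) (T m h2).e (hk m) where
  c := 1
  hc := e_rev h2
  fixed g := (mem_Grp_iff _ (hσ h2)).1 g.2
  U_iff := system_U_iff _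
  H_iff := system_H_iff _
  nd := (T m h2).f Fin.revPerm
  π := Fin.revPerm
  n_eq := rfl
  mirror _ _ := rfl
  lower := system_lower _
  ψ_mem M := (mem_Grp_iff _ (hσ h2)).2 (dblGL_fixed _ _ (e_rev h2) M)

/-- The orthogonal groups of odd dimension are squares of a class. -/
theorem pomega_odd_cover {F : Type*} [Field F] [Fintype F] (hF : 9 ≤ Fintype.card F) {m : ℕ} (hm : 3 ≤ m)
    (hodd : Odd (Fintype.card F)) :
    ∃ c : Cfsg.POmega F (Cfsg.quadFormOdd m F), ∀ g : Cfsg.POmega F (Cfsg.quadFormOdd m F),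
      ∃ x y, g = (x * c * x⁻¹) * (y * c * y⁻¹) := by
  classical
  obtain ⟨p, hcp⟩ := CharP.exists F
  have hp : p.Prime := CharP.char_is_prime F p
  haveI : Fact p.Prime := ⟨hp⟩
  obtain ⟨f, -, hf⟩ := FiniteField.card F p
  have hp2 : Odd p := by
    rw [hf] at hodd
    exact (Nat.odd_pow_iff f.ne_zero).1 hodd
  have h2 : (2 : F) ≠ 0 := Ring.two_ne_zero fun h => by
    have := FiniteField.even_card_of_char_two (F := F) h
    rw [Nat.odd_iff] at hodd; omega
  have hA : Hyp (T m h2).system p := tw_hyp (T m h2) p (by omega)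
  obtain ⟨ζ, hζ⟩ := IsCyclic.exists_ofOrder_eq_natCard (α := Fˣ)
  rw [Nat.card_eq_fintype_card, Fintype.card_units] at hζ
  set z : ℕ := if Even (m - 1) then 2 else 3 with hz
  have hz' : (z = 2 ∨ z = 3) ∧ Even (m - 1 + z) := by
    rw [hz]; split_ifs with h
    · exact ⟨Or.inl rfl, h.add (by decide)⟩
    · exact ⟨Or.inr rfl, (Nat.not_even_iff_odd.1 h).add_odd (by decide)⟩
  have hzp : ∀ i j : ℤ, -3 ≤ i → i ≤ 3 → -3 ≤ j → j ≤ 3 → i ≠ j → ζ ^ i ≠ ζ ^ j := by
    intro i j hi hi' hj hj' hne e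
    have h1 : ζ ^ (i - j) = 1 := by rw [_root_.zpow_sub, e, mul_inv_cancel]
    have h3 := Int.le_of_dvd (abs_pos.2 (by omega : i - j ≠ 0)) (dvd_abs _ _ |>.2 (orderOf_dvd_iff_zpow_eq_one.2 h1))
    rcases abs_cases (i - j) with h | h <;> omega
  set v : Fin m → Fˣ := fun x => if (x : ℕ) + 1 = m then ζ ^ (z : ℤ) else ζ ^ (1 : ℤ) with hv
  set ev : ℕ → ℤ := fun l =>
    if l = 0 then 1 else if l = 1 then z else if l = 2 then 0 else if l = 3 then -z else -1
  have hdv : ∀ x : Fin (m + m + 1),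
      (halfVec m v : Fin (m + m + 1) → Fˣ) x = ζ ^ ev ((shape m).lv x) := by
    intro x
    have hr := Fin.val_rev x
    have := x.isLt
    show _ = ζ ^ ev (if (x : ℕ) < m - 1 then 0 else if (x : ℕ) ≤ m + 1 then (x : ℕ) - (m - 1) + 1 else 4)
    rcases (show (x : ℕ) < m - 1 ∨ (x : ℕ) = m - 1 ∨ (x : ℕ) = m ∨ (x : ℕ) = m + 1 ∨ m + 1 < x by omega)
      with h | h | h | h | h
    · rw [if_pos h, halfVec_low _ (show (x : ℕ) < m by omega)]
      exact if_neg (show ¬ (x : ℕ) + 1 = m by omega)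
    · rw [if_neg (by omega), if_pos (by omega), halfVec_low _ (show (x : ℕ) < m by omega),
        show (x : ℕ) - (m - 1) + 1 = 1 by omega]
      exact if_pos (show (x : ℕ) + 1 = m by omega)
    · rw [if_neg (by omega), if_pos (by omega), halfVec_mid _ (by omega) (by omega),
        show (x : ℕ) - (m - 1) + 1 = 2 by omega]
      exact (zpow_zero ζ).symm
    · rw [if_neg (by omega), if_pos (by omega), halfVec_high _ (by omega) (show (x.rev : ℕ) < m by omega),
        show (x : ℕ) - (m - 1) + 1 = 3 by omega]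
      show (if (x.rev : ℕ) + 1 = m then _ else _)⁻¹ = ζ ^ (-(z : ℤ))
      rw [if_pos (by omega), _root_.zpow_neg]
    · rw [if_neg (by omega), if_neg (by omega),
        halfVec_high _ (by omega) (show (x.rev : ℕ) < m by omega)]
      show (if (x.rev : ℕ) + 1 = m then _ else _)⁻¹ = ζ ^ (-1 : ℤ)
      rw [if_neg (by omega), _root_.zpow_neg]
  have hsq : IsSquare (∏ x, v x) := by
    obtain ⟨r, hr⟩ := hz'.2
    refine ⟨ζ ^ r, ?_⟩
    rw [← pow_add, ← hr, Finset.prod_eq_mul_prod_sdiff_singleton_of_mem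
      (Finset.mem_univ (⟨m - 1, by omega⟩ : Fin m))]
    rw [Finset.prod_congr rfl (g := fun _ => ζ ^ (1 : ℤ)) (fun x hx => if_neg (fun h => by
      rw [Finset.mem_sdiff, Finset.mem_singleton] at hx
      exact hx.2 (Fin.ext (by show (x : ℕ) = m - 1; omega))))]
    simp only [hv, if_pos (show m - 1 + 1 = m by omega), zpow_natCast, zpow_one, Finset.prod_const]
    rw [Finset.card_sdiff, Finset.inter_univ, Finset.card_singleton, Finset.card_univ, Fintype.card_fin,
      ← pow_add, add_comm]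
  set φ := (MonoidHom.ofInjective (Orth.toGrp_injective m (F := F))).trans
    (MulEquiv.subgroupCongr (Orth.range_toGrp m h2))
  have hidx : (Cfsg.Omega F (Cfsg.quadFormOdd m F)).index = 4 :=
    (Cfsg.Agent.Orthogonal.omega_index (Cfsg.Agent.Orthogonal.formOdd F m)).trans
      (Cfsg.Agent.Orthogonal.index_commutator_eq_four (Cfsg.Agent.Orthogonal.formOdd_nondeg F m h2) h2
        (by rw [Cfsg.Agent.Orthogonal.finrank_formOdd]; omega))
  have hgen := gen h2 (by omega) ⟨p, hp, hp2, hcp⟩ φ hidx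
  let D := twLevi (S := shape m) hA (system_full _) (pinned m h2) hgen (setup m h2) (halfVec m v)
    (fun i j h => by
      rw [hdv, hdv]
      refine hzp _ _ ?_ ?_ ?_ ?_ ?_ <;>
        (have hi2 := (shape m).le_T i
         have hj2 := (shape m).le_T j
         have hT : (shape m).T = 4 := rfl
         simp only [ev]
         split_ifs <;> omega))
    (fun i j hi hj => by
      rw [hdv, hdv, (shape m).first i hi, (shape m).first j hj])
    (half_mem_H₀ m h2 (by omega) _ hsq)
    (fun x => by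
      show (halfVec m v : Fin (m + m + 1) → Fˣ) ((Fin.revPerm : Equiv.Perm (Fin (m + m + 1)))⁻¹ x) = _
      rw [Equiv.Perm.inv_def]
      exact halfVec_sym (by omega) _ x)
    (fun δ => by
      refine ⟨halfVec m (fun x => if (x : ℕ) = 0 then δ else if (x : ℕ) + 1 = m then δ⁻¹ else 1),
        half_mem_H₀ m h2 (by omega) _ ?_, fun x hx => ?_⟩
      · rw [← Finset.prod_subset (Finset.subset_univ
          ({⟨0, by omega⟩, ⟨m - 1, by omega⟩} : Finset (Fin m)))]
        · rw [Finset.prod_pair (by rw [Ne, Fin.ext_iff]; show 0 ≠ m - 1; omega)]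
          simp [show ¬ m - 1 = 0 by omega, show m - 1 + 1 = m by omega]
        · intro x _ hx
          simp only [Finset.mem_insert, Finset.mem_singleton, not_or, Fin.ext_iff] at hx
          rw [if_neg hx.1, if_neg (by omega)]
      · rw [halfVec_low _ (show (x : ℕ) < m by omega)]
        show (if (x : ℕ) = 0 then δ else if (x : ℕ) + 1 = m then δ⁻¹ else 1) = _
        rw [if_neg (show ¬ (x : ℕ) + 1 = m by omega)])
    (fun g hg i j h1 h1' hl => by
      have hij : i = j := by
        have hi := Fin.val_rev i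
        have hj := Fin.val_rev j
        have := i.isLt
        have := j.isLt
        simp only [shape] at hl
        refine Fin.ext ?_
        split_ifs at hl <;> omega
      subst hij
      rw [if_pos rfl]
      rcases hg with hg | hg
      · exact (mem_unitri.1 hg).2 i
      · rw [show g = (T m h2).system.n (revW _) *
          (((T m h2).system.n (revW _))⁻¹ * g * (T m h2).system.n (revW _)) *
          ((T m h2).system.n (revW _))⁻¹ by group, Subgroup.coe_mul, Subgroup.coe_mul, Subgroup.coe_inv,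
          system_n_coe]
        show ((diagGL ((T m h2).f Fin.revPerm) * permGL F Fin.revPerm * _ *
          (diagGL ((T m h2).f Fin.revPerm) * permGL F Fin.revPerm)⁻¹ : GL _ F) : Matrix _ _ F) i i = 1
        rw [conj_rev_entry, (mem_unitri.1 ((system_U_iff _ _).1 hg)).2]
        simp)
  haveI : IsSimpleGroup (Cfsg.POmega F (Cfsg.quadFormOdd m F)) := Cfsg.Agent.S0295.result hodd m hm
  set Ω := Cfsg.Omega F (Cfsg.quadFormOdd m F)
  haveI : (Ω.map φ.toMonoidHom).Normal := Subgroup.Normal.map inferInstance _ φ.surjective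
  let ψ : ↥(Ω.map φ.toMonoidHom) ≃* ↥Ω := (Ω.equivMapOfInjective φ.toMonoidHom φ.injective).symm
  refine cover_of_pinned hA (system_full _) (pinned m h2) hgen D
    (by rw [Nat.card_eq_fintype_card]; omega) (Ω.map φ.toMonoidHom)
    (unitri_le_omega h2 ⟨p, hp, hp2, hcp⟩ φ)
    ((QuotientGroup.mk' (Subgroup.center ↥Ω)).comp ψ.toMonoidHom)
    ((QuotientGroup.mk'_surjective _).comp ψ.surjective) ?_
  intro x hx
  rw [MonoidHom.mem_ker, MonoidHom.comp_apply, QuotientGroup.mk'_apply, QuotientGroup.eq_one_iff] at hx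
  refine Subgroup.mem_center_iff.2 fun y => ψ.injective ?_
  rw [map_mul, map_mul]
  exact Subgroup.mem_center_iff.1 hx (ψ y)

end Cfsg.Agent.H14.ThompsonSplit.POddCase
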