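import Cfsg.Agent.H14.ThompsonSplit.PlusPinned
import Cfsg.Agent.S0296

/-!
The projective orthogonal groups of plus type are squares of conjugacy classes.
-/

set_option autoImplicit false
set_option linter.unusedSectionVars false
set_option linter.unusedFintypeInType false

namespace Cfsg.Agent.H14.ThompsonSplit.PlusCase

open Matrix Cfsg.Agent.Linear Cfsg.Agent.H54 Cfsg.Agent.H52.TwistedBruhat Cfsg.Agent.H83.Classical
open Cfsg.Agent.H13.Split Cfsg.Agent.H83.Classical.OPlus
open Cfsg.Agent.H37 (Tits.Ambient)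
open scoped MatrixGroups

variable {m : ℕ} {F : Type*} [Field F] [Finite F] (hm : 2 ≤ m)

theorem diag_half_mem (f : Fin (m + 1) → Fˣ) :
    diagGL (halfVec (n := dim m) (m + 1) f) ∈ HPlus m F :=
  ⟨diag_mem_torus _, torus_fixed_mem_OGrp (diag_mem_torus _) (by
    rw [← tau_one_eq]
    exact diag_fixed _ fun x => halfVec_sym (show 2 * (m + 1) ≤ dim m by simp only [dim]; omega) f x)⟩

/-- Half vectors whose product is a square come from the coroots. -/
theorem half_mem_H₀ (f : Fin (m + 1) → Fˣ) (hf : IsSquare (∏ x, f x)) :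
    InTorus (pinned m F hm) (halfVec (m + 1) f) := by
  refine ⟨HPlus_le (diag_half_mem f), ?_⟩
  let g : (Fin (m + 1) → Fˣ) →* ↥(GPlus m F) :=
    ((diagHom (dim m) F).comp (halfVec (m + 1))).codRestrict _ fun f => HPlus_le (diag_half_mem f)
  have hgen : ∀ i : Fin (m + 1), ∀ l : Fˣ, coVec i l ∈ (pinned m F hm).H₀.comap g := fun i l => by
    show g (coVec i l) ∈ (pinned m F hm).H₀
    rw [show g (coVec i l) = node hm i (diSL l) from Subtype.ext (node_di hm i l).symm]
    exact (pinned m F hm).di_mem_H₀ i l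
  have hadj : ∀ i, i < m → ∀ l : Fˣ, adjVec i l ∈ (pinned m F hm).H₀.comap g := fun i hi l => by
    have := hgen ⟨i, by omega⟩ l
    rwa [coVec, if_pos (show i < m from hi)] at this
  refine mem_half_span (S := (pinned m F hm).H₀.comap g) (Fin.last m) rfl hadj f ?_
  obtain ⟨l, hl⟩ := hf
  rw [hl]
  have h1 := hgen (Fin.last m) l
  rw [coVec, if_neg (show ¬ ((Fin.last m : Fin (m + 1)) : ℕ) < m by simp)] at h1
  have h2 := inv_mem (hadj (m - 1) (by omega) l)
  convert mul_mem h1 h2 using 1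
  funext x
  have := x.isLt
  simp only [Pi.mulSingle_apply, Pi.mul_apply, Pi.inv_apply, adjVec, Fin.ext_iff, Fin.val_last]
  split_ifs <;> first | omega | simp

/-- The image of the derived group inside the group of type D. -/
noncomputable def omegaN (m : ℕ) (F : Type*) [Field F] : Subgroup ↥(GPlus m F) :=
  ((Cfsg.Omega F (Cfsg.quadFormPlus (m + 1) F)).map (isoO m F)).subgroupOf (GPlus m F)

instance omegaN_normal : (omegaN m F).Normal := ⟨fun x hx g => by
  obtain ⟨a, ha, e⟩ := hx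
  obtain ⟨b, hb⟩ : (g : GL (Fin (dim m)) F) ∈ (isoO m F).range := by
    rw [range_isoO]; exact GPlus_le_OGrp g.2
  refine ⟨b * a * b⁻¹, (inferInstance : (Cfsg.Omega F (Cfsg.quadFormPlus (m + 1) F)).Normal).conj_mem a ha b, ?_⟩
  rw [map_mul, map_mul, map_inv, hb, e]
  rfl⟩

theorem U_le_omegaN [Fintype F] (p : ℕ) [Fact p.Prime] [CharP F p] (hm' : 2 ≤ m) :
    (plusAmb m F).U ≤ omegaN m F := by
  intro u hu
  show (u : GL (Fin (dim m)) F) ∈ (Cfsg.Omega F (Cfsg.quadFormPlus (m + 1) F)).map (isoO m F)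
  by_cases h2 : (2 : F) = 0
  · exact UPlus_le_omega_two h2 (Or.inr (by omega)) hu
  · exact UPlus_le_omega_odd p h2 hu

theorem omegaN_index (hm' : 2 ≤ m) :
    2 * (omegaN m F).index = (Cfsg.Omega F (Cfsg.quadFormPlus (m + 1) F)).index := by
  set Ω := Cfsg.Omega F (Cfsg.quadFormPlus (m + 1) F)
  have hle : Ω ≤ (GPlus m F).comap (isoO m F) := Subgroup.map_le_iff_le_comap.1 omega_le_GPlus
  have h := Subgroup.relIndex_mul_index hle
  rw [GPlus_comap_index] at h
  rw [← h, mul_comm]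
  congr 1
  have hr : GPlus m F ≤ (isoO m F).range := by rw [range_isoO]; exact GPlus_le_OGrp
  show (Ω.map (isoO m F)).relIndex (GPlus m F) = _
  rw [← Subgroup.relIndex_map_map_of_injective Ω ((GPlus m F).comap (isoO m F)) isoO_injective,
    Subgroup.map_comap_eq_self hr]

/-- Representatives of the torus modulo the coroots. -/
noncomputable def cosetRep (u : Fˣ) : ↥(GPlus m F) :=
  ⟨_, HPlus_le (diag_half_mem (fun y : Fin (m + 1) => if (y : ℕ) = m then u else 1))⟩

theorem exists_reps [Fintype F] (hm' : 2 ≤ m) : ∃ R : Finset Fˣ,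
    R.card ≤ (omegaN m F).index ∧ ∀ a : Fˣ, ∃ u ∈ R, IsSquare (u⁻¹ * a) := by
  classical
  have hidx := omegaN_index (F := F) hm'
  have hfr := Cfsg.Agent.Orthogonal.finrank_formPlus F (m + 1)
  have hnd := Cfsg.Agent.Orthogonal.formPlus_nondeg F (m + 1)
  rw [← Cfsg.Agent.Orthogonal.formPlus_coe, Cfsg.Agent.Orthogonal.omega_index] at hidx
  by_cases h2 : (2 : F) = 0
  · rw [Cfsg.Agent.Orthogonal.index_commutator_eq_two hnd
      (Cfsg.Agent.Orthogonal.reflGroup_eq_top hnd (Or.inr (by omega))) h2 (by omega)] at hidx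
    refine ⟨{1}, by rw [Finset.card_singleton]; omega, fun a => ⟨1, by simp, ?_⟩⟩
    have hchar : ringChar F = 2 := by
      obtain ⟨p, hp⟩ := CharP.exists F
      have h2' : p ∣ 2 := (CharP.cast_eq_zero_iff F p 2).1 (by exact_mod_cast h2)
      have := (Nat.prime_dvd_prime_iff_eq (CharP.char_is_prime F p) Nat.prime_two).1 h2'
      subst this
      exact ringChar.eq F 2
    obtain ⟨r, hr⟩ := FiniteField.isSquare_of_char_two hchar (a : F)
    have hr0 : r ≠ 0 := fun h => a.ne_zero (by rw [hr, h, mul_zero])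
    exact ⟨Units.mk0 r hr0, Units.ext (by simpa using hr)⟩
  · rw [Cfsg.Agent.Orthogonal.index_commutator_eq_four hnd h2 (by omega)] at hidx
    obtain ⟨ν, hν⟩ := Cfsg.Agent.Orthogonal.exists_not_isSquare h2
    have hν0 : ν ≠ 0 := fun h => hν (by rw [h]; exact IsSquare.zero)
    refine ⟨{1, Units.mk0 ν hν0}, Finset.card_le_two.trans (by omega), fun a => ?_⟩
    by_cases h : IsSquare (a : F)
    · obtain ⟨r, hr⟩ := h
      have hr0 : r ≠ 0 := fun h => a.ne_zero (by rw [hr, h, mul_zero])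
      exact ⟨1, by simp, Units.mk0 r hr0, Units.ext (by simpa using hr)⟩
    · obtain ⟨r, hr⟩ : IsSquare (ν⁻¹ * (a : F)) :=
        (Cfsg.Agent.Orthogonal.isSquare_mul_iff h2 (inv_ne_zero hν0) (Units.ne_zero _)).2
          (iff_of_false (by simpa [isSquare_inv] using hν) h)
      have hr0 : r ≠ 0 := fun h => mul_ne_zero (inv_ne_zero hν0) (Units.ne_zero _) (by rw [hr, h, mul_zero])
      exact ⟨Units.mk0 ν hν0, by simp, Units.mk0 r hr0,
        Units.ext (by rw [Units.val_mul, Units.val_inv_eq_inv_val]; exact hr)⟩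

theorem gen [Fintype F] (p : ℕ) [Fact p.Prime] [CharP F p] :
    ∀ g ∈ (plusAmb m F).H ⊓ (pinned m F hm).E, g ∈ (pinned m F hm).H₀ := by
  classical
  obtain ⟨R, hR, hcov⟩ := exists_reps (F := F) hm
  refine (pinned m F hm).gen_of_index (omegaN m F) (U_le_omegaN p hm) (R.image cosetRep) (fun k hk => ?_)
    (Finset.card_image_le.trans hR)
  obtain ⟨d, hd⟩ := exists_of_mem_torus hk.1
  have hd' : (k : GL (Fin (dim m)) F) = diagGL d := hd
  have hsym := sym_of_fixed (1 : Fin (dim m) → Fˣ) (fixed_of_mem (by rw [← hd']; exact GPlus_le_OGrp k.2))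
  set f : Fin (m + 1) → Fˣ := fun i => d (Fin.castAdd (m + 1) i)
  obtain ⟨u, hu, hsq⟩ := hcov (∏ x, f x)
  set f₀ : Fin (m + 1) → Fˣ := fun y => f y * (if (y : ℕ) = m then u else 1)⁻¹ with hf₀
  have hprod : ∏ x, f₀ x = u⁻¹ * ∏ x, f x := by
    rw [hf₀, Finset.prod_mul_distrib, mul_comm, Finset.prod_inv_distrib,
      Finset.prod_eq_single (Fin.last m)]
    · rw [if_pos (Fin.val_last m)]
    · exact fun b _ hb => if_neg fun h => hb (Fin.ext (by rw [Fin.val_last]; exact h))
    · simp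
  obtain ⟨hv, hv'⟩ := half_mem_H₀ hm f₀ (hprod ▸ hsq)
  refine ⟨cosetRep u, Finset.mem_image.2 ⟨u, hu, rfl⟩, ⟨_, hv⟩, hv', Subtype.ext ?_⟩
  show (k : GL (Fin (dim m)) F) = diagGL (halfVec (m + 1) _) * diagGL (halfVec (m + 1) f₀)
  rw [hd', ← diagGL_mul]
  congr 1
  funext x
  have := x.isLt
  have hr := Fin.val_rev x
  simp only [dim] at *
  rw [Pi.mul_apply]
  by_cases hlo : (x : ℕ) < m + 1
  · rw [halfVec_low _ hlo, halfVec_low _ hlo, hf₀]
    show d x = _ * (d (Fin.castAdd (m + 1) ⟨x, hlo⟩) * _)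
    rw [show (Fin.castAdd (m + 1) ⟨x, hlo⟩ : Fin (dim m)) = x from Fin.ext rfl, mul_left_comm, mul_inv_cancel,
      mul_one]
  · have hhi : (x.rev : ℕ) < m + 1 := by omega
    rw [halfVec_high _ hlo hhi, halfVec_high _ hlo hhi, hf₀]
    show d x = _ * (d (Fin.castAdd (m + 1) ⟨x.rev, hhi⟩) * _)⁻¹
    rw [show (Fin.castAdd (m + 1) ⟨x.rev, hhi⟩ : Fin (dim m)) = x.rev from Fin.ext rfl, ← mul_inv, mul_left_comm,
      mul_inv_cancel, mul_one, hsym, inv_inv]

variable (m) in
/-- The levels. -/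
def shape : LevShape (dim m) m where
  lv x := if (x : ℕ) < m then 0 else if (x : ℕ) ≤ m + 1 then 1 else 2
  T := 2
  first x h := if_pos h
  last x h := by
    rw [Fin.val_rev] at h
    have := x.isLt
    simp only [dim] at *
    rw [if_neg (by omega), if_neg (by omega)]
  inner x h h' := by
    rw [Fin.val_rev] at h'
    have := x.isLt
    simp only [dim] at *
    rw [if_neg h, if_pos (show (x : ℕ) ≤ m + 1 by omega)]
    omega
  T_pos := by norm_num
  mono x y h := by
    have : (x : ℕ) ≤ y := h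
    split_ifs <;> omega

theorem hk (m : ℕ) : 2 * m ≤ dim m := by simp only [dim]; omega

theorem w0_rev (x : Fin (dim m)) :
    (w0 m).1 x = x.rev ∨ (w0 m).1 x = (mid m x).rev := by
  rcases w0_spec (m := m) with e | e <;> rw [e]
  · exact Or.inl rfl
  · exact Or.inr rfl

theorem w0_outer {x : Fin (dim m)} (h1 : (x : ℕ) ≠ m) (h2 : (x : ℕ) ≠ m + 1) : (w0 m).1 x = x.rev := by
  rcases w0_rev x with e | e
  · exact e
  · rw [e, mid_of_ne h1 h2]

/-- The conjugate of an orthogonal unitriangular element by the longest one is lower triangular. -/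
theorem w0_lower {x : GL (Fin (dim m)) F} (hx : x ∈ UPlus m F) :
    (∀ i j : Fin (dim m), i < j → ((permGL F (w0 m).1 * x * (permGL F (w0 m).1)⁻¹ : GL (Fin (dim m)) F) :
      Matrix (Fin (dim m)) (Fin (dim m)) F) i j = 0) ∧
    (∀ i : Fin (dim m), ((permGL F (w0 m).1 * x * (permGL F (w0 m).1)⁻¹ : GL (Fin (dim m)) F) :
      Matrix (Fin (dim m)) (Fin (dim m)) F) i i = 1) := by
  obtain ⟨y, hy, e⟩ : ∃ y ∈ UPlus m F, permGL F (w0 m).1 * x * (permGL F (w0 m).1)⁻¹ =
      (permGL F Fin.revPerm)⁻¹ * y * permGL F Fin.revPerm := by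
    rcases w0_spec (m := m) with e | e <;> rw [e]
    · exact ⟨x, hx, by rw [perm_rev_inv]⟩
    · refine ⟨_, perm_conj_unitri_mid hx, ?_⟩
      rw [perm_rev_inv, permGL_mul, _root_.mul_inv_rev, perm_rev_inv]
      group
  refine ⟨fun i j h => ?_, fun i => ?_⟩ <;> rw [e, perm_conj_apply]
  · exact mem_upper.1 (mem_unitri.1 hy.1).1 _ _ (Fin.rev_lt_rev.2 h)
  · exact (mem_unitri.1 hy.1).2 _

/-- The middle block of an orthogonal unitriangular element and of its conjugate is trivial. -/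
theorem mid_block {g : ↥(GPlus m F)}
    (hg : (g : GL (Fin (dim m)) F) ∈ unitriGL (dim m) F ∨
      ((plusAmb m F).n (w0 m))⁻¹ * g * (plusAmb m F).n (w0 m) ∈ (plusAmb m F).U)
    {i j : Fin (dim m)} (hi : (i : ℕ) = m ∨ (i : ℕ) = m + 1) (hj : (j : ℕ) = m ∨ (j : ℕ) = m + 1) :
    ((g : GL (Fin (dim m)) F) : Matrix (Fin (dim m)) (Fin (dim m)) F) i j = if i = j then 1 else 0 := by
  have key : ∀ (x : GL (Fin (dim m)) F), x ∈ UPlus m F → ∀ a b : Fin (dim m), ((a : ℕ) = m ∨ (a : ℕ) = m + 1) →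
      ((b : ℕ) = m ∨ (b : ℕ) = m + 1) →
      (x : Matrix (Fin (dim m)) (Fin (dim m)) F) a b = if a = b then 1 else 0 := by
    intro x hx a b ha hb
    rcases lt_trichotomy a b with h | h | h
    · have h' : (a : ℕ) < b := h
      have hb' : b = a.rev := Fin.ext (by rw [Fin.val_rev]; simp only [dim]; omega)
      rw [if_neg h.ne, hb']
      exact mid_entry hx.1 hx.2 (by omega)
    · subst h
      rw [if_pos rfl, (mem_unitri.1 hx.1).2]
    · rw [if_neg h.ne', mem_upper.1 (mem_unitri.1 hx.1).1 a b h]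
  rcases hg with hg | hg
  · exact key _ ⟨hg, GPlus_le_OGrp g.2⟩ i j hi hj
  · set x := ((plusAmb m F).n (w0 m))⁻¹ * g * (plusAmb m F).n (w0 m) with hx
    have e : (g : GL (Fin (dim m)) F) = (permGL F (w0 m).1⁻¹)⁻¹ * (x : GL (Fin (dim m)) F) * permGL F (w0 m).1⁻¹ := by
      rw [← permGL_inv, inv_inv, hx]
      show _ = permGL F (w0 m).1 * ((permGL F (w0 m).1)⁻¹ * (g : GL (Fin (dim m)) F) * permGL F (w0 m).1) *
        (permGL F (w0 m).1)⁻¹
      group
    have hw : ∀ a : Fin (dim m), ((a : ℕ) = m ∨ (a : ℕ) = m + 1) →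
        (((w0 m).1 a : ℕ) = m ∨ ((w0 m).1 a : ℕ) = m + 1) := fun a ha => by
      have hA : ((midA m : Fin (dim m)) : ℕ) = m := rfl
      have hB := midA_rev_val (m := m)
      rcases w0_rev a with e | e <;> rw [e, Fin.val_rev]
      · simp only [dim] at *; omega
      · rcases ha with h | h
        · rw [mid_of_eq h, hB]; simp only [dim] at *; omega
        · rw [mid_of_eq' h, hA]; simp only [dim] at *; omega
    rw [e, perm_conj_apply]
    refine (key _ hg ((w0 m).1⁻¹ i) ((w0 m).1⁻¹ j) (by rw [w0_inv]; exact hw i hi)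
      (by rw [w0_inv]; exact hw j hj)).trans ?_
    simp only [EmbeddingLike.apply_eq_iff_eq]

variable (m F) in
/-- The setup of the Levi subgroup. -/
noncomputable def setup : TwSetup (plusAmb m F) (w0 m) (1 : Fin (dim m) → Fˣ) (hk m) where
  c := 1
  hc := one_rev
  fixed g := fixed_of_mem (GPlus_le_OGrp g.2)
  U_iff g := ⟨fun h => h.1, fun h => ⟨h, GPlus_le_OGrp g.2⟩⟩
  H_iff g := ⟨fun h => h.1, fun h => ⟨h, GPlus_le_OGrp g.2⟩⟩
  nd := 1
  π := (w0 m).1
  n_eq := by rw [diagGL_one, one_mul]; rfl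
  mirror x h := w0_outer (by omega) (by omega)
  lower x hx := (w0_lower hx).1
  ψ_mem M := dbl_mem_GPlus _ (fun _ _ h => h) M

/-- The orthogonal groups of plus type are squares of a class. -/
theorem pomega_plus_cover {F : Type*} [Field F] [Fintype F] (hF : 9 ≤ Fintype.card F) {k : ℕ} (hk : 4 ≤ k) :
    ∃ c : Cfsg.POmega F (Cfsg.quadFormPlus k F), ∀ g : Cfsg.POmega F (Cfsg.quadFormPlus k F),
      ∃ x y, g = (x * c * x⁻¹) * (y * c * y⁻¹) := by
  classical
  obtain ⟨m, rfl⟩ : ∃ m, k = m + 1 := ⟨k - 1, by omega⟩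
  obtain ⟨p, hcp⟩ := CharP.exists F
  haveI : Fact p.Prime := ⟨CharP.char_is_prime F p⟩
  have hm : 2 ≤ m := by omega
  have hA : Hyp (plusAmb m F) p := plus_hyp' p (by omega)
  obtain ⟨ζ, hζ⟩ := IsCyclic.exists_ofOrder_eq_natCard (α := Fˣ)
  rw [Nat.card_eq_fintype_card, Fintype.card_units] at hζ
  set a := ζ ^ 2 with ha
  have hpow : ∀ n, 0 < n → n ≤ 4 → ζ ^ n ≠ 1 := fun n h0 h4 h => by
    have := Nat.le_of_dvd h0 (orderOf_dvd_of_pow_eq_one h)
    omega
  have ha1 : a ≠ 1 := hpow 2 (by omega) (by omega)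
  have ha2 : a⁻¹ ≠ a := fun e => hpow 4 (by omega) (by omega) (by
    rw [show 4 = 2 + 2 from rfl, pow_add, ← ha]
    nth_rewrite 1 [← e]
    exact inv_mul_cancel a)
  set v : Fin (m + 1) → Fˣ := fun x => if (x : ℕ) < m then a else 1 with hv
  have hdv : ∀ x : Fin (dim m), (halfVec (m + 1) v : Fin (dim m) → Fˣ) x =
      if (shape m).lv x = 0 then a else if (shape m).lv x = 1 then 1 else a⁻¹ := by
    intro x
    have hr := Fin.val_rev x
    have := x.isLt
    simp only [dim] at *
    show _ = if (if (x : ℕ) < m then 0 else if (x : ℕ) ≤ m + 1 then 1 else 2) = 0 then a else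
      if (if (x : ℕ) < m then 0 else if (x : ℕ) ≤ m + 1 then 1 else 2) = 1 then 1 else a⁻¹
    rcases (show (x : ℕ) < m ∨ (x : ℕ) = m ∨ (x : ℕ) = m + 1 ∨ m + 1 < x by omega) with h | h | h | h
    · rw [halfVec_low _ (show (x : ℕ) < m + 1 by omega)]
      simp [hv, h]
    · rw [halfVec_low _ (show (x : ℕ) < m + 1 by omega)]
      simp [hv, h]
    · rw [halfVec_high _ (by omega) (show (x.rev : ℕ) < m + 1 by omega)]
      simp [hv, h]
      intro h'
      simp only [dim] at h'
      omega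
    · rw [halfVec_high _ (by omega) (show (x.rev : ℕ) < m + 1 by omega)]
      simp [hv, show ¬ (x : ℕ) < m by omega, show ¬ (x : ℕ) ≤ m + 1 by omega]
      intro h'
      simp only [dim] at h'
      omega
  have hgen := gen (F := F) hm p
  let D := twLevi (S := shape m) hA w0_full (pinned m F hm) hgen (setup m F) (halfVec (m + 1) v)
    (fun i j h => by
      rw [hdv, hdv]
      have hi2 := (shape m).le_T i
      have hj2 := (shape m).le_T j
      have hT : (shape m).T = 2 := rfl
      have ha3 : a⁻¹ ≠ 1 := fun e => ha1 (inv_eq_one.1 e)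
      split_ifs <;>
        first | omega | exact ha1 | exact ha1.symm | exact ha2 | exact ha2.symm | exact ha3 | exact ha3.symm)
    (fun i j hi hj => by rw [hdv, hdv, (shape m).first i hi, (shape m).first j hj])
    (half_mem_H₀ hm _ ⟨ζ ^ (Finset.univ.filter fun x : Fin (m + 1) => (x : ℕ) < m).card, by
      rw [hv, Finset.prod_ite, Finset.prod_const, Finset.prod_const_one, mul_one, ha, ← pow_mul, ← pow_add]
      congr 1
      omega⟩)
    (fun x => by
      show (halfVec (m + 1) v : Fin (dim m) → Fˣ) ((w0 m).1⁻¹ x) = _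
      rw [w0_inv]
      by_cases hx : (x : ℕ) = m ∨ (x : ℕ) = m + 1
      · have hx' : ((w0 m).1 x : ℕ) = m ∨ ((w0 m).1 x : ℕ) = m + 1 := by
          have hA' : ((midA m : Fin (dim m)) : ℕ) = m := rfl
          have hB := midA_rev_val (m := m)
          rcases w0_rev x with e | e <;> rw [e, Fin.val_rev]
          · simp only [dim] at *; omega
          · rcases hx with h | h
            · rw [mid_of_eq h, hB]; simp only [dim] at *; omega
            · rw [mid_of_eq' h, hA']; simp only [dim] at *; omega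
        have hlv : ∀ y : Fin (dim m), ((y : ℕ) = m ∨ (y : ℕ) = m + 1) → (shape m).lv y = 1 := fun y hy => by
          show (if (y : ℕ) < m then 0 else if (y : ℕ) ≤ m + 1 then 1 else 2) = 1
          rw [if_neg (by omega), if_pos (by omega)]
        rw [hdv, hdv, hlv _ hx', hlv _ hx]
        simp
      · push Not at hx
        rw [w0_outer hx.1 hx.2]
        exact halfVec_sym (show 2 * (m + 1) ≤ dim m by simp only [dim]; omega) _ x)
    (fun δ => by
      refine ⟨halfVec (m + 1) (fun x => if (x : ℕ) = 0 then δ else if (x : ℕ) = m then δ⁻¹ else 1),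
        half_mem_H₀ hm _ ?_, fun x hx => ?_⟩
      · rw [← Finset.prod_subset (Finset.subset_univ
          ({⟨0, by omega⟩, Fin.last m} : Finset (Fin (m + 1))))]
        · rw [Finset.prod_pair (by rw [Ne, Fin.ext_iff, Fin.val_last]; show 0 ≠ m; omega)]
          simp [show ¬ m = 0 by omega]
        · intro x _ hx
          simp only [Finset.mem_insert, Finset.mem_singleton, not_or, Fin.ext_iff, Fin.val_last] at hx
          rw [if_neg hx.1, if_neg hx.2]
      · rw [halfVec_low _ (show (x : ℕ) < m + 1 by omega)]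
        show (if (x : ℕ) = 0 then δ else if (x : ℕ) = m then δ⁻¹ else 1) = _
        rw [if_neg (show ¬ (x : ℕ) = m by omega)])
    (fun g hg i j h1 h1' _ => by
      rw [Fin.val_rev] at h1'
      have hi : (i : ℕ) = m ∨ (i : ℕ) = m + 1 := by
        have := i.isLt; simp only [dim] at *; omega
      have hj : (j : ℕ) = m ∨ (j : ℕ) = m + 1 := by
        rename_i hl
        have hl' : (if (i : ℕ) < m then 0 else if (i : ℕ) ≤ m + 1 then 1 else 2) =
            (if (j : ℕ) < m then 0 else if (j : ℕ) ≤ m + 1 then 1 else 2) := hl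
        rw [if_neg h1, if_pos (show (i : ℕ) ≤ m + 1 by omega)] at hl'
        split_ifs at hl' <;> omega
      exact mid_block hg hi hj)
  haveI : IsSimpleGroup (Cfsg.POmega F (Cfsg.quadFormPlus (m + 1) F)) := Cfsg.Agent.S0296.result (m + 1) hk
  set Ω := Cfsg.Omega F (Cfsg.quadFormPlus (m + 1) F)
  let ψ : ↥(omegaN m F) ≃* ↥Ω := ((Ω.equivMapOfInjective (isoO m F) isoO_injective).trans
    (Subgroup.subgroupOfEquivOfLe omega_le_GPlus).symm).symm
  refine cover_of_pinned hA w0_full (pinned m F hm) hgen D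
    (by rw [Nat.card_eq_fintype_card]; omega) (omegaN m F) (U_le_omegaN p hm)
    ((QuotientGroup.mk' (Subgroup.center ↥Ω)).comp ψ.toMonoidHom)
    ((QuotientGroup.mk'_surjective _).comp ψ.surjective) ?_
  intro x hx
  rw [MonoidHom.mem_ker, MonoidHom.comp_apply, QuotientGroup.mk'_apply, QuotientGroup.eq_one_iff] at hx
  refine Subgroup.mem_center_iff.2 fun y => ψ.injective ?_
  rw [map_mul, map_mul]
  exact Subgroup.mem_center_iff.1 hx (ψ y)

end Cfsg.Agent.H14.ThompsonSplit.PlusCase
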