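import Cfsg.Agent.H14.ThompsonSplit.Glue
import Cfsg.Agent.H14.ThompsonSplit.Diag
import Cfsg.Agent.H13.Split.GL
import Cfsg.Agent.Linear.Order
import Cfsg.Agent.Linear.Unitriangular
import Cfsg.Agent.Linear.Simple

/-!
The projective special linear groups are squares of conjugacy classes.
-/

set_option autoImplicit false
set_option linter.unusedSectionVars false

namespace Cfsg.Agent.H14.ThompsonSplit.PSLCase

open Matrix Cfsg.Agent.Linear Cfsg.Agent.H54 Cfsg.Agent.H52.TwistedBruhat Cfsg.Agent.H83.Classical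
open Cfsg.Agent.H13.Split
open Cfsg.Agent.H37 (Tits.Ambient)
open scoped MatrixGroups

variable {k : ℕ} {F : Type*} [Field F] [Finite F]

variable (k F) in
/-- The Tits system of the general linear group. -/
noncomputable abbrev amb : Tits.Ambient (GL (Fin (k + 2)) F) (Equiv.Perm (Fin (k + 2))) :=
  glAmb (fun _ => 1) rfl

theorem amb_n (w : Equiv.Perm (Fin (k + 2))) : (amb k F).n w = permGL F w := by
  show diagGL 1 * permGL F w = _
  rw [diagGL_one, one_mul]

theorem amb_Uw (w : Equiv.Perm (Fin (k + 2))) : (amb k F).Uw w = outPart w⁻¹ := rfl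

/-- The coordinates of a node. -/
def pe (i : Fin (k + 1)) : Fin 2 ↪ Fin (k + 2) :=
  ⟨![i.castSucc, i.succ], by
    have h : i.castSucc ≠ i.succ := Fin.castSucc_lt_succ.ne
    intro a b hab
    fin_cases a <;> fin_cases b <;> simp_all [eq_comm]⟩

theorem pe_zero (i : Fin (k + 1)) : pe i 0 = i.castSucc := rfl
theorem pe_one (i : Fin (k + 1)) : pe i 1 = i.succ := rfl

theorem embGL_pe_di (i : Fin (k + 1)) (l : Fˣ) :
    embGL (pe i) (diSL l) = diagGL (adjVec (i : ℕ) l) := by
  rw [embGL_diag]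
  congr 1
  funext x
  simp only [pe_zero, pe_one, adjVec, Fin.ext_iff, Fin.val_castSucc, Fin.val_succ]

/-- The exponent vector of a coroot. -/
def vec (j : ℕ) (x : ℕ) : ℤ := if x = j then 1 else if x = j + 1 then -1 else 0

theorem adjVec_zpow (j : ℕ) (l : Fˣ) (x : Fin (k + 2)) :
    adjVec j l x = l ^ vec j (x : ℕ) := by
  simp only [adjVec, vec]
  split_ifs <;> simp

theorem swap_apply_rev {i j : Fin (k + 2)} :
    (Fin.revPerm * Equiv.swap i j * Fin.revPerm : Equiv.Perm (Fin (k + 2))) = Equiv.swap i.rev j.rev :=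
  TwData.revConj_swap i j

/-- The fundamental roots. -/
noncomputable def chi (i : Fin (k + 1)) : ↥(amb k F).H →* Fˣ :=
  (entryHom i.castSucc : ↥(torus (k + 2) F) →* Fˣ) / entryHom i.succ

theorem chi_diag (i : Fin (k + 1)) (d : Fin (k + 2) → Fˣ) (hg : diagGL d ∈ (amb k F).H) :
    chi i ⟨diagGL d, hg⟩ = d i.castSucc / d i.succ := by
  show entryHom i.castSucc (⟨diagGL d, hg⟩ : ↥(torus (k + 2) F)) / entryHom i.succ ⟨diagGL d, hg⟩ = _
  exact congrArg₂ (· / ·) (entryHom_diag d _ _) (entryHom_diag d _ _)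

variable (k F) in
/-- The fundamental rank one subgroups. -/
noncomputable def pinned : Pinned (amb k F) Fin.revPerm F (Fin (k + 1)) where
  H_comm := torus_comm
  s i := Equiv.swap i.castSucc i.succ
  s_mem i := ⟨i.castSucc, i.succ, by simp, rfl⟩
  s_surj := by
    rintro _ ⟨a, b, hab, rfl⟩
    refine ⟨⟨a, by omega⟩, ?_⟩
    rw [show (⟨(a : ℕ), (by omega : (a : ℕ) < k + 1)⟩ : Fin (k + 1)).castSucc = a from Fin.ext rfl,
      show (⟨(a : ℕ), (by omega : (a : ℕ) < k + 1)⟩ : Fin (k + 1)).succ = b from Fin.ext (by simp [hab])]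
  φ i := embGL (pe i)
  up i t := by
    rw [embGL_up, amb_Uw]
    refine xGL_mem_outPart (show pe i 0 < pe i 1 from Fin.castSucc_lt_succ) t ?_
    simp [pe_zero, pe_one, Fin.castSucc_lt_succ]
  up_surj i x hx := by
    rw [amb_Uw] at hx
    refine ⟨(x : Matrix (Fin (k + 2)) (Fin (k + 2)) F) i.castSucc i.succ, ?_⟩
    rw [embGL_up]
    refine Units.ext (Matrix.ext fun a b => ?_)
    rw [xGL_apply, pe_zero, pe_one]
    rcases lt_trichotomy a b with h | h | h
    · rw [if_neg h.ne, zero_add]
      split_ifs with h'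
      · rw [h'.1, h'.2]
      · refine (outPart_support hx ?_).symm
        simp only [Equiv.swap_apply_def, Fin.lt_def, Fin.ext_iff, Fin.val_castSucc, Fin.val_succ] at h h' ⊢
        have hs := Fin.val_castSucc i
        have hs' := Fin.val_succ i
        split_ifs <;> omega
    · subst h
      rw [if_pos rfl, if_neg (fun h' => Fin.castSucc_lt_succ.ne (h'.1.symm.trans h'.2)), add_zero,
        (mem_unitri.1 (mem_outPart.1 hx).1).2]
    · rw [if_neg h.ne', zero_add, if_neg (fun h' => absurd h (by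
        rw [h'.1, h'.2]; exact Fin.castSucc_lt_succ.asymm)), mem_upper.1 (mem_unitri.1 (mem_outPart.1 hx).1).1 a b h]
  up_inj i t h := by
    rw [embGL_up] at h
    by_contra ht
    exact xGL_ne_one _ ht h
  rep i := by
    obtain ⟨d, hd⟩ := embGL_w (F := F) (pe i)
    refine ⟨(diagGL d)⁻¹, inv_mem (diag_mem_torus d), ?_⟩
    rw [hd, amb_n, pe_zero, pe_one, inv_mul_cancel_left]
  lo_opp i t := by
    have hne : (pe i 1).rev ≠ (pe i 0).rev := Fin.rev_injective.ne ((pe i).injective.ne (by decide))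
    have h1 : ((amb k F).n Fin.revPerm)⁻¹ * embGL (pe i) (loSL t) * (amb k F).n Fin.revPerm = xGL hne t := by
      rw [amb_n]
      refine Units.ext (Matrix.ext fun a b => ?_)
      rw [perm_conj_apply, embGL_lo, xGL_apply, xGL_apply]
      simp only [Fin.revPerm_apply, Fin.rev_eq_iff, Fin.rev_rev]
    rw [h1, amb_Uw, swap_apply_rev]
    refine xGL_mem_outPart (Fin.rev_lt_rev.2 (show pe i 0 < pe i 1 from Fin.castSucc_lt_succ)) t ?_
    simp [pe_zero, pe_one, Fin.castSucc_lt_succ]
  di_mem i l := by rw [embGL_pe_di]; exact diag_mem_torus _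
  χ i := chi i
  conj i := by
    rintro ⟨g, hg⟩ a
    obtain ⟨d, rfl⟩ := exists_of_mem_torus hg
    refine diag_conj_embGL (pe i) d a _ fun x y => ?_
    rw [chi_diag]
    fin_cases x <;> fin_cases y <;> simp [scaleSL, pe_zero, pe_one, div_eq_mul_inv] <;> field_simp
  C i j := vec (j : ℕ) (i : ℕ) - vec (j : ℕ) ((i : ℕ) + 1)
  pair i j l := by
    have h : ∀ (g : GL (Fin (k + 2)) F) (hg : g ∈ (amb k F).H), g = diagGL (adjVec (j : ℕ) l) →
        chi i ⟨g, hg⟩ = l ^ (vec (j : ℕ) (i : ℕ) - vec (j : ℕ) ((i : ℕ) + 1)) := by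
      intro g hg e
      subst e
      rw [chi_diag, adjVec_zpow, adjVec_zpow, _root_.zpow_sub, div_eq_mul_inv, Fin.val_castSucc,
        Fin.val_succ]
    exact h _ _ (embGL_pe_di j l)
  diag i := by simp [vec]
  col j := by
    have h : ∀ i ∈ Finset.univ.erase j, (vec (j : ℕ) (i : ℕ) - vec (j : ℕ) ((i : ℕ) + 1)).natAbs =
        (if (i : ℕ) + 1 = (j : ℕ) then 1 else 0) + (if (i : ℕ) = (j : ℕ) + 1 then 1 else 0) := by
      intro i hi
      have hne : (i : ℕ) ≠ j := fun e => (Finset.mem_erase.1 hi).1 (Fin.ext e)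
      simp only [vec]
      split_ifs <;> first | omega | rfl
    rw [Finset.sum_congr rfl h, Finset.sum_add_distrib, Finset.sum_boole, Finset.sum_boole]
    have h1 : ((Finset.univ.erase j).filter fun i : Fin (k + 1) => (i : ℕ) + 1 = (j : ℕ)).card ≤ 1 :=
      Finset.card_le_one.2 fun a ha b hb => Fin.ext (by
        have := (Finset.mem_filter.1 ha).2; have := (Finset.mem_filter.1 hb).2; omega)
    have h2 : ((Finset.univ.erase j).filter fun i : Fin (k + 1) => (i : ℕ) = (j : ℕ) + 1).card ≤ 1 :=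
      Finset.card_le_one.2 fun a ha b hb => Fin.ext (by
        have := (Finset.mem_filter.1 ha).2; have := (Finset.mem_filter.1 hb).2; omega)
    simp only [Nat.cast_id]
    omega
  conn N hN hne := by
    by_contra hcon
    push Not at hcon
    obtain ⟨a, ha⟩ := hN
    refine hne (Finset.eq_univ_of_forall fun b => ?_)
    have hup : ∀ x : ℕ, ∀ hx : x + 1 < k + 1, (⟨x, by omega⟩ : Fin (k + 1)) ∈ N ↔ (⟨x + 1, hx⟩ : Fin (k + 1)) ∈ N := by
      intro x hx
      constructor
      · intro h
        by_contra h'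
        exact absurd (hcon _ h _ h') (by simp only [vec]; split_ifs <;> omega)
      · intro h
        by_contra h'
        exact absurd (hcon _ h _ h') (by simp only [vec]; split_ifs <;> omega)
    have hall : ∀ x : ℕ, ∀ hx : x < k + 1, (⟨x, hx⟩ : Fin (k + 1)) ∈ N ↔ (⟨0, by omega⟩ : Fin (k + 1)) ∈ N := by
      intro x
      induction x with
      | zero => intro hx; rfl
      | succ x ih => intro hx; rw [← hup x hx]; exact ih (by omega)
    exact (hall b b.isLt).2 ((hall a a.isLt).1 ha)

/-- The torus elements of determinant one are products of coroots. -/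
theorem diag_mem_H₀ (d : Fin (k + 2) → Fˣ) (hd : ∏ x, d x = 1) : diagGL d ∈ (pinned k F).H₀ :=
  mem_of_prod_one (S := (pinned k F).H₀.comap (diagHom (k + 2) F)) (N := Fin.last (k + 1))
    (fun i hi l => by
      show (diagGL (adjVec i l) : GL (Fin (k + 2)) F) ∈ (pinned k F).H₀
      rw [show i = ((⟨i, hi⟩ : Fin (k + 1)) : ℕ) from rfl, ← embGL_pe_di]
      exact (pinned k F).di_mem_H₀ ⟨i, hi⟩ l)
    d (fun x hx => absurd hx (not_lt.2 (Fin.le_last x))) hd

/-- The determinant one matrices. -/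
noncomputable abbrev SLN (k : ℕ) (F : Type*) [Field F] : Subgroup (GL (Fin (k + 2)) F) :=
  (Matrix.SpecialLinearGroup.toGL : SpecialLinearGroup (Fin (k + 2)) F →* GL (Fin (k + 2)) F).range

instance : (SLN k F).Normal := by
  rw [SLN, Cfsg.Agent.Linear.range_toGL]
  infer_instance

theorem gen : ∀ g ∈ (amb k F).H ⊓ (pinned k F).E, g ∈ (pinned k F).H₀ := by
  rintro g ⟨hg, hgE⟩
  obtain ⟨d, rfl⟩ := exists_of_mem_torus hg
  refine diag_mem_H₀ d ?_
  obtain ⟨M, hM⟩ := (pinned k F).E_le (SLN k F) unitriGL_le_range_toGL hgE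
  have h : Matrix.det (diagGL d : Matrix (Fin (k + 2)) (Fin (k + 2)) F) = 1 := by rw [← hM]; exact M.2
  rw [diagGL_coe, Matrix.det_diagonal] at h
  refine Units.ext ?_
  rw [Units.coe_prod, h, Units.val_one]

theorem amb_full : (amb k F).Uw Fin.revPerm = (amb k F).U := TwData.outPart_rev

/-- The middle block. -/
def ev : Fin k ↪ Fin (k + 2) :=
  ⟨fun a => a.succ.castSucc, fun a b h => Fin.succ_injective _ (Fin.castSucc_injective _ h)⟩

theorem ev_val (a : Fin k) : (ev a : ℕ) = a + 1 := rfl

theorem mem_range_ev {x : Fin (k + 2)} : x ∈ Set.range ev ↔ 0 < (x : ℕ) ∧ (x : ℕ) < k + 1 := by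
  constructor
  · rintro ⟨a, rfl⟩
    rw [ev_val]
    exact ⟨by omega, by omega⟩
  · rintro ⟨h1, h2⟩
    exact ⟨⟨(x : ℕ) - 1, by omega⟩, Fin.ext (by rw [ev_val]; show (x : ℕ) - 1 + 1 = x; omega)⟩

theorem ev_rev (a : Fin k) : (ev a).rev = ev a.rev := by
  refine Fin.ext ?_
  simp only [ev_val, Fin.val_rev]
  omega

/-- The levels. -/
def lev (x : Fin (k + 2)) : ℕ := if (x : ℕ) = 0 then 0 else if (x : ℕ) = k + 1 then 2 else 1

/-- The opposite levels. -/
def lev' (x : Fin (k + 2)) : ℕ := 2 - lev x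

/-- The semisimple element. -/
def hd (k : ℕ) (a : Fˣ) : Fin (k + 2) → Fˣ := farVec 0 (k + 1) a

theorem hd_lev (a : Fˣ) (x : Fin (k + 2)) :
    hd k a x = if lev x = 0 then a else if lev x = 1 then 1 else a⁻¹ := by
  simp only [hd, farVec, lev]
  by_cases h0 : (x : ℕ) = 0 <;> by_cases h1 : (x : ℕ) = k + 1 <;> simp [h0, h1] <;> omega

theorem hd_sep {a : Fˣ} (h1 : a ≠ 1) (h2 : a * a ≠ 1) (x y : Fin (k + 2)) (h : lev x ≠ lev y) :
    hd k a x ≠ hd k a y := by
  have h3 : a ≠ a⁻¹ := fun e => h2 (by nth_rewrite 2 [e]; exact mul_inv_cancel a)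
  have h4 : (1 : Fˣ) ≠ a⁻¹ := fun e => h1 (inv_eq_one.1 e.symm)
  rw [hd_lev, hd_lev]
  have hx : lev x ≤ 2 := by simp only [lev]; split_ifs <;> omega
  have hy : lev y ≤ 2 := by simp only [lev]; split_ifs <;> omega
  rcases (show lev x = 0 ∨ lev x = 1 ∨ lev x = 2 by omega) with e | e | e <;>
    rcases (show lev y = 0 ∨ lev y = 1 ∨ lev y = 2 by omega) with e' | e' | e' <;>
    first
      | exact absurd (e.trans e'.symm) h
      | (rw [e, e']; simp [h1, h3, h4, h1.symm, h3.symm, h4.symm])

theorem ev_lev (a : Fin k) : lev (ev a) = 1 := by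
  have := a.isLt
  rw [lev, if_neg (by rw [ev_val]; omega), if_neg (by rw [ev_val]; omega)]

theorem hd_ev (a : Fˣ) (b : Fin k) : hd k a (ev b) = 1 := by
  rw [hd_lev, ev_lev]; simp

/-- Both unitriangular groups decompose along the middle block. -/
theorem exists_mid {g : GL (Fin (k + 2)) F}
    (hg : (∀ i j : Fin (k + 2), j < i → (g : Matrix (Fin (k + 2)) (Fin (k + 2)) F) i j = 0) ∨
      (∀ i j : Fin (k + 2), i < j → (g : Matrix (Fin (k + 2)) (Fin (k + 2)) F) i j = 0))
    (h1 : ∀ i, (g : Matrix (Fin (k + 2)) (Fin (k + 2)) F) i i = 1) :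
    ∃ L : SpecialLinearGroup (Fin k) F,
      (∀ a b, (L : Matrix (Fin k) (Fin k) F) a b = (g : Matrix (Fin (k + 2)) (Fin (k + 2)) F) (ev a) (ev b)) ∧
      ∀ i j, lev i = lev j → (g : Matrix (Fin (k + 2)) (Fin (k + 2)) F) i j =
        (embGL ev L : Matrix (Fin (k + 2)) (Fin (k + 2)) F) i j := by
  have hdet : ((g : Matrix (Fin (k + 2)) (Fin (k + 2)) F).submatrix ev ev).det = 1 := by
    rcases hg with hg | hg
    · rw [Matrix.det_of_isUpperTriangular]
      · exact Finset.prod_eq_one fun a _ => h1 _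
      · intro a b hab
        exact hg _ _ (Fin.lt_def.2 (by
          have : (b : ℕ) < a := hab
          simp only [ev_val]
          omega))
    · rw [Matrix.det_of_lowerTriangular]
      · exact Finset.prod_eq_one fun a _ => h1 _
      · intro a b hab
        exact hg _ _ (Fin.lt_def.2 (by
          have : (a : ℕ) < b := hab
          simp only [ev_val]
          omega))
  let L : SpecialLinearGroup (Fin k) F := ⟨_, hdet⟩
  refine ⟨L, fun a b => rfl, fun i j hij => ?_⟩
  by_cases hi : i ∈ Set.range ev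
  · have hj : j ∈ Set.range ev := by
      obtain ⟨a, rfl⟩ := hi
      rw [mem_range_ev]
      rw [ev_lev] at hij
      simp only [lev] at hij
      have := j.isLt
      split_ifs at hij <;> omega
    obtain ⟨a, rfl⟩ := hi
    obtain ⟨b, rfl⟩ := hj
    exact (embGL_apply ev L a b).symm
  · have hij' : i = j := by
      rw [mem_range_ev] at hi
      simp only [lev] at hij
      have := i.isLt
      have := j.isLt
      split_ifs at hij <;> first | (exact Fin.ext (by omega)) | omega
    subst hij'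
    rw [h1, embGL_left ev L hi, Matrix.one_apply_eq]

/-- The coordinate blocks lie in the group generated by `U` and the rank one subgroups. -/
theorem embGL_mem_E {l : ℕ} (e : Fin l ↪ Fin (k + 2)) (X : SpecialLinearGroup (Fin l) F) :
    embGL e X ∈ (pinned k F).E := by
  induction X using Cfsg.Agent.Linear.transvection_induction with
  | one => rw [map_one]; exact one_mem _
  | htr i j hij t =>
    rw [embGL_transvection]
    rcases lt_or_gt_of_ne (e.injective.ne hij) with h | h
    · exact (pinned k F).U_le (xGL_mem_unitri h t)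
    · have hx : permGL F Fin.revPerm * xGL (Fin.rev_injective.ne (e.injective.ne hij)) t *
          (permGL F Fin.revPerm)⁻¹ = xGL (e.injective.ne hij) t :=
        mul_inv_eq_iff_eq_mul.2 (xGL_mul_perm Fin.revPerm (e.injective.ne hij) t).symm
      rw [← hx]
      exact (pinned k F).E_normal.conj_mem _
        ((pinned k F).U_le (xGL_mem_unitri (Fin.rev_lt_rev.2 h) t)) _
  | hmul u v hu hv => rw [map_mul]; exact mul_mem hu hv

/-- The Levi data. -/
noncomputable def levi (p : ℕ) [Fact p.Prime] [CharP F p] (hA : Hyp (amb k F) p) {a : Fˣ} (h1 : a ≠ 1)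
    (h2 : a * a ≠ 1) :
    Levi ((pinned k F).frame hA amb_full gen) Unit (fun _ => k) where
  h := diagGL (hd k a)
  h_mem := by
    refine ⟨diag_mem_torus _, ((pinned k F).H₀_le (diag_mem_H₀ _ ?_)).2⟩
    simp only [hd, farVec, Finset.prod_mul_distrib]
    rw [Finset.prod_eq_single (0 : Fin (k + 2)), Finset.prod_eq_single (Fin.last (k + 1))]
    · simp
    · intro b _ hb
      simp only [ne_eq, Fin.ext_iff, Fin.val_last] at hb
      rw [if_neg hb]
    · simp
    · intro b _ hb
      simp only [ne_eq, Fin.ext_iff, Fin.val_zero] at hb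
      rw [if_neg hb]
    · simp
  ψ := (embGL ev).comp (Pi.evalMonoidHom (fun _ : Unit => SpecialLinearGroup (Fin k) F) ())
  ψ_mem M := embGL_mem_E ev (M ())
  comm M := diag_commute_embGL ev _ (fun b c => by rw [hd_ev, hd_ev]) _
  Q := blockUni lev
  V := blockUni lev'
  nQ M q hq := conj_uni (hd_sep h1 h2) (diag_commute_embGL ev _ (fun b c => by rw [hd_ev, hd_ev]) _) hq
  hQ q hq := conj_uni (hd_sep h1 h2) (Commute.refl _) hq
  fQ q hq h := eq_one_of_fixed (hd_sep h1 h2) hq h
  nV M q hq := conj_uni (fun x y h => hd_sep h1 h2 x y (fun e => h (by simp [lev', e])))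
    (diag_commute_embGL ev _ (fun b c => by rw [hd_ev, hd_ev]) _) hq
  hV q hq := conj_uni (fun x y h => hd_sep h1 h2 x y (fun e => h (by simp [lev', e]))) (Commute.refl _) hq
  fV q hq h := eq_one_of_fixed (fun x y h => hd_sep h1 h2 x y (fun e => h (by simp [lev', e]))) hq h
  decU x hx := by
    have hu := mem_upper.1 (mem_unitri.1 hx).1
    obtain ⟨L, hL, hblk⟩ := exists_mid (Or.inl hu) (mem_unitri.1 hx).2
    refine ⟨fun _ => L, fun _ a b hab => ?_, (embGL ev L)⁻¹ * x, ?_, ?_⟩
    · show (L : Matrix (Fin k) (Fin k) F) a b = _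
      rw [hL]
      rcases eq_or_ne a b with rfl | hne
      · rw [if_pos rfl, (mem_unitri.1 hx).2]
      · rw [if_neg hne, hu _ _ (Fin.lt_def.2 (by
          have : (b : ℕ) ≤ a := hab
          have : (a : ℕ) ≠ b := fun e => hne (Fin.ext e)
          simp only [ev_val]; omega))]
    · refine (uni_of_blocks (hd_sep h1 h2) (diag_commute_embGL ev _ (fun b c => by rw [hd_ev, hd_ev]) _) ?_ hblk).1
      intro i j h
      refine hu i j (Fin.lt_def.2 ?_)
      simp only [lev] at h
      have := i.isLt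
      split_ifs at h <;> omega
    · show x = embGL ev L * ((embGL ev L)⁻¹ * x)
      group
  decV x hx := by
    set g := (amb k F).n Fin.revPerm * x * ((amb k F).n Fin.revPerm)⁻¹ with hg
    have hent : ∀ i j, (g : Matrix (Fin (k + 2)) (Fin (k + 2)) F) i j =
        (x : Matrix (Fin (k + 2)) (Fin (k + 2)) F) i.rev j.rev := by
      intro i j
      rw [hg, amb_n, show permGL F (Fin.revPerm : Equiv.Perm (Fin (k + 2))) * x * (permGL F Fin.revPerm)⁻¹ =
        (permGL F Fin.revPerm)⁻¹ * x * permGL F Fin.revPerm by rw [perm_rev_inv], perm_conj_apply]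
      rfl
    have hlow : ∀ i j : Fin (k + 2), i < j → (g : Matrix (Fin (k + 2)) (Fin (k + 2)) F) i j = 0 := fun i j h => by
      rw [hent]; exact mem_upper.1 (mem_unitri.1 hx).1 _ _ (Fin.rev_lt_rev.2 h)
    have hdiag : ∀ i, (g : Matrix (Fin (k + 2)) (Fin (k + 2)) F) i i = 1 := fun i => by
      rw [hent]; exact (mem_unitri.1 hx).2 _
    obtain ⟨L, hL, hblk⟩ := exists_mid (Or.inr hlow) hdiag
    refine ⟨fun _ => L, fun _ a b hab => ?_, g * (embGL ev L)⁻¹, ?_, ?_⟩
    · show (L : Matrix (Fin k) (Fin k) F) a b = _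
      rw [hL]
      rcases eq_or_ne a b with rfl | hne
      · rw [if_pos rfl, hdiag]
      · rw [if_neg hne, hlow _ _ (Fin.lt_def.2 (by
          have : (a : ℕ) ≤ b := hab
          have : (a : ℕ) ≠ b := fun e => hne (Fin.ext e)
          simp only [ev_val]; omega))]
    · refine (uni_of_blocks (fun x y h => hd_sep h1 h2 x y (fun e => h (by simp [lev', e])))
        (diag_commute_embGL ev _ (fun b c => by rw [hd_ev, hd_ev]) _) ?_
        (fun i j h => hblk i j ?_)).2
      · intro i j h
        refine hlow i j (Fin.lt_def.2 ?_)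
        simp only [lev', lev] at h
        have := j.isLt
        split_ifs at h <;> omega
      · simp only [lev', lev] at h ⊢
        split_ifs at h ⊢ <;> omega
    · show g = g * (embGL ev L)⁻¹ * embGL ev L
      group
  conjJ X hX := by
    rcases Nat.eq_zero_or_pos k with hk | hk
    · subst hk
      have hJ : (fun _ : Unit => jordanSL F 0) = X :=
        funext fun b => Subtype.ext (Matrix.ext fun i => i.elim0)
      exact ⟨1, one_mem _, by group, by rw [hJ]; group⟩
    obtain ⟨δ, P, hP⟩ := exists_jordan_conj ⟨0, hk⟩ (hX ())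
    set t : Fin (k + 2) → Fˣ := farVec 1 0 δ with ht
    have htm : diagGL t ∈ (pinned k F).H₀ := by
      refine diag_mem_H₀ _ ?_
      simp only [t, farVec, Finset.prod_mul_distrib]
      rw [Finset.prod_eq_single (1 : Fin (k + 2)), Finset.prod_eq_single (0 : Fin (k + 2))]
      · simp
      · intro b _ hb
        simp only [ne_eq, Fin.ext_iff, Fin.val_zero] at hb
        rw [if_neg hb]
      · simp
      · intro b _ hb
        simp only [ne_eq, Fin.ext_iff, Fin.val_one] at hb
        rw [if_neg hb]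
      · simp
    refine ⟨embGL ev P * diagGL t, ?_, ?_, ?_⟩
    · exact mul_mem (embGL_mem_E ev P) ((pinned k F).H₀_le htm).2
    · have hc := diag_commute_embGL ev (hd k a) (fun b c => by rw [hd_ev, hd_ev]) P
      exact mul_inv_eq_iff_eq_mul.2 ((hc.mul_right (diag_comm (hd k a) t)).eq.symm)
    · show embGL ev P * diagGL t * embGL ev (jordanSL F k) * (embGL ev P * diagGL t)⁻¹ = embGL ev (X ())
      rw [show embGL ev P * diagGL t * embGL ev (jordanSL F k) * (embGL ev P * diagGL t)⁻¹ =
        embGL ev P * (diagGL t * embGL ev (jordanSL F k) * (diagGL t)⁻¹) * (embGL ev P)⁻¹ by group,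
        diag_conj_embGL ev t (jordanSL F k) (dconjSL (Function.update 1 ⟨0, hk⟩ δ) (jordanSL F k)),
        ← map_inv, ← map_mul, ← map_mul, hP]
      intro b c
      rw [dconjSL_apply]
      have e : ∀ b : Fin k, t (ev b) = Function.update (1 : Fin k → Fˣ) ⟨0, hk⟩ δ b := fun b => by
        simp only [t, farVec, ev_val, Function.update_apply, Pi.one_apply, Fin.ext_iff]
        split_ifs <;> first | omega | simp
      rw [e, e]
  conjH g hg X hX := by
    obtain ⟨d, rfl⟩ := exists_of_mem_torus hg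
    exact ⟨fun b => dconjSL (fun c => d (ev c)) (X b), fun b => isJordan_dconj _ (hX b),
      diag_conj_embGL ev d (X ()) _ (fun b c => dconjSL_apply _ _ b c)⟩
  real := by
    obtain ⟨g, hg, x, hx, e⟩ := (pinned k F).exists_H_mul_E ((amb k F).n Fin.revPerm)
    refine ⟨(amb k F).n Fin.revPerm, g⁻¹, inv_mem hg, ?_, ?_, fun _ => permSL Fin.revPerm.symm (jordanSL F k),
      fun _ => isJordan_perm _ isJordan_jordanSL, ?_⟩
    · rw [e, inv_mul_cancel_left]; exact hx
    · rw [amb_n, perm_conj_diag, diagGL_inv]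
      congr 1
      funext y
      show hd k a ((Fin.revPerm : Equiv.Perm (Fin (k + 2)))⁻¹ y) = (hd k a y)⁻¹
      rw [Equiv.Perm.inv_def, show (Fin.revPerm : Equiv.Perm (Fin (k + 2))).symm y = y.rev from rfl]
      simp only [hd, farVec, Fin.val_rev]
      have := y.isLt
      split_ifs <;> first | omega | simp
    · show (amb k F).n Fin.revPerm * embGL ev (jordanSL F k) * ((amb k F).n Fin.revPerm)⁻¹ = _
      rw [amb_n, perm_conj_embGL, show (ev.trans (Fin.revPerm : Equiv.Perm (Fin (k + 2))).toEmbedding) =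
        ((Fin.revPerm : Equiv.Perm (Fin k)).toEmbedding.trans ev) from
          Function.Embedding.ext fun b => ev_rev b, embGL_trans_perm]
      rfl

/-- Special linear groups modulo the centre are squares of a class. -/
theorem psl_cover {F : Type*} [Field F] [Fintype F] (hF : 9 ≤ Fintype.card F) {n : ℕ} (hn : 2 ≤ n) :
    ∃ c : Matrix.ProjectiveSpecialLinearGroup (Fin n) F, ∀ g : Matrix.ProjectiveSpecialLinearGroup (Fin n) F,
      ∃ x y, g = (x * c * x⁻¹) * (y * c * y⁻¹) := by
  classical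
  obtain ⟨k, rfl⟩ : ∃ k, n = k + 2 := ⟨n - 2, by omega⟩
  obtain ⟨p, hp⟩ := CharP.exists F
  haveI : Fact p.Prime := ⟨CharP.char_is_prime F p⟩
  have hA : Hyp (amb k F) p := gl_hyp p (by omega) _ rfl
  obtain ⟨a, ha⟩ := IsCyclic.exists_ofOrder_eq_natCard (α := Fˣ)
  rw [Nat.card_eq_fintype_card, Fintype.card_units] at ha
  have h1 : a ≠ 1 := fun e => by rw [e, orderOf_one] at ha; omega
  have h2 : a * a ≠ 1 := fun e => by
    have h := Nat.le_of_dvd (by norm_num : 0 < 2)
      (orderOf_dvd_of_pow_eq_one (x := a) (n := 2) (by rw [pow_two, e]))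
    omega
  haveI : IsSimpleGroup (Matrix.ProjectiveSpecialLinearGroup (Fin (k + 2)) F) :=
    Cfsg.Agent.Linear.isSimpleGroup_PSL_fin (by omega) fun _ => by rw [Nat.card_eq_fintype_card]; omega
  let e := MonoidHom.ofInjective (Cfsg.Agent.Linear.toGL_injective (ι := Fin (k + 2)) (F := F))
  refine cover_of_pinned hA amb_full (pinned k F) gen (levi p hA h1 h2)
    (by rw [Nat.card_eq_fintype_card]; omega) (SLN k F) unitriGL_le_range_toGL
    ((QuotientGroup.mk' (Subgroup.center _)).comp e.symm.toMonoidHom)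
    ((QuotientGroup.mk'_surjective _).comp e.symm.surjective) ?_
  intro x hx
  rw [MonoidHom.mem_ker, MonoidHom.comp_apply, QuotientGroup.mk'_apply, QuotientGroup.eq_one_iff] at hx
  refine Subgroup.mem_center_iff.2 fun y => ?_
  have h := congrArg e (Subgroup.mem_center_iff.1 hx (e.symm y))
  simpa using h

end Cfsg.Agent.H14.ThompsonSplit.PSLCase
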