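import Cfsg.Agent.H14.ThompsonSplit.TwCommon
import Cfsg.Agent.H83.Classical.Symplectic
import Cfsg.Agent.S0270

/-!
The projective symplectic groups are squares of conjugacy classes.
-/

set_option autoImplicit false
set_option linter.unusedSectionVars false

namespace Cfsg.Agent.H14.ThompsonSplit.PSpCase

open Matrix Cfsg.Agent.Linear Cfsg.Agent.H54 Cfsg.Agent.H52.TwistedBruhat Cfsg.Agent.H83.Classical
open Cfsg.Agent.H13.Split
open Cfsg.Agent.H37 (Tits.Ambient)
open scoped MatrixGroups

variable {m : ℕ} {F : Type*} [Field F] [Finite F]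

variable (m F) in
/-- The twist data of the symplectic group. -/
noncomputable abbrev T : TwData (m + m) F := Symp.data m F

theorem hσ : (T m F).σ = RingHom.id F := rfl

theorem e_rev (i : Fin (m + m)) : (T m F).e i.rev = (-1) * (T m F).e i := by
  show Symp.eSign m F i.rev = _
  rw [Symp.eSign_rev, neg_one_mul]
  rfl

/-- The left end of a node. -/
def pa (i : Fin m) : Fin (m + m) := ⟨i, by omega⟩

/-- The right end of a node. -/
def pb (i : Fin m) : Fin (m + m) := ⟨(i : ℕ) + 1, by omega⟩

theorem pa_lt_pb (i : Fin m) : pa i < pb i := Fin.lt_def.2 (by show (i : ℕ) < (i : ℕ) + 1; omega)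

theorem isPair {i : Fin m} (h : (i : ℕ) + 1 < m) : IsPair (pa i) (pb i) :=
  ⟨rfl, by show (i : ℕ) + 1 + ((i : ℕ) + 1) + 1 < m + m; omega⟩

theorem last_rev {i : Fin m} (h : ¬ (i : ℕ) + 1 < m) : pb i = (pa i).rev := by
  refine Fin.ext ?_
  rw [Fin.val_rev]
  show (i : ℕ) + 1 = m + m - ((i : ℕ) + 1)
  omega

theorem mid_fixed {i : Fin m} (h : ¬ (i : ℕ) + 1 < m) (A : SpecialLinearGroup (Fin 2) F) :
    tau (T m F).e (embGL (pair2 (pa i) (pb i) (pa_lt_pb i).ne) A) =
      embGL (pair2 (pa i) (pb i) (pa_lt_pb i).ne) A := by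
  have hr := last_rev h
  have hre : revEmb (pair2 (pa i) (pb i) (pa_lt_pb i).ne) =
      (Equiv.swap (0 : Fin 2) 1).toEmbedding.trans (pair2 (pa i) (pb i) (pa_lt_pb i).ne) := by
    refine Function.Embedding.ext fun x => ?_
    rw [revEmb_apply]
    fin_cases x
    · show (pa i).rev = pb i
      exact hr.symm
    · show (pb i).rev = pa i
      rw [hr, Fin.rev_rev]
  have hea : (T m F).e (pa i) = -1 := by
    show Symp.eSign m F (pa i) = -1
    exact if_pos (show (i : ℕ) < m from i.isLt)
  have heb : (T m F).e (pb i) = 1 := by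
    show Symp.eSign m F (pb i) = 1
    exact if_neg (show ¬ (i : ℕ) + 1 < m from h)
  rw [tau_embGL, hre, embGL_trans_perm]
  refine congrArg _ (Subtype.ext (Matrix.ext fun a b => ?_))
  show (twSL (fun a => (T m F).e ((pair2 (pa i) (pb i) (pa_lt_pb i).ne) a).rev) A : Matrix (Fin 2) (Fin 2) F)
    ((Equiv.swap (0 : Fin 2) 1).symm a) ((Equiv.swap (0 : Fin 2) 1).symm b) = _
  rw [twSL_apply, Matrix.SpecialLinearGroup.coe_inv, Matrix.adjugate_fin_two]
  have e0 : (pa i).rev = pb i := hr.symm
  have e1 : (pb i).rev = pa i := by rw [hr, Fin.rev_rev]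
  fin_cases a <;> fin_cases b <;> simp [pair2_zero, pair2_one, e0, e1, hea, heb]

/-- The rank one subgroups. -/
noncomputable def node (i : Fin m) : SpecialLinearGroup (Fin 2) F →* ↥(T m F).Grp :=
  if h : (i : ℕ) + 1 < m then
    twHom (T m F) hσ (pairHom (T m F).e (isPair h)) (pair_fixed _ (isPair h) e_rev)
  else twHom (T m F) hσ (embGL (pair2 (pa i) (pb i) (pa_lt_pb i).ne)) (mid_fixed h)

/-- The fundamental reflections. -/
def refl (i : Fin m) : ↥(TwData.symPerm (m + m)) :=
  if h : (i : ℕ) + 1 < m then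
    ⟨pairPerm (pa i) (pb i),
      TwData.SGen.mem ⟨pa i, pb i, rfl, Or.inr (Or.inr ⟨(isPair h).lt_rev, rfl⟩)⟩⟩
  else ⟨Equiv.swap (pa i) (pb i), TwData.SGen.mem ⟨pa i, pb i, rfl, Or.inl ⟨last_rev h, rfl⟩⟩⟩

theorem node_pair {i : Fin m} (h : (i : ℕ) + 1 < m) (A : SpecialLinearGroup (Fin 2) F) :
    (node i A : GL (Fin (m + m)) F) = pairHom (T m F).e (isPair h) A := by
  rw [node, dif_pos h]; rfl

theorem node_mid {i : Fin m} (h : ¬ (i : ℕ) + 1 < m) (A : SpecialLinearGroup (Fin 2) F) :
    (node i A : GL (Fin (m + m)) F) = embGL (pair2 (pa i) (pb i) (pa_lt_pb i).ne) A := by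
  rw [node, dif_neg h]; rfl

theorem refl_pair {i : Fin m} (h : (i : ℕ) + 1 < m) :
    (refl i : Equiv.Perm (Fin (m + m))) = pairPerm (pa i) (pb i) := by
  rw [refl, dif_pos h]

theorem refl_mid {i : Fin m} (h : ¬ (i : ℕ) + 1 < m) :
    (refl i : Equiv.Perm (Fin (m + m))) = Equiv.swap (pa i) (pb i) := by
  rw [refl, dif_neg h]

theorem node_di (i : Fin m) (l : Fˣ) :
    (node i (diSL l) : GL (Fin (m + m)) F) = diagGL (halfVec m (adjVec (i : ℕ) l)) := by
  by_cases h : (i : ℕ) + 1 < m
  · rw [node_pair h, pair_di _ (isPair h) (show (pb i : ℕ) < m from h) (by omega)]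
    rfl
  · rw [node_mid h, embGL_diag]
    congr 1
    funext x
    have hx := Fin.val_rev x
    have := i.isLt
    simp only [pair2_zero, pair2_one, Fin.ext_iff, show (pa i : ℕ) = i from rfl, show (pb i : ℕ) = i + 1 from rfl]
    by_cases hlo : (x : ℕ) < m
    · rw [halfVec_low _ hlo]
      simp only [adjVec]
      all_goals (split_ifs <;> first | omega | simp)
    · rw [halfVec_high _ hlo (by omega)]
      simp only [adjVec]
      split_ifs <;> first | omega | simp

theorem half_zpow (j : Fin m) (l : Fˣ) (x : Fin (m + m)) :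
    (halfVec m (adjVec (j : ℕ) l) : Fin (m + m) → Fˣ) x = l ^ symExp m j x := by
  have hx := Fin.val_rev x
  have := x.isLt
  by_cases hlo : (x : ℕ) < m
  · rw [halfVec_low _ hlo]
    simp only [adjVec, symExp, if_pos hlo]
    split_ifs <;> simp
  · rw [halfVec_high _ hlo (by omega)]
    simp only [adjVec, symExp, if_neg hlo, if_pos (show (x : ℕ) < 2 * m by omega),
      show ((x.rev : Fin (m + m)) : ℕ) = 2 * m - 1 - (x : ℕ) by omega]
    split_ifs <;> simp

variable (m F) in
/-- The fundamental rank one subgroups. -/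
noncomputable def pinned : Pinned (T m F).system (revW (m + m)) F (Fin m) where
  H_comm := system_H_comm _
  s := refl
  s_mem i := by
    show TwData.SGen _
    by_cases h : (i : ℕ) + 1 < m
    · rw [refl_pair h]; exact ⟨pa i, pb i, rfl, Or.inr (Or.inr ⟨(isPair h).lt_rev, rfl⟩)⟩
    · rw [refl_mid h]; exact ⟨pa i, pb i, rfl, Or.inl ⟨last_rev h, rfl⟩⟩
  s_surj := by
    rintro ⟨r, hr⟩ ⟨a, b, hab, hc⟩
    have hb := b.isLt
    rcases hc with ⟨h, e⟩ | ⟨h, e⟩ | ⟨h, e⟩
    · have h' := congrArg Fin.val h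
      rw [Fin.val_rev] at h'
      refine ⟨⟨a, by omega⟩, Subtype.ext ?_⟩
      rw [refl_mid (show ¬ (a : ℕ) + 1 < m by omega)]
      refine Eq.trans ?_ e.symm
      congr 1
      exact Fin.ext hab.symm
    · have h' := congrArg Fin.val h
      rw [Fin.val_rev] at h'
      omega
    · rw [Fin.lt_def, Fin.val_rev] at h
      refine ⟨⟨a, by omega⟩, Subtype.ext ?_⟩
      rw [refl_pair (show (a : ℕ) + 1 < m by omega)]
      refine Eq.trans ?_ e.symm
      rw [show pa (⟨(a : ℕ), _⟩ : Fin m) = a from Fin.ext rfl, show pb (⟨(a : ℕ), _⟩ : Fin m) = b from Fin.ext hab.symm]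
      rfl
  φ := node
  up i t := by
    rw [mem_system_Uw]
    by_cases h : (i : ℕ) + 1 < m
    · rw [node_pair h, refl_pair h]; exact pair_up_mem _ (isPair h) t
    · rw [node_mid h, refl_mid h, embGL_up]
      refine xGL_mem_outPart (show _ < _ from pa_lt_pb i) t ?_
      simp [pair2_zero, pair2_one, pa_lt_pb i]
  up_surj i x hx := by
    rw [mem_system_Uw] at hx
    refine ⟨((x : GL (Fin (m + m)) F) : Matrix (Fin (m + m)) (Fin (m + m)) F) (pa i) (pb i), Subtype.ext ?_⟩
    by_cases h : (i : ℕ) + 1 < m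
    · rw [node_pair h]
      rw [refl_pair h] at hx
      exact pair_up_surj _ (isPair h) hx ((mem_Grp_iff _ hσ).1 x.2)
    · rw [node_mid h, embGL_up]
      rw [refl_mid h] at hx
      refine Units.ext (Matrix.ext fun a b => ?_)
      rw [xGL_apply, pair2_zero, pair2_one]
      rcases lt_trichotomy a b with hab | hab | hab
      · rw [if_neg hab.ne, zero_add]
        split_ifs with h'
        · rw [h'.1, h'.2]
        · refine (outPart_support hx ?_).symm
          have hpa : (pa i : ℕ) = i := rfl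
          have hpb : (pb i : ℕ) = i + 1 := rfl
          simp only [Equiv.swap_apply_def, Fin.lt_def, Fin.ext_iff] at hab h' ⊢
          split_ifs <;> omega
      · subst hab
        rw [if_pos rfl, if_neg (fun h' => (pa_lt_pb i).ne (h'.1.symm.trans h'.2)), add_zero,
          (mem_unitri.1 (mem_outPart.1 hx).1).2]
      · rw [if_neg hab.ne', zero_add, if_neg (fun h' => absurd hab (by
          rw [h'.1, h'.2]; exact (pa_lt_pb i).asymm)), mem_upper.1 (mem_unitri.1 (mem_outPart.1 hx).1).1 a b hab]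
  up_inj i t ht := by
    have ht' := congrArg Subtype.val ht
    by_cases h : (i : ℕ) + 1 < m
    · rw [node_pair h] at ht'
      exact pair_up_inj _ (isPair h) ht'
    · rw [node_mid h, embGL_up] at ht'
      by_contra hne
      exact xGL_ne_one _ hne ht'
  rep i := by
    by_cases h : (i : ℕ) + 1 < m
    · obtain ⟨d, hd⟩ := pair_w (T m F).e (isPair h)
      exact system_rep _ _ d (by rw [node_pair h, hd, refl_pair h])
    · obtain ⟨d, hd⟩ := embGL_w (F := F) (pair2 (pa i) (pb i) (pa_lt_pb i).ne)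
      exact system_rep _ _ d (by rw [node_mid h, hd, refl_mid h]; rfl)
  lo_opp i t := by
    rw [mem_system_Uw]
    show ((((T m F).system.n (revW (m + m)) : ↥(T m F).Grp) : GL (Fin (m + m)) F))⁻¹ *
      (node i (loSL t) : GL (Fin (m + m)) F) * ((T m F).system.n (revW (m + m)) : GL (Fin (m + m)) F) ∈ _
    rw [system_n_coe]
    have hr : (Fin.revPerm : Equiv.Perm (Fin (m + m)))⁻¹ = Fin.revPerm := Equiv.Perm.inv_def _
    show _ ∈ outPart (Fin.revPerm * (refl i : Equiv.Perm (Fin (m + m))) * Fin.revPerm)⁻¹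
    by_cases h : (i : ℕ) + 1 < m
    · rw [node_pair h, refl_pair h]
      have h2 := pair_lo_mem (T m F).e (isPair h) ((T m F).f Fin.revPerm) Fin.revPerm TwData.rev_mem_symPerm
        (by rw [hr]; exact Fin.rev_lt_rev.2 (pa_lt_pb i)) t
      rwa [hr] at h2
    · rw [node_mid h, refl_mid h, embGL_lo,
        show (Fin.revPerm : Equiv.Perm (Fin (m + m))) * Equiv.swap (pa i) (pb i) * Fin.revPerm =
          Equiv.swap (pa i) (pb i) by
            show revConj (Equiv.swap (pa i) (pb i)) = _
            rw [TwData.revConj_swap, last_rev h, Fin.rev_rev, Equiv.swap_comm]]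
      have e : ∃ y, (diagGL ((T m F).f Fin.revPerm) * permGL F Fin.revPerm)⁻¹ * xGL (pa_lt_pb i).ne' t *
          (diagGL ((T m F).f Fin.revPerm) * permGL F Fin.revPerm) = xGL (pa_lt_pb i).ne y := by
        refine ⟨(((T m F).f Fin.revPerm (pb i))⁻¹ : Fˣ) * t * ((T m F).f Fin.revPerm (pa i) : F),
          Units.ext (Matrix.ext fun x z => ?_)⟩
        set c := (T m F).f Fin.revPerm
        rw [show (diagGL c * permGL F Fin.revPerm)⁻¹ * xGL (pa_lt_pb i).ne' t * (diagGL c * permGL F Fin.revPerm) =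
          (permGL F Fin.revPerm)⁻¹ * ((diagGL c)⁻¹ * xGL (pa_lt_pb i).ne' t * ((diagGL c)⁻¹)⁻¹) *
            permGL F Fin.revPerm by group, perm_conj_apply, diagGL_inv c, diag_conj_apply, xGL_apply, xGL_apply]
        simp only [Fin.revPerm_apply, Fin.rev_inj]
        have hrb := last_rev h
        by_cases hxz : x = z
        · subst hxz
          rw [if_pos rfl, if_neg (fun e => (pa_lt_pb i).ne (e.2.symm.trans e.1)),
            if_neg (fun e => (pa_lt_pb i).ne (e.1.symm.trans e.2))]
          simp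
        · rw [if_neg hxz]
          by_cases hx' : x = pa i ∧ z = pb i
          · obtain ⟨rfl, rfl⟩ := hx'
            rw [if_pos ⟨hrb.symm, by rw [hrb, Fin.rev_rev]⟩, if_pos ⟨rfl, rfl⟩, ← hrb, hrb, Fin.rev_rev, ← hrb]
            simp
          · rw [if_neg hx', if_neg (fun e => hx' ⟨by rw [← Fin.rev_rev x, e.1, hrb, Fin.rev_rev],
              by rw [← Fin.rev_rev z, e.2, hrb]⟩)]
            simp
      obtain ⟨y, hy⟩ := e
      show (diagGL ((T m F).f Fin.revPerm) * permGL F Fin.revPerm)⁻¹ * xGL (pa_lt_pb i).ne' t *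
        (diagGL ((T m F).f Fin.revPerm) * permGL F Fin.revPerm) ∈ _
      rw [hy]
      refine xGL_mem_outPart (pa_lt_pb i) y ?_
      simp [pa_lt_pb i]
  di_mem i l := by rw [system_H_iff, node_di]; exact diag_mem_torus _
  χ i := twChi (T m F) (pa i) (pb i)
  conj i := by
    rintro ⟨g, hg⟩ A
    obtain ⟨d, hd⟩ := exists_of_mem_torus ((system_H_iff _ g).1 hg)
    rw [twChi_diag _ _ _ d g hg hd]
    refine Subtype.ext ?_
    show (g : GL (Fin (m + m)) F) * (node i A : GL (Fin (m + m)) F) * (g : GL (Fin (m + m)) F)⁻¹ = _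
    rw [hd]
    by_cases h : (i : ℕ) + 1 < m
    · rw [node_pair h, node_pair h]
      exact pair_conj _ (isPair h) (by rw [← hd]; exact (mem_Grp_iff _ hσ).1 g.2) A
    · rw [node_mid h, node_mid h]
      exact diag_conj_embGL _ d A _ fun a b => by
        fin_cases a <;> fin_cases b <;>
          simp [scaleSL, pair2_zero, pair2_one, div_eq_mul_inv] <;> field_simp
  C i j := symExp m j i - symExp m j ((i : ℕ) + 1)
  pair i j l := by
    rw [twChi_diag _ _ _ _ _ _ (node_di j l), half_zpow, half_zpow, _root_.zpow_sub, div_eq_mul_inv]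
    rfl
  diag i := by
    have := i.isLt
    simp only [symExp]
    split_ifs <;> omega
  col j := by
    refine col_of_bound (fun i j : Fin m => symExp m j i - symExp m j ((i : ℕ) + 1)) j (Finset.univ.erase j)
      (fun i => (if (i : ℕ) + 1 = j then 1 else 0) + (if (i : ℕ) = (j : ℕ) + 1 then 2 else 0))
      (fun i hi hT => absurd (Finset.mem_erase.2 ⟨hi, Finset.mem_univ i⟩) hT) (fun i hi => ?_) ?_
    · have hne : (i : ℕ) ≠ j := fun e => (Finset.mem_erase.1 hi).1 (Fin.ext e)
      have := i.isLt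
      have := j.isLt
      simp only [symExp]
      split_ifs <;> omega
    · rw [Finset.sum_add_distrib, ← Finset.sum_filter, ← Finset.sum_filter, Finset.sum_const,
        Finset.sum_const]
      have h1 : ((Finset.univ.erase j).filter fun i : Fin m => (i : ℕ) + 1 = (j : ℕ)).card ≤ 1 :=
        Finset.card_le_one.2 fun a ha b hb => Fin.ext (by
          have := (Finset.mem_filter.1 ha).2; have := (Finset.mem_filter.1 hb).2; omega)
      have h2 : ((Finset.univ.erase j).filter fun i : Fin m => (i : ℕ) = (j : ℕ) + 1).card ≤ 1 :=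
        Finset.card_le_one.2 fun a ha b hb => Fin.ext (by
          have := (Finset.mem_filter.1 ha).2; have := (Finset.mem_filter.1 hb).2; omega)
      simp only [smul_eq_mul]
      omega
  conn := conn_of_parent _ (fun i : Fin m => (i : ℕ))
    (fun i hi => ⟨⟨(i : ℕ) - 1, by omega⟩, show (i : ℕ) - 1 < i by omega, by
      have := i.isLt
      constructor <;> simp only [symExp] <;> split_ifs <;> omega⟩)
    (fun i i' h h' => Fin.ext (h.trans h'.symm))

/-- All symmetric diagonal matrices come from the coroots. -/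
theorem half_mem_H₀ (hm : 0 < m) (f : Fin m → Fˣ) : InTorus (pinned m F) (halfVec m f) := by
  refine ⟨halfVec_mem_Grp (T m F) hσ (by omega) f, ?_⟩
  let g : (Fin m → Fˣ) →* ↥(T m F).Grp :=
    ((diagHom (m + m) F).comp (halfVec m)).codRestrict _ (halfVec_mem_Grp (T m F) hσ (by omega))
  have hgen : ∀ i : Fin m, ∀ l : Fˣ, adjVec (i : ℕ) l ∈ (pinned m F).H₀.comap g := fun i l => by
    show g (adjVec (i : ℕ) l) ∈ (pinned m F).H₀
    rw [show g (adjVec (i : ℕ) l) = node i (diSL l) from Subtype.ext (node_di i l).symm]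
    exact (pinned m F).di_mem_H₀ i l
  refine mem_half_span (S := (pinned m F).H₀.comap g) ⟨m - 1, by omega⟩ (show m - 1 + 1 = m by omega)
    (fun i hi l => hgen ⟨i, by have : i < m - 1 := hi; omega⟩ l) f ?_
  have e : (Pi.mulSingle (⟨m - 1, by omega⟩ : Fin m) (∏ x, f x) : Fin m → Fˣ) = adjVec (m - 1) (∏ x, f x) := by
    funext x
    have := x.isLt
    simp only [Pi.mulSingle_apply, adjVec, Fin.ext_iff]
    split_ifs <;> first | omega | rfl
  rw [e]
  exact hgen ⟨m - 1, by omega⟩ _

theorem gen (hm : 0 < m) : ∀ g ∈ (T m F).system.H ⊓ (pinned m F).E, g ∈ (pinned m F).H₀ := by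
  rintro g ⟨hg, -⟩
  obtain ⟨d, hd⟩ := exists_of_mem_torus ((system_H_iff _ g).1 hg)
  have hsym := sym_of_fixed (T m F).e (by rw [← hd]; exact (mem_Grp_iff _ hσ).1 g.2)
  obtain ⟨hv, h⟩ := half_mem_H₀ (F := F) hm (fun i => d (pa i))
  have e : g = ⟨_, hv⟩ := by
    refine Subtype.ext ?_
    show (g : GL (Fin (m + m)) F) = _
    rw [hd]
    congr 1
    funext x
    have := x.isLt
    by_cases hlo : (x : ℕ) < m
    · rw [halfVec_low _ hlo]; rfl
    · rw [halfVec_high _ hlo (by rw [Fin.val_rev]; omega), show pa ⟨(x.rev : ℕ), _⟩ = x.rev from Fin.ext rfl,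
        hsym, inv_inv]
  rw [e]
  exact h

variable (m) in
/-- The levels. -/
def shape : LevShape (m + m) m where
  lv x := if (x : ℕ) < m then 0 else 1
  T := 1
  first x h := if_pos h
  last x h := if_neg (by rw [Fin.val_rev] at h; omega)
  inner x h h' := absurd (show (x.rev : ℕ) < m by rw [Fin.val_rev]; omega) h'
  T_pos := Nat.one_pos
  mono x y h := by
    have : (x : ℕ) ≤ y := h
    split_ifs <;> omega

theorem hk (m : ℕ) : 2 * m ≤ m + m := by omega

/-- The setup of the Levi subgroup. -/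
noncomputable def setup : TwSetup (T m F).system (revW (m + m)) (T m F).e (hk m) where
  c := -1
  hc := e_rev
  fixed g := (mem_Grp_iff _ hσ).1 g.2
  U_iff := system_U_iff _
  H_iff := system_H_iff _
  nd := (T m F).f Fin.revPerm
  π := Fin.revPerm
  n_eq := rfl
  mirror _ _ := rfl
  lower := system_lower _
  ψ_mem M := (mem_Grp_iff _ hσ).2 (dblGL_fixed _ _ e_rev M)

/-- The symplectic groups modulo the centre are squares of a class. -/
theorem psp_cover {F : Type*} [Field F] [Fintype F] (hF : 9 ≤ Fintype.card F) {m : ℕ} (hm : 2 ≤ m) :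
    ∃ c : Cfsg.PSp m F, ∀ g : Cfsg.PSp m F, ∃ x y, g = (x * c * x⁻¹) * (y * c * y⁻¹) := by
  classical
  obtain ⟨p, hp⟩ := CharP.exists F
  haveI : Fact p.Prime := ⟨CharP.char_is_prime F p⟩
  have hA : Hyp (T m F).system p := tw_hyp (T m F) p (by omega)
  obtain ⟨a, ha⟩ := IsCyclic.exists_ofOrder_eq_natCard (α := Fˣ)
  rw [Nat.card_eq_fintype_card, Fintype.card_units] at ha
  have h2 : a⁻¹ ≠ a := fun e => by
    have h := Nat.le_of_dvd (by norm_num : 0 < 2)
      (orderOf_dvd_of_pow_eq_one (x := a) (n := 2) (by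
        rw [pow_two]; nth_rewrite 1 [← e]; exact inv_mul_cancel a))
    omega
  haveI : IsSimpleGroup (Cfsg.PSp m F) := Cfsg.Agent.S0270.result m hm fun _ => by omega
  let e : ↥(Matrix.symplecticGroup (Fin m) F) ≃* ↥(T m F).Grp :=
    (MonoidHom.ofInjective (Symp.toGrp_injective m F)).trans (MulEquiv.subgroupCongr (Symp.range_toGrp m F))
  let e' : ↥(⊤ : Subgroup ↥(T m F).Grp) ≃* ↥(Matrix.symplecticGroup (Fin m) F) := Subgroup.topEquiv.trans e.symm
  let D := twLevi (S := shape m) hA (system_full _) (pinned m F) (gen (by omega)) setup (halfVec m fun _ => a)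
    (fun i j h => by
      have hi := Fin.val_rev i
      have hj := Fin.val_rev j
      have hval : ∀ x : Fin (m + m), (halfVec m (fun _ => a) : Fin (m + m) → Fˣ) x =
          if (shape m).lv x = 0 then a else a⁻¹ := fun x => by
        show _ = if (if (x : ℕ) < m then 0 else 1) = 0 then a else a⁻¹
        by_cases hlo : (x : ℕ) < m
        · rw [halfVec_low _ hlo]; simp [hlo]
        · rw [halfVec_high _ hlo (by rw [Fin.val_rev]; omega)]; simp [hlo]
      rw [hval, hval]
      have hi2 := (shape m).le_T i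
      have hj2 := (shape m).le_T j
      have hT : (shape m).T = 1 := rfl
      rcases Nat.eq_zero_or_pos ((shape m).lv i) with h0 | h0 <;>
        rcases Nat.eq_zero_or_pos ((shape m).lv j) with h0' | h0'
      · omega
      · rw [if_pos h0, if_neg (by omega)]; exact h2.symm
      · rw [if_neg (by omega), if_pos h0']; exact h2
      · omega)
    (fun i j hi hj => by rw [halfVec_low _ hi, halfVec_low _ hj])
    (half_mem_H₀ (by omega) _)
    (fun x => by
      show (halfVec m (fun _ => a) : Fin (m + m) → Fˣ) ((Fin.revPerm : Equiv.Perm (Fin (m + m)))⁻¹ x) = _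
      rw [Equiv.Perm.inv_def]
      exact halfVec_sym (by omega) _ x)
    (fun δ => ⟨halfVec m (fun x => if (x : ℕ) = 0 then δ else 1), half_mem_H₀ (by omega) _,
      fun x hx => by rw [halfVec_low _ hx]⟩)
    (fun g _ i j h1 h2' => absurd (show (i.rev : ℕ) < m by rw [Fin.val_rev]; omega) h2')
  refine cover_of_pinned hA (system_full _) (pinned m F) (gen (by omega)) D
    (by rw [Nat.card_eq_fintype_card]; omega) ⊤ le_top
    ((QuotientGroup.mk' (Subgroup.center _)).comp e'.toMonoidHom)
    ((QuotientGroup.mk'_surjective _).comp e'.surjective) ?_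
  intro x hx
  rw [MonoidHom.mem_ker, MonoidHom.comp_apply, QuotientGroup.mk'_apply, QuotientGroup.eq_one_iff] at hx
  refine Subgroup.mem_center_iff.2 fun y => e'.injective ?_
  rw [map_mul, map_mul]
  exact Subgroup.mem_center_iff.1 hx (e' y)

end Cfsg.Agent.H14.ThompsonSplit.PSpCase
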