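import Cfsg.Agent.H14.ThompsonSplit.Dbl

/-!
The rank one subgroups of the folded pairs of adjacent coordinates, symmetric diagonal matrices, and
the bounds on path shaped Cartan data.
-/

set_option autoImplicit false
set_option linter.unusedSectionVars false

namespace Cfsg.Agent.H14.ThompsonSplit

open Matrix Cfsg.Agent.Linear Cfsg.Agent.H54 Cfsg.Agent.H52.TwistedBruhat Cfsg.Agent.H83.Classical
open scoped MatrixGroups

variable {n k : ℕ} {F : Type*} [Field F] (ef : Fin n → Fˣ)

/-- Two coordinates. -/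
def pair2 (a b : Fin n) (h : a ≠ b) : Fin 2 ↪ Fin n :=
  ⟨![a, b], fun x y hxy => by
    fin_cases x <;> fin_cases y <;> simp_all [eq_comm]⟩

theorem pair2_zero {a b : Fin n} (h : a ≠ b) : pair2 a b h 0 = a := rfl
theorem pair2_one {a b : Fin n} (h : a ≠ b) : pair2 a b h 1 = b := rfl

/-- Adjacent coordinates in the first half. -/
structure IsPair (i j : Fin n) : Prop where
  adj : (j : ℕ) = i + 1
  low : (j : ℕ) + j + 1 < n

namespace IsPair

variable {i j : Fin n} (hp : IsPair i j)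
include hp

theorem lt : i < j := by rw [Fin.lt_def]; have := hp.adj; omega

theorem lt_rev : j < j.rev := by
  rw [Fin.lt_def, Fin.val_rev]
  have := hp.low
  omega

theorem half : Half (pair2 i j hp.lt.ne) := by
  intro a b h
  have h' := congrArg Fin.val h
  have := hp.adj
  have := hp.low
  have h0 : ∀ c : Fin 2, (pair2 i j hp.lt.ne c : ℕ) = i ∨ (pair2 i j hp.lt.ne c : ℕ) = j := fun c => by
    fin_cases c
    · exact Or.inl rfl
    · exact Or.inr rfl
  rw [Fin.val_rev] at h'
  rcases h0 a with e | e <;> rcases h0 b with e' | e' <;> rw [e, e'] at h' <;> omega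

end IsPair

/-- The folded permutation of a pair. -/
def pairPerm (i j : Fin n) : Equiv.Perm (Fin n) := Equiv.swap i j * Equiv.swap j.rev i.rev

theorem pairPerm_eq (i j : Fin n) :
    Fin.revPerm * pairPerm i j * Fin.revPerm = Equiv.swap i.rev j.rev * Equiv.swap j i := by
  show revConj (pairPerm i j) = _
  rw [pairPerm, TwData.revConj_mul, TwData.revConj_swap, TwData.revConj_swap, Fin.rev_rev, Fin.rev_rev]

/-- The element of the rank one group of a pair. -/
noncomputable def pairHom {i j : Fin n} (hp : IsPair i j) : SpecialLinearGroup (Fin 2) F →* GL (Fin n) F :=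
  dblGL ef hp.half

theorem pair_up {i j : Fin n} (hp : IsPair i j) (t : F) :
    pairHom ef hp (upSL t) = xGL hp.lt.ne t *
      xGL (Fin.rev_lt_rev.2 hp.lt).ne (-((ef j.rev : F) * t * ((ef i.rev)⁻¹ : Fˣ))) := by
  rw [pairHom, upSL_eq, dblGL_transvection]
  rfl

theorem pair_lo {i j : Fin n} (hp : IsPair i j) (t : F) :
    pairHom ef hp (loSL t) = xGL hp.lt.ne' t *
      xGL (Fin.rev_lt_rev.2 hp.lt).ne' (-((ef i.rev : F) * t * ((ef j.rev)⁻¹ : Fˣ))) := by
  rw [pairHom, loSL_eq, dblGL_transvection]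
  rfl

theorem pair_fixed {i j : Fin n} (hp : IsPair i j) {c : Fˣ} (hc : ∀ x, ef x.rev = c * ef x)
    (A : SpecialLinearGroup (Fin 2) F) : tau ef (pairHom ef hp A) = pairHom ef hp A :=
  dblGL_fixed ef hp.half hc A

theorem pair_up_mem {i j : Fin n} (hp : IsPair i j) (t : F) :
    pairHom ef hp (upSL t) ∈ outPart (pairPerm i j)⁻¹ := by
  have h1 := hp.adj
  have h2 := hp.low
  rw [pair_up]
  refine mul_mem (xGL_mem_outPart hp.lt t ?_) (xGL_mem_outPart (Fin.rev_lt_rev.2 hp.lt) _ ?_)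
  · rw [inv_inv, pairPerm]
    simp only [Equiv.Perm.mul_apply, Equiv.swap_apply_def, Fin.lt_def, Fin.ext_iff, Fin.val_rev]
    have hi := Fin.val_rev i
    have hj := Fin.val_rev j
    split_ifs <;> omega
  · rw [inv_inv, pairPerm]
    simp only [Equiv.Perm.mul_apply, Equiv.swap_apply_def, Fin.lt_def, Fin.ext_iff, Fin.val_rev]
    have hi := Fin.val_rev i
    have hj := Fin.val_rev j
    split_ifs <;> omega

theorem pair_support {i j : Fin n} (hp : IsPair i j) {g : GL (Fin n) F}
    (hg : g ∈ outPart (pairPerm i j)⁻¹) {a b : Fin n} (h : a ≠ b)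
    (h1 : ¬(a = i ∧ b = j)) (h2 : ¬(a = j.rev ∧ b = i.rev)) :
    (g : Matrix (Fin n) (Fin n) F) a b = 0 := by
  rcases lt_or_gt_of_ne h with h | h
  · refine outPart_support hg ?_
    have hi := Fin.val_rev i
    have hj := Fin.val_rev j
    have := hp.adj
    have := hp.low
    simp only [pairPerm, Equiv.Perm.mul_apply, Equiv.swap_apply_def, Fin.lt_def, Fin.ext_iff,
      Fin.val_rev] at h h1 h2 ⊢
    split_ifs <;> omega
  · exact mem_upper.1 (mem_unitri.1 (mem_outPart.1 hg).1).1 a b h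

theorem pair_up_surj {i j : Fin n} (hp : IsPair i j) {g : GL (Fin n) F}
    (hg : g ∈ outPart (pairPerm i j)⁻¹) (hfix : tau ef g = g) :
    pairHom ef hp (upSL ((g : Matrix (Fin n) (Fin n) F) i j)) = g := by
  have hne : j.rev ≠ i := fun e => by
    have := congrArg Fin.val e
    rw [Fin.val_rev] at this
    have := hp.adj
    have := hp.low
    omega
  have hji : j.rev < i.rev := Fin.rev_lt_rev.2 hp.lt
  set t := (g : Matrix (Fin n) (Fin n) F) i j with ht
  set u := (g : Matrix (Fin n) (Fin n) F) j.rev i.rev with hu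
  have hfac : g = xGL hp.lt.ne t * xGL hji.ne u := by
    refine Units.ext (Matrix.ext fun a b => ?_)
    rw [mul_xGL_apply, xGL_apply, xGL_apply]
    by_cases hab : a = b
    · subst hab
      rw [(mem_unitri.1 (mem_outPart.1 hg).1).2, if_pos rfl,
        if_neg (show ¬(a = i ∧ a = j) from fun e => hp.lt.ne (e.1.symm.trans e.2)), add_zero]
      by_cases hb : a = i.rev
      · subst hb
        rw [if_pos rfl, if_neg hji.ne', if_neg (show ¬(i.rev = i ∧ j.rev = j) from fun e => hp.lt_rev.ne e.2.symm)]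
        ring
      · rw [if_neg hb, add_zero]
    · by_cases h1 : a = i ∧ b = j
      · obtain ⟨rfl, rfl⟩ := h1
        have hb : b ≠ a.rev := ((hp.lt_rev.trans hji)).ne
        rw [if_neg hab, if_pos ⟨rfl, rfl⟩, if_neg hb, zero_add, add_zero]
      · by_cases h2 : a = j.rev ∧ b = i.rev
        · obtain ⟨rfl, rfl⟩ := h2
          rw [if_neg hab, if_neg h1, if_pos rfl, if_pos rfl,
            if_neg (show ¬(j.rev = i ∧ j.rev = j) from fun e => hne e.1)]
          ring
        · rw [pair_support hp hg hab h1 h2, if_neg hab, if_neg h1, zero_add]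
          by_cases hb : b = i.rev
          · rw [if_pos hb, if_neg (fun e => h2 ⟨e, hb⟩),
              if_neg (show ¬(a = i ∧ j.rev = j) from fun e => hp.lt_rev.ne e.2.symm)]
            ring
          · rw [if_neg hb, add_zero]
  have hu' : u = (ef j.rev : F) * ((g⁻¹ : GL (Fin n) F) : Matrix (Fin n) (Fin n) F) i j *
      ((ef i.rev)⁻¹ : Fˣ) := by
    rw [hu]
    conv_lhs => rw [← hfix, tau_apply, Fin.rev_rev, Fin.rev_rev]
  have hinv : ((g⁻¹ : GL (Fin n) F) : Matrix (Fin n) (Fin n) F) i j = -t := by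
    rw [hfac, _root_.mul_inv_rev, xGL_inv, xGL_inv, mul_xGL_apply, xGL_apply, xGL_apply, if_pos rfl,
      if_neg hp.lt.ne, if_neg (show ¬(i = j.rev ∧ j = i.rev) from fun e => hne e.1.symm), if_pos rfl,
      if_neg (show ¬(i = j.rev ∧ i = i.rev) from fun e => hne e.1.symm)]
    ring
  rw [pair_up, hfac]
  congr 2
  rw [hu', hinv]
  ring

theorem pair_up_entry {i j : Fin n} (hp : IsPair i j) (t : F) :
    (pairHom ef hp (upSL t) : Matrix (Fin n) (Fin n) F) i j = t := by
  have := dblGL_apply ef hp.half (upSL t) (0 : Fin 2) 1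
  exact this.trans (by simp [upSL])

theorem pair_up_inj {i j : Fin n} (hp : IsPair i j) {t : F} (h : pairHom ef hp (upSL t) = 1) : t = 0 := by
  rw [← pair_up_entry ef hp t, h, Units.val_one, Matrix.one_apply_ne hp.lt.ne]

theorem pair_w {i j : Fin n} (hp : IsPair i j) :
    ∃ d : Fin n → Fˣ, pairHom ef hp (wSL F) = diagGL d * permGL F (pairPerm i j) := by
  obtain ⟨d, hd⟩ := embGL_w (F := F) (pair2 i j hp.lt.ne)
  have h2 : ∃ d', tau ef (diagGL d * permGL F (Equiv.swap i j)) =
      diagGL d' * permGL F (Equiv.swap j.rev i.rev) := by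
    refine ⟨fun x => (d x.rev)⁻¹ * ef x / ef (Equiv.swap j.rev i.rev x), ?_⟩
    show diagGL ef * theta (RingHom.id F) (diagGL d * permGL F (Equiv.swap i j)) * (diagGL ef)⁻¹ = _
    rw [map_mul, TwData.theta_diag, theta_perm,
      show revConj (Equiv.swap i j) = Equiv.swap j.rev i.rev by rw [TwData.revConj_swap, Equiv.swap_comm],
      diagGL_inv ef, mul_assoc, mul_assoc,
      show permGL F (Equiv.swap j.rev i.rev) * diagGL ef⁻¹ =
        diagGL (fun x => ef⁻¹ (Equiv.swap j.rev i.rev x)) * permGL F (Equiv.swap j.rev i.rev) by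
          rw [diag_perm]; simp; rfl,
      ← mul_assoc, ← mul_assoc, ← diagGL_mul, ← diagGL_mul]
    congr 2
    funext x
    simp only [Pi.mul_apply, Pi.inv_apply, div_eq_mul_inv]
    rw [mul_comm (ef x)]
    rfl
  obtain ⟨d', hd'⟩ := h2
  refine ⟨d * (fun x => d' (Equiv.swap i j x)), ?_⟩
  show embGL _ (wSL F) * tau ef (embGL _ (wSL F)) = _
  rw [hd, pair2_zero, pair2_one, hd', pairPerm, permGL_mul, diagGL_mul,
    show diagGL d * permGL F (Equiv.swap i j) * (diagGL d' * permGL F (Equiv.swap j.rev i.rev)) =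
      diagGL d * (permGL F (Equiv.swap i j) * diagGL d') * permGL F (Equiv.swap j.rev i.rev) by group,
    show permGL F (Equiv.swap i j) * diagGL d' =
      diagGL (fun x => d' (Equiv.swap i j x)) * permGL F (Equiv.swap i j) by rw [diag_perm]; simp]
  group

theorem pair_lo_mem {i j : Fin n} (hp : IsPair i j) (c : Fin n → Fˣ) (π : Equiv.Perm (Fin n))
    (hπ : revConj π = π) (hd : π⁻¹ j < π⁻¹ i) (t : F) :
    (diagGL c * permGL F π)⁻¹ * pairHom ef hp (loSL t) * (diagGL c * permGL F π) ∈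
      outPart (π⁻¹ * pairPerm i j * π)⁻¹ := by
  have hπ' : revConj π⁻¹ = π⁻¹ := by rw [TwData.revConj_inv, hπ]
  have key : ∀ (a b : Fin n) (hab : a ≠ b) (y : F), π⁻¹ a < π⁻¹ b → pairPerm i j b = a → pairPerm i j a = b →
      (diagGL c * permGL F π)⁻¹ * xGL hab y * (diagGL c * permGL F π) ∈
        outPart (π⁻¹ * pairPerm i j * π)⁻¹ := by
    intro a b hab y hlt hb ha
    have e : (diagGL c * permGL F π)⁻¹ * xGL hab y * (diagGL c * permGL F π) =
        xGL (π⁻¹.injective.ne hab) (((c a)⁻¹ : Fˣ) * y * (c b : F)) := by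
      refine Units.ext (Matrix.ext fun x z => ?_)
      rw [show (diagGL c * permGL F π)⁻¹ * xGL hab y * (diagGL c * permGL F π) =
          (permGL F π)⁻¹ * ((diagGL c)⁻¹ * xGL hab y * ((diagGL c)⁻¹)⁻¹) * permGL F π by group,
        perm_conj_apply, diagGL_inv c, diag_conj_apply, xGL_apply, xGL_apply]
      by_cases h : x = z
      · subst h
        rw [if_pos rfl, if_pos rfl, if_neg (fun e => hab (e.1.symm.trans e.2)),
          if_neg (fun e => hab (π⁻¹.injective (e.1.symm.trans e.2)))]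
        simp
      · rw [if_neg h, if_neg (π.injective.ne h)]
        by_cases h' : π x = a ∧ π z = b
        · rw [if_pos h', if_pos ⟨by rw [← h'.1]; simp, by rw [← h'.2]; simp⟩, h'.1, h'.2]
          simp
        · rw [if_neg h', if_neg (fun e => h' ⟨by rw [e.1]; simp, by rw [e.2]; simp⟩)]
          simp
    rw [e]
    refine xGL_mem_outPart hlt _ ?_
    rw [inv_inv]
    simpa [ha, hb] using hlt
  have h1 := hp.adj
  have h2 := hp.low
  have hi := Fin.val_rev i
  have hj := Fin.val_rev j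
  rw [pair_lo, show ∀ X Y Z : GL (Fin n) F, Z⁻¹ * (X * Y) * Z = (Z⁻¹ * X * Z) * (Z⁻¹ * Y * Z) from
    fun X Y Z => by group]
  refine mul_mem (key j i hp.lt.ne' t hd ?_ ?_) (key i.rev j.rev _ _ ?_ ?_ ?_)
  · refine Fin.ext ?_
    simp only [pairPerm, Equiv.Perm.mul_apply, Equiv.swap_apply_def, Fin.ext_iff]
    split_ifs <;> omega
  · refine Fin.ext ?_
    simp only [pairPerm, Equiv.Perm.mul_apply, Equiv.swap_apply_def, Fin.ext_iff]
    split_ifs <;> omega
  · rw [TwData.rev_comm hπ', TwData.rev_comm hπ', Fin.rev_lt_rev]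
    exact hd
  · refine Fin.ext ?_
    simp only [pairPerm, Equiv.Perm.mul_apply, Equiv.swap_apply_def, Fin.ext_iff]
    split_ifs <;> omega
  · refine Fin.ext ?_
    simp only [pairPerm, Equiv.Perm.mul_apply, Equiv.swap_apply_def, Fin.ext_iff]
    split_ifs <;> omega

theorem pair_conj {i j : Fin n} (hp : IsPair i j) {d : Fin n → Fˣ} (hd : tau ef (diagGL d) = diagGL d)
    (A : SpecialLinearGroup (Fin 2) F) :
    diagGL d * pairHom ef hp A * (diagGL d)⁻¹ = pairHom ef hp (scaleSL (d i / d j) A) :=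
  diag_conj_dblGL ef hp.half hd fun a b => by
    fin_cases a <;> fin_cases b <;>
      simp [scaleSL, pair2_zero, pair2_one, div_eq_mul_inv] <;> field_simp

/-- The symmetric vector with given first half. -/
def halfVec (m : ℕ) : ((Fin m → Fˣ)) →* (Fin n → Fˣ) where
  toFun f x := if h : (x : ℕ) < m then f ⟨x, h⟩ else
    if h' : (x.rev : ℕ) < m then (f ⟨(x.rev : ℕ), h'⟩)⁻¹ else 1
  map_one' := by funext x; simp
  map_mul' f g := by
    funext x
    simp only [Pi.mul_apply]
    split_ifs <;> simp [mul_comm]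

theorem halfVec_sym {m : ℕ} (hm : 2 * m ≤ n) (f : Fin m → Fˣ) (x : Fin n) :
    (halfVec m f : Fin n → Fˣ) x.rev = ((halfVec m f : Fin n → Fˣ) x)⁻¹ := by
  show (if h : (x.rev : ℕ) < m then f ⟨x.rev, h⟩ else _) = _
  by_cases h : (x.rev : ℕ) < m
  · have h' : ¬ (x : ℕ) < m := by rw [Fin.val_rev] at h; omega
    rw [dif_pos h]
    show _ = (if h : (x : ℕ) < m then f ⟨x, h⟩ else _)⁻¹
    rw [dif_neg h', dif_pos h, inv_inv]
  · rw [dif_neg h]
    show _ = (if h : (x : ℕ) < m then f ⟨x, h⟩ else _)⁻¹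
    by_cases h' : (x : ℕ) < m
    · rw [dif_pos (by rw [Fin.rev_rev]; exact h'), dif_pos h']
      simp only [Fin.rev_rev]
    · rw [dif_neg (by rw [Fin.rev_rev]; exact h'), dif_neg h', dif_neg h, inv_one]

theorem halfVec_low {m : ℕ} (f : Fin m → Fˣ) {x : Fin n} (h : (x : ℕ) < m) :
    (halfVec m f : Fin n → Fˣ) x = f ⟨x, h⟩ := dif_pos h

theorem halfVec_high {m : ℕ} (f : Fin m → Fˣ) {x : Fin n} (h : ¬ (x : ℕ) < m) (h' : (x.rev : ℕ) < m) :
    (halfVec m f : Fin n → Fˣ) x = (f ⟨x.rev, h'⟩)⁻¹ := (dif_neg h).trans (dif_pos h')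

theorem halfVec_mid {m : ℕ} (f : Fin m → Fˣ) {x : Fin n} (h : ¬ (x : ℕ) < m) (h' : ¬ (x.rev : ℕ) < m) :
    (halfVec m f : Fin n → Fˣ) x = 1 := (dif_neg h).trans (dif_neg h')

theorem pair_di {i j : Fin n} (hp : IsPair i j) {m : ℕ} (hjm : (j : ℕ) < m) (hm : 2 * m ≤ n) (l : Fˣ) :
    pairHom ef hp (diSL l) = diagGL (halfVec m (adjVec (i : ℕ) l)) := by
  show embGL _ (diSL l) * tau ef (embGL _ (diSL l)) = _
  rw [embGL_diag, tau_diag, ← diagGL_mul]
  congr 1
  funext x
  have h1 := hp.adj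
  have h2 := hp.low
  have hx := Fin.val_rev x
  simp only [Pi.mul_apply, pair2_zero, pair2_one]
  by_cases hlo : (x : ℕ) < m
  · rw [halfVec_low _ hlo]
    simp only [adjVec, Fin.ext_iff]
    split_ifs <;> first | omega | simp
  · by_cases hhi : (x.rev : ℕ) < m
    · rw [halfVec_high _ hlo hhi]
      simp only [adjVec, Fin.ext_iff]
      split_ifs <;> first | omega | simp
    · rw [halfVec_mid _ hlo hhi]
      simp only [Fin.ext_iff]
      split_ifs <;> first | omega | simp

/-- The span condition: the first half lies in the span once its product at the last place does. -/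
theorem mem_half_span {m : ℕ} {S : Subgroup (Fin m → Fˣ)} (N : Fin m) (hN : (N : ℕ) + 1 = m)
    (hS : ∀ i, i < (N : ℕ) → ∀ l : Fˣ, adjVec i l ∈ S) (d : Fin m → Fˣ)
    (hlast : Pi.mulSingle N (∏ x, d x) ∈ S) : d ∈ S := by
  have h1 : d * (Pi.mulSingle N (∏ x, d x))⁻¹ ∈ S := by
    refine mem_of_prod_one hS _ (fun x hx => absurd hx (not_lt.2 (Fin.le_def.2 (by omega)))) ?_
    simp [Finset.prod_mul_distrib, Finset.prod_pi_mulSingle']
  have := mul_mem h1 hlast
  rwa [inv_mul_cancel_right] at this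

/-- A bound on path shaped Cartan data. -/
theorem col_of_bound {ι : Type*} [Fintype ι] [DecidableEq ι] (C : ι → ι → ℤ) (j : ι) (T : Finset ι)
    (c : ι → ℕ) (h0 : ∀ i, i ≠ j → i ∉ T → C i j = 0) (hb : ∀ i ∈ T, (C i j).natAbs ≤ c i)
    (hs : ∑ i ∈ T, c i ≤ 3) : ∑ i ∈ Finset.univ.erase j, (C i j).natAbs ≤ 3 := by
  refine le_trans ?_ hs
  calc ∑ i ∈ Finset.univ.erase j, (C i j).natAbs
      ≤ ∑ i ∈ Finset.univ.erase j, if i ∈ T then c i else 0 := Finset.sum_le_sum fun i hi => by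
        split_ifs with h
        · exact hb i h
        · rw [h0 i (Finset.mem_erase.1 hi).1 h]; simp
    _ ≤ ∑ i, if i ∈ T then c i else 0 := Finset.sum_le_sum_of_subset (Finset.subset_univ _)
    _ = _ := by rw [Finset.sum_ite_mem, Finset.univ_inter]

/-- Data in which every node but one has a neighbour of smaller rank are connected. -/
theorem conn_of_parent {ι : Type*} [Fintype ι] (C : ι → ι → ℤ) (r : ι → ℕ)
    (h : ∀ i, r i ≠ 0 → ∃ i', r i' < r i ∧ C i i' ≠ 0 ∧ C i' i ≠ 0)
    (h0 : ∀ i i', r i = 0 → r i' = 0 → i = i') (N : Finset ι) (hN : N.Nonempty) (hne : N ≠ Finset.univ) :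
    ∃ j ∈ N, ∃ i, i ∉ N ∧ C i j ≠ 0 := by
  by_contra hcon
  push Not at hcon
  have key : ∀ (k : ℕ) (i : ι), r i ≤ k → ∃ z, r z = 0 ∧ (i ∈ N ↔ z ∈ N) := by
    intro k
    induction k with
    | zero => intro i hi; exact ⟨i, by omega, Iff.rfl⟩
    | succ k ih =>
      intro i hi
      by_cases hr : r i = 0
      · exact ⟨i, hr, Iff.rfl⟩
      obtain ⟨i', h1, h2, h3⟩ := h i hr
      obtain ⟨z, hz, e⟩ := ih i' (by omega)
      refine ⟨z, hz, Iff.trans ⟨fun hi => ?_, fun hi' => ?_⟩ e⟩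
      · by_contra hc; exact h3 (hcon i hi i' hc)
      · by_contra hc; exact h2 (hcon i' hi' i hc)
  obtain ⟨a, ha⟩ := hN
  obtain ⟨z, hz, e⟩ := key _ a le_rfl
  refine hne (Finset.eq_univ_of_forall fun b => ?_)
  obtain ⟨z', hz', e'⟩ := key _ b le_rfl
  exact e'.2 (h0 z z' hz hz' ▸ e.1 ha)

end Cfsg.Agent.H14.ThompsonSplit
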