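import Cfsg.Agent.H14.ThompsonSplit.TwLevi
import Cfsg.Agent.H13.Split.GL
import Cfsg.Agent.H83.Classical.OPlusGroup

/-!
Rank one subgroups and doubles inside the group of type D.
-/

set_option autoImplicit false
set_option linter.unusedSectionVars false
set_option linter.unusedFintypeInType false

namespace Cfsg.Agent.H14.ThompsonSplit.PlusCase

open Matrix Cfsg.Agent.Linear Cfsg.Agent.H54 Cfsg.Agent.H52.TwistedBruhat Cfsg.Agent.H83.Classical
open Cfsg.Agent.H13.Split Cfsg.Agent.H83.Classical.OPlus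
open Cfsg.Agent.H37 (Tits.Ambient)
open scoped MatrixGroups

variable {m : ℕ} {F : Type*} [Field F]

theorem tau_one_eq (g : GL (Fin (dim m)) F) : tau (1 : Fin (dim m) → Fˣ) g = OPlus.θ m F g := by
  show diagGL (1 : Fin (dim m) → Fˣ) * theta (RingHom.id F) g * (diagGL 1)⁻¹ = _
  rw [diagGL_one, one_mul, inv_one, mul_one]
  rfl

theorem fixed_of_mem {g : GL (Fin (dim m)) F} (hg : g ∈ OGrp m F) : tau (1 : Fin (dim m) → Fˣ) g = g := by
  rw [tau_one_eq]; exact OGrp_fixed hg

theorem one_rev (x : Fin (dim m)) : (1 : Fin (dim m) → Fˣ) x.rev = 1 * (1 : Fin (dim m) → Fˣ) x := by simp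

/-- Doubles are orthogonal. -/
theorem dbl_mem_OGrp {k : ℕ} {e : Fin k ↪ Fin (dim m)} (he : Half e) (M : SpecialLinearGroup (Fin k) F) :
    dblGL (1 : Fin (dim m) → Fˣ) he M ∈ OGrp m F := by
  refine mem_OGrp_iff.2 ⟨by rw [← tau_one_eq]; exact dblGL_fixed _ _ one_rev M, fun c => ?_⟩
  refine qPlus_of_disjoint fun r => ?_
  rw [OPlus.col_apply, OPlus.col_apply]
  by_contra hne
  obtain ⟨h1, h2⟩ := mul_ne_zero_iff.1 hne
  -- in each row outside the block and its mirror only the diagonal entry is nonzero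
  have key : ∀ r : Fin (dim m), (dblGL (1 : Fin (dim m) → Fˣ) he M : Matrix (Fin (dim m)) (Fin (dim m)) F) r c ≠ 0 →
      (r ∈ Set.range e ∧ c ∈ Set.range e) ∨ (r ∈ Set.range (revEmb e) ∧ c ∈ Set.range (revEmb e)) ∨ r = c := by
    intro r hr
    by_cases ha : r ∈ Set.range e
    · refine Or.inl ⟨ha, ?_⟩
      by_contra hc
      obtain ⟨a, rfl⟩ := ha
      exact hr (dblGL_zero_of_mem _ he M a hc)
    · by_cases hb : r ∈ Set.range (revEmb e)
      · refine Or.inr (Or.inl ⟨hb, ?_⟩)
        by_contra hc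
        rw [dblGL_eq, emb_mul_apply_out M _ ha] at hr
        rw [embGL_right (revEmb e) _ hc, Matrix.one_apply] at hr
        exact hc (by
          by_cases h : r = c
          · exact h ▸ hb
          · exact absurd (if_neg h) hr)
      · refine Or.inr (Or.inr ?_)
        by_contra hc
        rw [dblGL_out _ he M ha hb, Matrix.one_apply_ne hc] at hr
        exact hr rfl
  have hrev : ∀ x : Fin (dim m), x ∈ Set.range e → x.rev ∉ Set.range e := by
    rintro _ ⟨a, rfl⟩ ⟨b, hb⟩
    exact he b a hb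
  have hrev' : ∀ x : Fin (dim m), x ∈ Set.range (revEmb e) ↔ x.rev ∈ Set.range e := fun x =>
    ⟨fun ⟨a, ha⟩ => ⟨a, by rw [← ha, revEmb_apply, Fin.rev_rev]⟩,
      fun ⟨a, ha⟩ => ⟨a, by rw [revEmb_apply, ha, Fin.rev_rev]⟩⟩
  have hne' := rev_ne r
  rcases key r h1 with ⟨a1, a2⟩ | ⟨a1, a2⟩ | a1 <;>
    rcases key r.rev h2 with ⟨b1, b2⟩ | ⟨b1, b2⟩ | b1
  · exact hrev r a1 b1
  · exact hrev c a2 ((hrev' c).1 b2)
  · subst b1; exact hrev r a1 a2
  · exact hrev c b2 ((hrev' c).1 a2)
  · exact hrev _ ((hrev' r).1 a1) ((hrev' r.rev).1 b1)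
  · subst b1
    exact hrev _ ((hrev' r).1 a1) (by rw [Fin.rev_rev]; exact (by simpa using (hrev' r.rev).1 a2))
  · subst a1; exact hrev r b2 b1
  · subst a1
    exact hrev _ ((hrev' r).1 b2) ((hrev' r.rev).1 b1)
  · exact hne' (b1.trans a1.symm)

variable [Finite F]

theorem mem_WPlus_of_sign {w : Equiv.Perm (Fin (dim m))} (hw : w ∈ TwData.symPerm (dim m))
    (hs : Equiv.Perm.sign w = 1) : w ∈ WPlus m := by
  rcases sym_cases hw with h | h
  · exact h
  · exfalso
    have h' := WPlus_sign h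
    rw [map_mul, hs, one_mul, OPlus.mid, Equiv.Perm.sign_swap (rev_ne _).symm] at h'
    exact absurd h' (by decide)

theorem exists_w0 : ∃ w₀ : ↥(WPlus m), w₀.1 = Fin.revPerm ∨ w₀.1 = Fin.revPerm * mid m := by
  rcases sym_cases (TwData.rev_mem_symPerm : Fin.revPerm ∈ TwData.symPerm (dim m)) with h | h
  exacts [⟨⟨_, h⟩, Or.inl rfl⟩, ⟨⟨_, h⟩, Or.inr rfl⟩]

variable (m) in
/-- The longest element. -/
noncomputable def w0 : ↥(WPlus m) := (exists_w0 (m := m)).choose

theorem w0_spec : (w0 m).1 = Fin.revPerm ∨ (w0 m).1 = Fin.revPerm * mid m := (exists_w0 (m := m)).choose_spec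

theorem w0_inv : (w0 m).1⁻¹ = (w0 m).1 := by
  rcases w0_spec (m := m) with e | e <;> rw [e]
  · exact Equiv.Perm.inv_def _
  · rw [_root_.mul_inv_rev, mid_inv, show (Fin.revPerm : Equiv.Perm (Fin (dim m)))⁻¹ = Fin.revPerm from
      Equiv.Perm.inv_def _, rev_mid_comm]

theorem w0_mid : mid m * (w0 m).1 = Fin.revPerm ∨ mid m * (w0 m).1 = Fin.revPerm * mid m := by
  rcases w0_spec (m := m) with e | e <;> rw [e]
  · exact Or.inr rev_mid_comm.symm
  · exact Or.inl (by rw [rev_mid_comm, ← mul_assoc, mid_sq, one_mul])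

/-- A lower triangular orthogonal element with unit diagonal lies in the group of type D. -/
theorem low_mem_GPlus {g : GL (Fin (dim m)) F} (hg : g ∈ lowerGL (dim m) F)
    (hd : ∀ i, (g : Matrix (Fin (dim m)) (Fin (dim m)) F) i i = 1) (hO : g ∈ OGrp m F) : g ∈ GPlus m F := by
  have hR : permGL F (Fin.revPerm : Equiv.Perm (Fin (dim m))) ∈ OGrp m F := permGL_mem_OGrp TwData.rev_mem_symPerm
  have hx : (permGL F Fin.revPerm)⁻¹ * g * permGL F Fin.revPerm ∈ UPlus m F :=
    ⟨rev_conj_unitri hg hd, (OGrp m F).mul_mem ((OGrp m F).mul_mem ((OGrp m F).inv_mem hR) hO) hR⟩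
  set x := (permGL F Fin.revPerm)⁻¹ * g * permGL F Fin.revPerm with hxd
  have hW := permGL_mem_GPlus (F := F) (w0 m).2
  have hU : (permGL F (w0 m).1)⁻¹ * g * permGL F (w0 m).1 ∈ UPlus m F := by
    rcases w0_spec (m := m) with e | e <;> rw [e]
    · exact hx
    · have h := perm_conj_unitri_mid hx
      rw [permGL_mul, show (permGL F Fin.revPerm * permGL F (mid m))⁻¹ * g *
          (permGL F Fin.revPerm * permGL F (mid m)) = (permGL F (mid m))⁻¹ * x * permGL F (mid m) by
            rw [hxd]; group]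
      rwa [show (permGL F (mid m))⁻¹ = permGL F (mid m) by rw [permGL_inv, mid_inv]] at h ⊢
  have := mul_mem (mul_mem hW (UPlus_le hU)) (inv_mem hW)
  simpa [mul_assoc] using this

/-- Doubles of increasing blocks are in the group of type D. -/
theorem dbl_mem_GPlus {k : ℕ} {e : Fin k ↪ Fin (dim m)} (he : Half e) (hmono : StrictMono e)
    (M : SpecialLinearGroup (Fin k) F) : dblGL (1 : Fin (dim m) → Fˣ) he M ∈ GPlus m F := by
  induction M using Cfsg.Agent.Linear.transvection_induction with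
  | one => rw [map_one]; exact one_mem _
  | htr a b hab t =>
    have hO := dbl_mem_OGrp he (Matrix.SpecialLinearGroup.transvection hab t)
    rcases lt_or_gt_of_ne hab with h | h
    · refine UPlus_le ⟨?_, hO⟩
      rw [dblGL_transvection]
      exact mul_mem (xGL_mem_unitri (hmono h) _) (xGL_mem_unitri (Fin.rev_lt_rev.2 (hmono h)) _)
    · have hlow : ∀ (x y : Fin (dim m)) (hxy : x ≠ y) (s : F), y < x →
          (xGL hxy s : GL (Fin (dim m)) F) ∈ lowerGL (dim m) F := fun x y hxy s hlt =>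
        mem_lowerGL.2 fun r c hrc => by
          rw [xGL_apply, if_neg hrc.ne, if_neg (fun e => absurd hrc (by rw [e.1, e.2]; exact hlt.asymm)),
            add_zero]
      have hlt := hmono h
      refine low_mem_GPlus ?_ (fun i => ?_) hO
      · rw [dblGL_transvection]
        exact mul_mem (hlow _ _ _ _ hlt) (hlow _ _ _ _ (Fin.rev_lt_rev.2 hlt))
      · rw [dblGL_transvection, mul_xGL_apply, xGL_apply, xGL_apply]
        have h1 : ¬ (i = e a ∧ (e b).rev = e b) := fun e' => rev_ne _ e'.2
        have h2 : ¬ (i = e a ∧ i = e b) := fun e' => hlt.ne' (e'.1.symm.trans e'.2)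
        have h3 : ¬ (i = (e b).rev ∧ i = (e a).rev) := fun e' =>
          hlt.ne (Fin.rev_injective (e'.1.symm.trans e'.2))
        have h4 : ¬ (i = e a ∧ (e b).rev = e b ∧ i = (e a).rev) := fun e' => rev_ne _ e'.2.1
        split_ifs <;> simp_all
  | hmul u v hu hv => rw [map_mul]; exact mul_mem hu hv

theorem mid_conj_GPlus {g : GL (Fin (dim m)) F} (hg : g ∈ GPlus m F) :
    permGL F (mid m) * g * (permGL F (mid m))⁻¹ ∈ GPlus m F := by
  induction hg using Subgroup.closure_induction with
  | mem x hx =>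
    rcases hx with (hx | hx) | ⟨s, hs, rfl⟩
    · exact UPlus_le (perm_conj_unitri_mid hx)
    · exact HPlus_le (perm_conj_torus_mid hx mid_sym)
    · rw [permGL_inv, mid_inv, ← permGL_mul, ← permGL_mul]
      exact permGL_mem_GPlus (Subgroup.subset_closure (SPlus_conj hs))
  | one => simp
  | mul x y _ _ hx hy =>
    rw [show permGL F (mid m) * (x * y) * (permGL F (mid m))⁻¹ = (permGL F (mid m) * x * (permGL F (mid m))⁻¹) *
      (permGL F (mid m) * y * (permGL F (mid m))⁻¹) by group]
    exact mul_mem hx hy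
  | inv x _ hx =>
    rw [show permGL F (mid m) * x⁻¹ * (permGL F (mid m))⁻¹ =
      (permGL F (mid m) * x * (permGL F (mid m))⁻¹)⁻¹ by group]
    exact inv_mem hx

theorem xGL_perm_conj (π : Equiv.Perm (Fin (dim m))) {i j : Fin (dim m)} (h : i ≠ j) (a : F) :
    (permGL F π)⁻¹ * xGL h a * permGL F π = xGL (π⁻¹.injective.ne h) a := by
  rw [mul_assoc, xGL_mul_perm, inv_mul_cancel_left]

theorem mid_perm_conj {d : Equiv.Perm (Fin (dim m))} (v : Fin (dim m) → Fˣ) :
    permGL F (mid m) * (diagGL v * permGL F d) * (permGL F (mid m))⁻¹ =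
      diagGL (fun x => v ((mid m)⁻¹ x)) * permGL F (mid m * d * mid m) := by
  have hP : (permGL F (mid m))⁻¹ = permGL F (mid m) := by rw [permGL_inv, mid_inv]
  rw [permGL_mul, permGL_mul, ← perm_conj_diag,
    show permGL F (mid m) * diagGL v * (permGL F (mid m))⁻¹ *
        (permGL F (mid m) * permGL F d * permGL F (mid m)) =
      permGL F (mid m) * (diagGL v * permGL F d) * permGL F (mid m) by group, hP]

theorem mid_lt {a b : Fin (dim m)} (h : a < b) (hne : ¬ ((a : ℕ) = m ∧ (b : ℕ) = m + 1)) :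
    mid m a < mid m b := by
  have hA : ((midA m : Fin (dim m)) : ℕ) = m := rfl
  have hB := midA_rev_val (m := m)
  simp only [OPlus.mid, Equiv.swap_apply_def, Fin.lt_def, Fin.ext_iff] at h ⊢
  split_ifs <;> omega

/-- An orthogonal element inverted by the conjugate of a pair reflection comes from the pair. -/
theorem mid_pair_support {i j : Fin (dim m)} (hp : IsPair i j) (hj : (j : ℕ) = m)
    {x : GL (Fin (dim m)) F} (hO : x ∈ OGrp m F)
    (hx : x ∈ outPart (mid m * pairPerm i j * mid m)⁻¹) :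
    permGL F (mid m) * x * (permGL F (mid m))⁻¹ ∈ outPart (pairPerm i j)⁻¹ := by
  have hU := perm_conj_unitri_mid (⟨(mem_outPart.1 hx).1, hO⟩ : x ∈ UPlus m F)
  set X := permGL F (mid m) * x * (permGL F (mid m))⁻¹ with hX
  have hu := mem_upper.1 (mem_unitri.1 hU.1).1
  have hA : ((midA m : Fin (dim m)) : ℕ) = m := rfl
  have hB := midA_rev_val (m := m)
  have hi' := Fin.val_rev i
  have hj' := Fin.val_rev j
  have hadj := hp.adj
  have hX' : ∀ a b, (X : Matrix (Fin (dim m)) (Fin (dim m)) F) a b =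
      (x : Matrix (Fin (dim m)) (Fin (dim m)) F) (mid m a) (mid m b) := fun a b => by
    rw [hX, show permGL F (mid m) * x * (permGL F (mid m))⁻¹ = (permGL F (mid m))⁻¹ * x * permGL F (mid m) by
      rw [permGL_inv, mid_inv], perm_conj_apply]
  have hpv : ∀ y : Fin (dim m), (pairPerm i j y : ℕ) =
      if (y : ℕ) = i then m else if (y : ℕ) = m then (i : ℕ) else
        if (y : ℕ) = m + 1 then m + 2 else if (y : ℕ) = m + 2 then m + 1 else (y : ℕ) := fun y => by
    have hir : (i.rev : ℕ) = m + 2 := by rw [hi']; simp only [dim]; omega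
    have hjr : (j.rev : ℕ) = m + 1 := by rw [hj']; simp only [dim]; omega
    clear hX hX' hu hU hO hx hi' hj' hB hA
    simp only [pairPerm, Equiv.Perm.mul_apply, Equiv.swap_apply_def, Fin.ext_iff]
    split_ifs <;> omega
  -- all but one of the entries vanish by the support of `x`
  have hgen : ∀ a b : Fin (dim m), a < b → pairPerm i j a < pairPerm i j b →
      ¬ ((a : ℕ) = i ∧ (b : ℕ) = m + 2) → (X : Matrix (Fin (dim m)) (Fin (dim m)) F) a b = 0 := by
    intro a b hab hd hex
    by_cases hc : (a : ℕ) = m ∧ (b : ℕ) = m + 1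
    · have hb : b = a.rev := Fin.ext (by rw [Fin.val_rev]; simp only [dim]; omega)
      rw [hb]
      exact mid_entry hU.1 hU.2 hc.1
    · rw [hX']
      refine outPart_support hx ?_
      simp only [Equiv.Perm.mul_apply, ← Equiv.Perm.mul_apply (mid m) (mid m), mid_sq, Equiv.Perm.one_apply]
      refine mid_lt hd fun e => hex ?_
      have ea := hpv a
      have eb := hpv b
      rw [e.1] at ea
      rw [e.2] at eb
      constructor
      · split_ifs at ea <;> omega
      · split_ifs at eb <;> omega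
  refine mem_outPart.2 ⟨hU.1, mem_lowerGL.2 fun r c hrc => ?_⟩
  rw [perm_conj_apply]
  set a := (pairPerm i j)⁻¹ r with ha
  set b := (pairPerm i j)⁻¹ c with hb
  have hdr : pairPerm i j a = r := by simp [ha]
  have hdc : pairPerm i j b = c := by simp [hb]
  rcases lt_trichotomy a b with hab | hab | hab
  · have hd : pairPerm i j a < pairPerm i j b := by rw [hdr, hdc]; exact hrc
    by_cases hex : (a : ℕ) = i ∧ (b : ℕ) = m + 2
    · have hai : a = i := Fin.ext hex.1
      have hbi : b = i.rev := Fin.ext (by rw [Fin.val_rev]; simp only [dim]; omega)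
      rw [hai, hbi]
      have him : (i : ℕ) < m + 1 := by omega
      set i₀ : Fin (m + 1) := ⟨i, him⟩
      have hcast : Fin.castAdd (m + 1) i₀ = i := Fin.ext rfl
      have h := (mem_OGrp_iff.1 hU.2).2 i.rev
      rw [qPlus, Finset.sum_eq_single i₀ (fun q _ hq => ?_) (fun h => absurd (Finset.mem_univ _) h),
        hcast, OPlus.col_apply, OPlus.col_apply, (mem_unitri.1 hU.1).2, mul_one] at h
      · exact h
      · rw [OPlus.col_apply, OPlus.col_apply]
        have hq' : (q : ℕ) ≠ i := fun e => hq (Fin.ext e)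
        by_cases hqm : (q : ℕ) = m
        · rw [hgen (Fin.castAdd (m + 1) q) i.rev ?_ ?_ (fun e => by
            rw [Fin.val_castAdd] at e; omega), zero_mul]
          · rw [Fin.lt_def, Fin.val_castAdd, hi']; simp only [dim]; omega
          · rw [Fin.lt_def, hpv, hpv, Fin.val_castAdd, hi']
            simp only [dim] at *
            split_ifs <;> omega
        · rw [hu (Fin.castAdd (m + 1) q).rev i.rev (by
            rw [Fin.rev_lt_rev, Fin.lt_def, Fin.val_castAdd]; omega), mul_zero]
    · exact hgen a b hab hd hex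
  · exact absurd (by rw [← hdr, ← hdc, hab]) hrc.ne
  · exact hu a b hab

end Cfsg.Agent.H14.ThompsonSplit.PlusCase
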