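import Cfsg.Agent.H14.ThompsonSplit.PlusNodes
import Cfsg.Agent.H83.Classical.OPlusAmbient

/-!
The fundamental rank one subgroups of the group of type D.
-/

set_option autoImplicit false
set_option linter.unusedSectionVars false
set_option linter.unusedFintypeInType false

namespace Cfsg.Agent.H14.ThompsonSplit.PlusCase

open Matrix Cfsg.Agent.Linear Cfsg.Agent.H54 Cfsg.Agent.H52.TwistedBruhat Cfsg.Agent.H83.Classical
open Cfsg.Agent.H13.Split Cfsg.Agent.H83.Classical.OPlus
open Cfsg.Agent.H37 (Tits.Ambient)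
open scoped MatrixGroups

variable {m : ℕ} {F : Type*} [Field F] [Finite F]

theorem keep_norm_perm' {n : ℕ} {π : Equiv.Perm (Fin n)} (hπ : BlockClosed π) {x d : GL (Fin n) F}
    (hx : x ∈ unitriGL n F) (hd : d ∈ unitriGL n F)
    (h : permGL F π * d * (permGL F π)⁻¹ ∈ unitriGL n F) :
    permGL F π * (x * d * x⁻¹) * (permGL F π)⁻¹ ∈ unitriGL n F := by
  have h1 := keep_norm (t := 1) hπ (one_mem _) hx hd (by rwa [one_mul])
  rwa [one_mul] at h1

theorem norm_double {π : Equiv.Perm (Fin (dim m))} (hπ : BlockClosed π) (hs : π ∈ TwData.symPerm (dim m))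
    {x d : GL (Fin (dim m)) F} (hx : x ∈ UPlus m F) (hd : d ∈ UPlus m F)
    (h : permGL F π * d * (permGL F π)⁻¹ ∈ UPlus m F) :
    permGL F π * (x * d * x⁻¹) * (permGL F π)⁻¹ ∈ UPlus m F :=
  ⟨keep_norm_perm' hπ hx.1 hd.1 h.1, (OGrp m F).mul_mem ((OGrp m F).mul_mem (permGL_mem_OGrp hs)
    ((OGrp m F).mul_mem ((OGrp m F).mul_mem hx.2 hd.2) ((OGrp m F).inv_mem hx.2)))
    ((OGrp m F).inv_mem (permGL_mem_OGrp hs))⟩

theorem norm_gen {s : Equiv.Perm (Fin (dim m))} (hs : s ∈ SPlus m)
    {x d : GL (Fin (dim m)) F} (hx : x ∈ UPlus m F) (hd : d ∈ UPlus m F)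
    (h : permGL F s * d * (permGL F s)⁻¹ ∈ UPlus m F) :
    permGL F s * (x * d * x⁻¹) * (permGL F s)⁻¹ ∈ UPlus m F := by
  obtain ⟨π, hπ, rfl | rfl⟩ := hs
  · exact norm_double (blockClosed_sgen hπ.sgen) hπ.sgen.mem hx hd h
  · set P := permGL F (mid m) with hP
    set c : MulAut (GL (Fin (dim m)) F) := MulAut.conj P with hc
    have hU : ∀ y ∈ UPlus m F, c y ∈ UPlus m F := fun y hy => perm_conj_unitri_mid hy
    have hcc : ∀ y, c (c y) = y := fun y => by
      rw [← MulAut.mul_apply, hc, ← map_mul, hP, ← permGL_mul, mid_sq, permGL_one, map_one,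
        MulAut.one_apply]
    have e : ∀ y, permGL F (mid m * π * mid m) * y * (permGL F (mid m * π * mid m))⁻¹ =
        c (permGL F π * c y * (permGL F π)⁻¹) := fun y => by
      simp only [hc, MulAut.conj_apply]
      rw [permGL_mul, permGL_mul, ← hP]; group
    rw [e] at h ⊢
    have h' := hU _ h
    rw [hcc] at h'
    refine hU _ ?_
    rw [map_mul, map_mul, map_inv]
    exact norm_double (blockClosed_sgen hπ.sgen) hπ.sgen.mem (hU x hx) (hU d hd) h'

theorem w0_full : (plusAmb m F).Uw (w0 m) = (plusAmb m F).U :=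
  le_antisymm ((plusAmb m F).Uw_le _) fun _ hu => ⟨outPart_full w0_spec hu, hu.2⟩

theorem plus_hyp' [Fintype F] (p : ℕ) [Fact p.Prime] [CharP F p] (hm : 1 ≤ m) : Hyp (plusAmb m F) p where
  full := ⟨w0 m, w0_full⟩
  pU := ((isPGroup_unitriGL (n := dim m) (F := F) p).to_le inf_le_left : IsPGroup p ↥(UPlus m F)).comap_subtype
  pH h := TwData.not_dvd_card_torus (n := dim m) (F := F) p (h.trans (by
    rw [← Subgroup.card_map_of_injective (f := (GPlus m F).subtype) (GPlus m F).subtype_injective]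
    exact Subgroup.card_dvd_of_le ((Subgroup.map_le_iff_le_comap.2 le_rfl).trans inf_le_left)))
  nonempty := by
    have hd : IsDouble (Equiv.swap (⟨0, by simp only [dim]; omega⟩ : Fin (dim m)) ⟨1, by simp only [dim]; omega⟩ *
        Equiv.swap (⟨1, by simp only [dim]; omega⟩ : Fin (dim m)).rev (⟨0, by simp only [dim]; omega⟩ : Fin (dim m)).rev) :=
      ⟨_, _, rfl, by rw [Fin.lt_def, Fin.val_rev]; simp only [dim]; omega, rfl⟩
    exact ⟨⟨_, Subgroup.subset_closure ⟨_, hd, Or.inl rfl⟩⟩, _, hd, Or.inl rfl⟩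
  norm := by
    rintro s hs u hu d ⟨hd, hd'⟩
    exact ⟨(plusAmb m F).U.mul_mem ((plusAmb m F).U.mul_mem hu hd) ((plusAmb m F).U.inv_mem hu),
      norm_gen hs hu hd hd'⟩

/-- The left end of the pair of a node. -/
def pa (hm : 2 ≤ m) (i : Fin (m + 1)) : Fin (dim m) :=
  ⟨if (i : ℕ) < m then i else m - 1, by have := i.isLt; simp only [dim]; split_ifs <;> omega⟩

/-- The right end of the pair of a node. -/
def pb (hm : 2 ≤ m) (i : Fin (m + 1)) : Fin (dim m) :=
  ⟨if (i : ℕ) < m then (i : ℕ) + 1 else m, by have := i.isLt; simp only [dim]; split_ifs <;> omega⟩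

variable (hm : 2 ≤ m)

theorem isPair (i : Fin (m + 1)) : IsPair (pa hm i) (pb hm i) := by
  refine ⟨?_, ?_⟩ <;> simp only [pa, pb, dim] <;> split_ifs <;> omega

theorem pair_double (i : Fin (m + 1)) : IsDouble (pairPerm (pa hm i) (pb hm i)) :=
  ⟨pa hm i, pb hm i, (isPair hm i).adj, (isPair hm i).lt_rev, rfl⟩

/-- The permutation conjugating the pair to the node. -/
def tw (i : Fin (m + 1)) : Equiv.Perm (Fin (dim m)) := if (i : ℕ) < m then 1 else mid m

theorem tw_cases (i : Fin (m + 1)) : (tw i = 1 ∧ (i : ℕ) < m) ∨ (tw i = mid m ∧ (i : ℕ) = m) := by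
  have := i.isLt
  by_cases h : (i : ℕ) < m
  · exact Or.inl ⟨if_pos h, h⟩
  · exact Or.inr ⟨if_neg h, by omega⟩

theorem tw_inv (i : Fin (m + 1)) : (tw i)⁻¹ = tw i := by
  rcases tw_cases i with ⟨e, -⟩ | ⟨e, -⟩ <;> rw [e]
  · exact inv_one
  · exact mid_inv

theorem tw_unitri (i : Fin (m + 1)) {u : GL (Fin (dim m)) F} (hu : u ∈ UPlus m F) :
    permGL F (tw i) * u * (permGL F (tw i))⁻¹ ∈ UPlus m F := by
  rcases tw_cases i with ⟨e, -⟩ | ⟨e, -⟩ <;> rw [e]
  · simpa [permGL_one] using hu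
  · exact perm_conj_unitri_mid hu

/-- The node. -/
noncomputable def nodeGL (i : Fin (m + 1)) : SpecialLinearGroup (Fin 2) F →* GL (Fin (dim m)) F :=
  (MulAut.conj (permGL F (tw i))).toMonoidHom.comp (pairHom 1 (isPair hm i))

theorem nodeGL_apply (i : Fin (m + 1)) (A : SpecialLinearGroup (Fin 2) F) :
    nodeGL hm i A = permGL F (tw i) * pairHom 1 (isPair hm i) A * (permGL F (tw i))⁻¹ := rfl

theorem nodeGL_mem (i : Fin (m + 1)) (A : SpecialLinearGroup (Fin 2) F) : nodeGL hm i A ∈ GPlus m F := by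
  have h : pairHom (1 : Fin (dim m) → Fˣ) (isPair hm i) A ∈ GPlus m F :=
    dbl_mem_GPlus (isPair hm i).half (fun a b hab => by
      fin_cases a <;> fin_cases b <;> simp_all [pair2_zero, pair2_one, (isPair hm i).lt]) A
  rw [nodeGL_apply]
  rcases tw_cases i with ⟨e, -⟩ | ⟨e, -⟩ <;> rw [e]
  · simpa [permGL_one] using h
  · exact mid_conj_GPlus h

/-- The rank one subgroups. -/
noncomputable def node (i : Fin (m + 1)) : SpecialLinearGroup (Fin 2) F →* ↥(GPlus m F) :=
  (nodeGL hm i).codRestrict _ (nodeGL_mem hm i)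

theorem node_coe (i : Fin (m + 1)) (A : SpecialLinearGroup (Fin 2) F) :
    (node hm i A : GL (Fin (dim m)) F) = permGL F (tw i) * pairHom 1 (isPair hm i) A * (permGL F (tw i))⁻¹ := rfl

/-- The fundamental reflections. -/
def refl (i : Fin (m + 1)) : ↥(WPlus m) :=
  ⟨tw i * pairPerm (pa hm i) (pb hm i) * tw i, Subgroup.subset_closure (by
    refine ⟨_, pair_double hm i, ?_⟩
    rcases tw_cases i with ⟨e, -⟩ | ⟨e, -⟩ <;> rw [e]
    · exact Or.inl (by rw [one_mul, mul_one])
    · exact Or.inr rfl)⟩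

/-- The coroots on the first half. -/
def coVec (i : Fin (m + 1)) (l : Fˣ) : Fin (m + 1) → Fˣ :=
  if (i : ℕ) < m then adjVec (i : ℕ) l else fun x => if (x : ℕ) + 1 = m ∨ (x : ℕ) = m then l else 1

theorem node_di (i : Fin (m + 1)) (l : Fˣ) :
    (node hm i (diSL l) : GL (Fin (dim m)) F) = diagGL (halfVec (m + 1) (coVec i l)) := by
  rw [node_coe, pair_di _ (isPair hm i) (m := m + 1) (by simp only [pb]; split_ifs <;> omega)
    (by simp only [dim]; omega)]
  rw [perm_conj_diag, tw_inv]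
  congr 1
  funext x
  have hx := Fin.val_rev x
  have := x.isLt
  have hi := i.isLt
  have hA : ((midA m : Fin (dim m)) : ℕ) = m := rfl
  have hB := midA_rev_val (m := m)
  simp only [dim] at *
  rcases tw_cases i with ⟨e, hi'⟩ | ⟨e, hi'⟩ <;> rw [e]
  · rw [Equiv.Perm.one_apply, coVec, if_pos hi']
    simp [pa, hi']
  · rw [coVec, if_neg (by omega), show ((pa hm i : Fin (dim m)) : ℕ) = m - 1 by simp [pa, hi']]
    rcases (show (x : ℕ) = m ∨ (x : ℕ) = m + 1 ∨ ((x : ℕ) ≠ m ∧ (x : ℕ) ≠ m + 1) by omega) with h | h | h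
    · rw [mid_of_eq h, halfVec_high _ (by omega) (by rw [Fin.rev_rev]; omega),
        halfVec_low _ (show (x : ℕ) < m + 1 by omega)]
      simp only [adjVec, Fin.rev_rev, hA]
      split_ifs <;> first | omega | simp
    · rw [mid_of_eq' h, halfVec_low _ (show ((midA m : Fin (dim m)) : ℕ) < m + 1 by omega),
        halfVec_high _ (by omega) (show (x.rev : ℕ) < m + 1 by omega)]
      simp only [adjVec, hA]
      split_ifs <;> first | omega | simp
    · rw [mid_of_ne h.1 h.2]
      by_cases hlo : (x : ℕ) < m + 1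
      · rw [halfVec_low _ hlo, halfVec_low _ hlo]
        simp only [adjVec]
        split_ifs <;> first | omega | simp
      · rw [halfVec_high _ hlo (by omega), halfVec_high _ hlo (by omega)]
        simp only [adjVec]
        split_ifs <;> first | omega | simp

/-- The exponent of a coroot at a place of the first half. -/
def dBase (m j x : ℕ) : ℤ :=
  if j < m then (if x = j then 1 else if x = j + 1 then -1 else 0)
  else (if x + 1 = m ∨ x = m then 1 else 0)

theorem half_zpow (j : Fin (m + 1)) (l : Fˣ) (x : Fin (dim m)) (hx : (x : ℕ) < m + 1) :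
    (halfVec (m + 1) (coVec j l) : Fin (dim m) → Fˣ) x = l ^ dBase m j x := by
  rw [halfVec_low _ hx]
  simp only [coVec, dBase]
  split_ifs <;> simp only [adjVec] <;> split_ifs <;> first | omega | simp

/-- The pairing of the simple roots and coroots. -/
def cartan (m i j : ℕ) : ℤ :=
  if i < m then dBase m j i - dBase m j (i + 1) else dBase m j (m - 1) + dBase m j m

theorem tw_pb (i : Fin (m + 1)) :
    (((i : ℕ) < m ∧ (tw i (pa hm i) : ℕ) = i ∧ (tw i (pb hm i) : ℕ) = i + 1) ∨
      ((i : ℕ) = m ∧ (tw i (pa hm i) : ℕ) = m - 1 ∧ (tw i (pb hm i) : ℕ) = m + 1)) := by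
  rcases tw_cases i with ⟨e, h⟩ | ⟨e, h⟩ <;> rw [e]
  · exact Or.inl ⟨h, by simp [pa, h], by simp [pb, h]⟩
  · have ha : (pa hm i : ℕ) = m - 1 := by simp [pa, h]
    have hb : (pb hm i : ℕ) = m := by simp [pb, h]
    exact Or.inr ⟨h, by rw [mid_of_ne (by omega) (by omega), ha], by rw [mid_of_eq hb, midA_rev_val]⟩

/-- The character of a node. -/
noncomputable def chi (i : Fin (m + 1)) : ↥(plusAmb m F).H →* Fˣ :=
  ((entryHom (tw i (pa hm i)) : ↥(torus (dim m) F) →* Fˣ) / entryHom (tw i (pb hm i))).comp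
    { toFun := fun g => ⟨((g.1 : ↥(GPlus m F)) : GL (Fin (dim m)) F), g.2.1⟩
      map_one' := rfl
      map_mul' := fun _ _ => rfl }

theorem chi_diag (i : Fin (m + 1)) (d : Fin (dim m) → Fˣ) (g : ↥(GPlus m F)) (hg : g ∈ (plusAmb m F).H)
    (h : (g : GL (Fin (dim m)) F) = diagGL d) :
    chi hm i ⟨g, hg⟩ = d (tw i (pa hm i)) / d (tw i (pb hm i)) := by
  obtain ⟨g, hgG⟩ := g
  subst h
  show entryHom _ (⟨diagGL d, _⟩ : ↥(torus (dim m) F)) / entryHom _ ⟨diagGL d, _⟩ = _
  exact congrArg₂ (· / ·) (entryHom_diag d _ _) (entryHom_diag d _ _)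

theorem node_up_mem (i : Fin (m + 1)) (t : F) :
    (node hm i (upSL t) : GL (Fin (dim m)) F) ∈ outPart (refl hm i).1⁻¹ := by
  have hp := isPair hm i
  show _ ∈ outPart (tw i * pairPerm (pa hm i) (pb hm i) * tw i)⁻¹
  rcases tw_cases i with ⟨e, hi⟩ | ⟨e, hi⟩
  · rw [node_coe, e, permGL_one, one_mul, inv_one, mul_one, one_mul, mul_one]
    exact pair_up_mem _ hp t
  have hP : (permGL F (mid m))⁻¹ = permGL F (mid m) := by rw [permGL_inv, mid_inv]
  rw [node_coe, e, pair_up, show ∀ X Y Z : GL (Fin (dim m)) F, Z * (X * Y) * Z⁻¹ = (Z * X * Z⁻¹) * (Z * Y * Z⁻¹)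
    from fun X Y Z => by group]
  have key : ∀ (a b : Fin (dim m)) (hab : a ≠ b) (s : F), a < b → pairPerm (pa hm i) (pb hm i) a = b →
      pairPerm (pa hm i) (pb hm i) b = a → ¬ ((a : ℕ) = m ∧ (b : ℕ) = m + 1) →
      permGL F (mid m) * xGL hab s * (permGL F (mid m))⁻¹ ∈
        outPart (mid m * pairPerm (pa hm i) (pb hm i) * mid m)⁻¹ := by
    intro a b hab s hlt ha hb hne
    have e' := xGL_perm_conj (F := F) (mid m) hab s
    rw [hP] at e' ⊢
    rw [e']
    have hlt' := mid_lt hlt hne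
    refine xGL_mem_outPart (by simpa [mid_inv] using hlt') s ?_
    simp only [inv_inv, Equiv.Perm.mul_apply, mid_inv, ← Equiv.Perm.mul_apply (mid m) (mid m), mid_sq,
      Equiv.Perm.one_apply, ha, hb]
    exact hlt'
  have h1 := hp.adj
  have h2 := hp.low
  have hA := Fin.val_rev (pa hm i)
  have hB := Fin.val_rev (pb hm i)
  have ha : (pa hm i : ℕ) = m - 1 := by simp [pa, hi]
  refine mul_mem (key _ _ _ _ hp.lt ?_ ?_ (by omega)) (key _ _ _ _ (Fin.rev_lt_rev.2 hp.lt) ?_ ?_ ?_)
  · refine Fin.ext ?_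
    simp only [pairPerm, Equiv.Perm.mul_apply, Equiv.swap_apply_def, Fin.ext_iff]
    split_ifs <;> omega
  · refine Fin.ext ?_
    simp only [pairPerm, Equiv.Perm.mul_apply, Equiv.swap_apply_def, Fin.ext_iff]
    split_ifs <;> omega
  · refine Fin.ext ?_
    simp only [pairPerm, Equiv.Perm.mul_apply, Equiv.swap_apply_def, Fin.ext_iff]
    split_ifs <;> omega
  · refine Fin.ext ?_
    simp only [pairPerm, Equiv.Perm.mul_apply, Equiv.swap_apply_def, Fin.ext_iff]
    split_ifs <;> omega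
  · simp only [dim] at *; omega

variable (m F) in
/-- The fundamental rank one subgroups. -/
noncomputable def pinned : Pinned (plusAmb m F) (w0 m) F (Fin (m + 1)) where
  H_comm _ ha _ hb := Subtype.ext (torus_comm _ ha.1 _ hb.1)
  s := refl hm
  s_mem i := by
    refine ⟨_, pair_double hm i, ?_⟩
    rcases tw_cases i with ⟨e, -⟩ | ⟨e, -⟩
    · left
      show tw i * pairPerm (pa hm i) (pb hm i) * tw i = _
      rw [e, one_mul, mul_one]
    · right
      show tw i * pairPerm (pa hm i) (pb hm i) * tw i = _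
      rw [e]
  s_surj := by
    rintro ⟨r, hr⟩ ⟨d, ⟨a, b, hab, hb, rfl⟩, hc⟩
    have hbv := b.isLt
    have hbm : (b : ℕ) ≤ m := by
      rw [Fin.lt_def, Fin.val_rev] at hb
      simp only [dim] at *
      omega
    have hfst : ∀ i : Fin (m + 1), (i : ℕ) = a → tw i * pairPerm (pa hm i) (pb hm i) * tw i =
        Equiv.swap a b * Equiv.swap b.rev a.rev := fun i hi => by
      rw [show tw i = 1 from if_pos (by omega), one_mul, mul_one,
        show pa hm i = a from Fin.ext (by simp [pa, hi, show (a : ℕ) < m by omega]),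
        show pb hm i = b from Fin.ext (by simp [pb, hi, hab, show (a : ℕ) < m by omega])]
      rfl
    rcases hc with e | e
    · exact ⟨⟨a, by omega⟩, Subtype.ext ((hfst _ rfl).trans e.symm)⟩
    · by_cases hbm' : (b : ℕ) = m
      · refine ⟨Fin.last m, Subtype.ext (Eq.trans ?_ e.symm)⟩
        show tw (Fin.last m) * pairPerm _ _ * tw (Fin.last m) = _
        rw [show tw (Fin.last m) = mid m from if_neg (lt_irrefl _),
          show pa hm (Fin.last m) = a from Fin.ext (by simp [pa]; omega),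
          show pb hm (Fin.last m) = b from Fin.ext (by simp [pb]; omega)]
        rfl
      · refine ⟨⟨a, by omega⟩, Subtype.ext ((hfst _ rfl).trans ?_)⟩
        rw [e]
        have hA := Fin.val_rev a
        have hB := Fin.val_rev b
        have hfix : ∀ x : Fin (dim m), ((x : ℕ) = m ∨ (x : ℕ) = m + 1) →
            (Equiv.swap a b * Equiv.swap b.rev a.rev) x = x := fun x hx => by
          simp only [Equiv.Perm.mul_apply, Equiv.swap_apply_def, Fin.ext_iff, dim] at *
          split_ifs <;> omega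
        have hd1 := hfix (midA m) (Or.inl rfl)
        have hd2 := hfix (midA m).rev (Or.inr midA_rev_val)
        symm
        rw [OPlus.mid]
        set d := Equiv.swap a b * Equiv.swap b.rev a.rev
        rw [mul_assoc, Equiv.mul_swap_eq_swap_mul, hd1, hd2, ← mul_assoc, Equiv.swap_mul_self, one_mul]
  φ := node hm
  up i t := ⟨node_up_mem hm i t, GPlus_le_OGrp (node hm i (upSL t)).2⟩
  up_surj i x hx := by
    obtain ⟨hx1, hxO⟩ := hx
    refine ⟨((permGL F (tw i) * (x : GL (Fin (dim m)) F) * (permGL F (tw i))⁻¹ : GL _ F) :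
      Matrix (Fin (dim m)) (Fin (dim m)) F) (pa hm i) (pb hm i), Subtype.ext ?_⟩
    have hmem : permGL F (tw i) * (x : GL (Fin (dim m)) F) * (permGL F (tw i))⁻¹ ∈
        outPart (pairPerm (pa hm i) (pb hm i))⁻¹ := by
      have hx2 : (x : GL (Fin (dim m)) F) ∈ outPart (tw i * pairPerm (pa hm i) (pb hm i) * tw i)⁻¹ := hx1
      rcases tw_cases i with ⟨e, -⟩ | ⟨e, hi⟩ <;> rw [e] at hx2 ⊢
      · simpa [permGL_one] using hx2
      · exact mid_pair_support (isPair hm i) (by simp [pb, hi]) hxO hx2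
    have hO : permGL F (tw i) * (x : GL (Fin (dim m)) F) * (permGL F (tw i))⁻¹ ∈ OGrp m F :=
      (tw_unitri i (⟨(mem_outPart.1 hx1).1, hxO⟩ : (x : GL (Fin (dim m)) F) ∈ UPlus m F)).2
    rw [node_coe, pair_up_surj _ (isPair hm i) hmem (fixed_of_mem hO)]
    have hP : permGL F (tw i) * permGL F (tw i) = 1 := by
      rw [← permGL_mul]
      nth_rewrite 1 [← tw_inv i]
      rw [inv_mul_cancel, permGL_one]
    rw [show (permGL F (tw i))⁻¹ = permGL F (tw i) from inv_eq_of_mul_eq_one_right hP]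
    simp only [mul_assoc, hP, mul_one]
    rw [← mul_assoc, hP, one_mul]
  up_inj i t ht := by
    have ht' := congrArg Subtype.val ht
    rw [node_coe, OneMemClass.coe_one, mul_inv_eq_one, mul_eq_left] at ht'
    exact pair_up_inj _ (isPair hm i) ht'
  rep i := by
    obtain ⟨d, hd⟩ := pair_w (1 : Fin (dim m) → Fˣ) (isPair hm i)
    refine ⟨(plusAmb m F).n (refl hm i) * (node hm i (wSL F))⁻¹, ⟨?_, ?_⟩, by rw [inv_mul_cancel_right]⟩
    · show permGL F (refl hm i).1 * (node hm i (wSL F) : GL (Fin (dim m)) F)⁻¹ ∈ torus (dim m) F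
      have e : (node hm i (wSL F) : GL (Fin (dim m)) F) =
          diagGL (fun x => d ((tw i)⁻¹ x)) * permGL F (refl hm i).1 := by
        rw [node_coe, hd]
        show _ = _ * permGL F (tw i * pairPerm (pa hm i) (pb hm i) * tw i)
        rcases tw_cases i with ⟨e, -⟩ | ⟨e, -⟩ <;> rw [e]
        · simp [permGL_one]
        · exact mid_perm_conj d
      rw [e, _root_.mul_inv_rev, ← mul_assoc, mul_inv_cancel, one_mul]
      exact inv_mem (diag_mem_torus _)
    · exact GPlus_le_OGrp ((plusAmb m F).n (refl hm i) * (node hm i (wSL F))⁻¹).2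
  lo_opp i t := by
    refine ⟨?_, GPlus_le_OGrp (((plusAmb m F).n (w0 m))⁻¹ * node hm i (loSL t) * (plusAmb m F).n (w0 m)).2⟩
    show (permGL F (w0 m).1)⁻¹ * (node hm i (loSL t) : GL (Fin (dim m)) F) * permGL F (w0 m).1 ∈
      outPart ((w0 m).1 * (tw i * pairPerm (pa hm i) (pb hm i) * tw i) * (w0 m).1)⁻¹
    obtain ⟨π, hπ⟩ : ∃ π, π = tw i * (w0 m).1 := ⟨_, rfl⟩
    have hπc : π = Fin.revPerm ∨ π = Fin.revPerm * mid m := by
      rcases tw_cases i with ⟨e, -⟩ | ⟨e, -⟩ <;> rw [hπ, e]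
      · rw [one_mul]; exact w0_spec
      · exact w0_mid
    have hπs : revConj π = π := by
      rcases hπc with e | e <;> rw [e]
      · exact TwData.rev_mem_symPerm
      · exact mul_mem (s := TwData.symPerm (dim m)) TwData.rev_mem_symPerm mid_sym
    have hπi : π⁻¹ (pb hm i) < π⁻¹ (pa hm i) := by
      have h1 := (isPair hm i).lt
      have hb : (pb hm i : ℕ) ≤ m := by simp only [pb]; split_ifs <;> omega
      have h2 := Fin.rev_lt_rev.2 h1
      rcases hπc with e | e <;> rw [e]
      · rw [Equiv.Perm.inv_def]; exact h2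
      · rw [_root_.mul_inv_rev, mid_inv, Equiv.Perm.mul_apply, Equiv.Perm.mul_apply, Equiv.Perm.inv_def]
        refine mid_lt h2 fun e => ?_
        have := e.1
        simp only [Fin.revPerm_symm, Fin.revPerm_apply, Fin.val_rev] at this
        simp only [dim] at *
        omega
    have h := pair_lo_mem (1 : Fin (dim m) → Fˣ) (isPair hm i) 1 π hπs hπi t
    have hπ' : π⁻¹ = (w0 m).1 * tw i := by rw [hπ, _root_.mul_inv_rev, w0_inv, tw_inv]
    rw [diagGL_one, one_mul, hπ', hπ, permGL_mul] at h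
    have hP : (permGL F (tw i))⁻¹ = permGL F (tw i) := by rw [permGL_inv, tw_inv]
    rw [show (permGL F (tw i) * permGL F (w0 m).1)⁻¹ = (permGL F (w0 m).1)⁻¹ * permGL F (tw i) by
      rw [_root_.mul_inv_rev, hP]] at h
    rw [node_coe, hP]
    simp only [mul_assoc] at h ⊢
    exact h
  di_mem i l := by
    refine ⟨?_, GPlus_le_OGrp (node hm i (diSL l)).2⟩
    show (node hm i (diSL l) : GL (Fin (dim m)) F) ∈ torus (dim m) F
    rw [node_di]; exact diag_mem_torus _
  χ := chi hm
  conj i := by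
    rintro ⟨g, hg⟩ A
    obtain ⟨d, hd⟩ := exists_of_mem_torus hg.1
    have hd' : (g : GL (Fin (dim m)) F) = diagGL d := hd
    rw [chi_diag hm i d g hg hd']
    refine Subtype.ext ?_
    show (g : GL (Fin (dim m)) F) * (node hm i A : GL (Fin (dim m)) F) * (g : GL (Fin (dim m)) F)⁻¹ = _
    rw [node_coe, node_coe, hd']
    set P := permGL F (tw i)
    have hT : P⁻¹ * diagGL d * P = diagGL fun x => d (tw i x) := by
      have := perm_conj_diag (F := F) (tw i)⁻¹ d
      rw [← permGL_inv, inv_inv, inv_inv] at this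
      exact this
    have hfix : tau (1 : Fin (dim m) → Fˣ) (diagGL fun x => d (tw i x)) = diagGL fun x => d (tw i x) := by
      refine fixed_of_mem ?_
      rw [← hT]
      have hPO : P ∈ OGrp m F := permGL_mem_OGrp (by
        rcases tw_cases i with ⟨e, -⟩ | ⟨e, -⟩ <;> rw [e]
        · exact (TwData.symPerm (dim m)).one_mem
        · exact mid_sym)
      exact (OGrp m F).mul_mem ((OGrp m F).mul_mem ((OGrp m F).inv_mem hPO)
        (by rw [← hd']; exact GPlus_le_OGrp g.2)) hPO
    rw [show diagGL d * (P * pairHom 1 (isPair hm i) A * P⁻¹) * (diagGL d)⁻¹ =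
      P * ((P⁻¹ * diagGL d * P) * pairHom 1 (isPair hm i) A * (P⁻¹ * diagGL d * P)⁻¹) * P⁻¹ by group, hT,
      pair_conj _ (isPair hm i) hfix]
  C i j := cartan m i j
  pair i j l := by
    refine (chi_diag hm i _ _ _ (node_di hm j l)).trans ?_
    show _ = l ^ cartan m i j
    simp only [cartan]
    rcases tw_pb hm i with ⟨h, ha, hb⟩ | ⟨h, ha, hb⟩
    · rw [if_pos h, half_zpow _ _ _ (by omega), half_zpow _ _ _ (by omega), ha, hb, _root_.zpow_sub,
        div_eq_mul_inv]
    · rw [if_neg (by omega), half_zpow _ _ _ (by omega), ha]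
      have hr : ((tw i (pb hm i)).rev : ℕ) = m := by rw [Fin.val_rev, hb]; simp only [dim]; omega
      conv_lhs => rw [← Fin.rev_rev (tw i (pb hm i))]
      rw [halfVec_sym (show 2 * (m + 1) ≤ dim m by simp only [dim]; omega), half_zpow _ _ _ (by omega), hr,
        div_eq_mul_inv, inv_inv, ← _root_.zpow_add]
  diag i := by
    have := i.isLt
    simp only [cartan, dBase]
    split_ifs <;> first | omega | simp_all
  col j := by
    refine col_of_bound (fun i j : Fin (m + 1) => cartan m i j) j (Finset.univ.erase j)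
      (fun i => (if (i : ℕ) < m ∧ (i : ℕ) + 1 = j ∧ (j : ℕ) < m then 1 else 0) +
        (if (i : ℕ) < m ∧ (i : ℕ) = (j : ℕ) + 1 then 1 else 0) +
        (if ((i : ℕ) = m ∧ (j : ℕ) + 2 = m) ∨ ((j : ℕ) = m ∧ (i : ℕ) + 2 = m) then 1 else 0))
      (fun i hi hT => absurd (Finset.mem_erase.2 ⟨hi, Finset.mem_univ i⟩) hT) (fun i hi => ?_) ?_
    · have hne : (i : ℕ) ≠ j := fun e => (Finset.mem_erase.1 hi).1 (Fin.ext e)
      have := i.isLt
      have := j.isLt
      simp only [cartan, dBase]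
      split_ifs <;> omega
    · rw [Finset.sum_add_distrib, Finset.sum_add_distrib, ← Finset.sum_filter, ← Finset.sum_filter,
        ← Finset.sum_filter, Finset.sum_const, Finset.sum_const, Finset.sum_const]
      have h1 : ((Finset.univ.erase j).filter
          fun i : Fin (m + 1) => (i : ℕ) < m ∧ (i : ℕ) + 1 = (j : ℕ) ∧ (j : ℕ) < m).card ≤ 1 :=
        Finset.card_le_one.2 fun a ha b hb => Fin.ext (by
          have := (Finset.mem_filter.1 ha).2; have := (Finset.mem_filter.1 hb).2; omega)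
      have h2 : ((Finset.univ.erase j).filter
          fun i : Fin (m + 1) => (i : ℕ) < m ∧ (i : ℕ) = (j : ℕ) + 1).card ≤ 1 :=
        Finset.card_le_one.2 fun a ha b hb => Fin.ext (by
          have := (Finset.mem_filter.1 ha).2; have := (Finset.mem_filter.1 hb).2; omega)
      have h3 : ((Finset.univ.erase j).filter fun i : Fin (m + 1) =>
          ((i : ℕ) = m ∧ (j : ℕ) + 2 = m) ∨ ((j : ℕ) = m ∧ (i : ℕ) + 2 = m)).card ≤ 1 :=
        Finset.card_le_one.2 fun a ha b hb => Fin.ext (by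
          have := (Finset.mem_filter.1 ha).2; have := (Finset.mem_filter.1 hb).2
          have := a.isLt; have := b.isLt; omega)
      simp only [smul_eq_mul]
      omega
  conn := conn_of_parent _ (fun i : Fin (m + 1) => (i : ℕ)) (fun i hi => by
      have := i.isLt
      have hi' : (i : ℕ) ≠ 0 := hi
      by_cases h : (i : ℕ) = m
      · refine ⟨⟨m - 2, by omega⟩, show m - 2 < i by omega, ?_⟩
        constructor <;> simp only [cartan, dBase] <;> split_ifs <;> omega
      · refine ⟨⟨(i : ℕ) - 1, by omega⟩, show (i : ℕ) - 1 < i by omega, ?_⟩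
        constructor <;> simp only [cartan, dBase] <;> split_ifs <;> omega)
    (fun i i' h h' => Fin.ext (h.trans h'.symm))

end Cfsg.Agent.H14.ThompsonSplit.PlusCase
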