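import Cfsg.Agent.H13.Split.Basic
import Cfsg.Agent.H84.Gauss.Prod

/-!
Conjugating an element of a split Tits system into `U⁻ H U` with a non-trivial component at a
prescribed fundamental root; the longest element need not be central.
-/

set_option autoImplicit false
set_option linter.unusedSectionVars false

namespace Cfsg.Agent.H14.ThompsonSplit

open Cfsg.Agent.H28 Cfsg.Agent.H13.Split
open Cfsg.Agent.H37 (Tits.Ambient)
open Cfsg.Agent.H84.Gauss (Meets meets_up meets_down meets_one mem_cell_one)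

variable {G W : Type*} [Group G] [Group W] [Finite G] {A : Tits.Ambient G W} {p : ℕ}
  [Fact p.Prime] (hA : Hyp A p) {w₀ : W} (hw₀ : A.Uw w₀ = A.U)
include hA hw₀

theorem sq_w₀ : w₀ * w₀ = 1 := by
  have h := full_inv A hw₀
  calc w₀ * w₀ = w₀⁻¹ * w₀ := by rw [h]
    _ = 1 := inv_mul_cancel _

/-- The longest element permutes the fundamental reflections. -/
theorem sigma_mem {s : W} (hs : s ∈ A.S) : w₀ * s * w₀ ∈ A.S := by
  have hinv := full_inv A hw₀
  have h1 := ell_full A hw₀ (w₀ * s)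
  have h2 := (descent_of_full A hw₀ hs).1
  rw [mul_inv_rev, hinv, A.S_inv hs, ← mul_assoc] at h1
  have h3 : ell A (w₀ * s * w₀) = 1 := by omega
  have hne : w₀ * s * w₀ ≠ 1 := fun h => by rw [h, ell_one] at h3; omega
  obtain ⟨r, hr, e⟩ := exists_left_descent A hne
  have h4 : r * (w₀ * s * w₀) = 1 := eq_one_of_ell A (by omega)
  rw [mul_eq_one_iff_inv_eq, A.S_inv hr] at h4
  exact h4 ▸ hr

theorem sigma_mul {s : W} : w₀ * s * w₀ * (w₀ * s⁻¹) = w₀ := by
  rw [mul_assoc, ← mul_assoc w₀ w₀, sq_w₀ hA hw₀, one_mul, mul_inv_cancel_right]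

theorem ell_co {t : W} (ht : t ∈ A.S) : ell A (w₀ * t) + 1 = ell A w₀ :=
  (descent_of_full A hw₀ ht).1

theorem meets_w₀_self {r : W} (hr : r ∈ A.S) : Meets A r w₀ w₀ :=
  meets_down hr (descent_of_full A hw₀ hr).2

theorem meets_co_up {t : W} (ht : t ∈ A.S) : Meets A (w₀ * t * w₀) (w₀ * t) w₀ := by
  have e : w₀ * t * w₀ * (w₀ * t) = w₀ := by
    have := sigma_mul hA hw₀ (s := t)
    rwa [A.S_inv ht] at this
  have := meets_up (A := A) (a := w₀ * t * w₀) (b := w₀ * t) (by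
    rw [e, ell_S A (sigma_mem hA hw₀ ht)]; have := ell_co hA hw₀ ht; omega)
  rwa [e] at this

theorem meets_co_self {r t : W} (hr : r ∈ A.S) (ht : t ∈ A.S) (hrt : r ≠ w₀ * t * w₀) :
    Meets A r (w₀ * t) (w₀ * t) := by
  refine meets_down hr ?_
  have h1 := ell_full A hw₀ (w₀ * r * w₀ * t)⁻¹
  rw [inv_inv, ell_inv] at h1
  have e : w₀ * (w₀ * r * w₀ * t) = r * (w₀ * t) := by
    simp only [← mul_assoc, sq_w₀ hA hw₀, one_mul]
  rw [e] at h1
  have hr' := sigma_mem hA hw₀ hr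
  have h2 : ell A (w₀ * r * w₀ * t) = 2 := by
    rcases ell_cases A hr' t with h | h
    · rw [h, ell_S A ht]
    · rw [ell_S A ht] at h
      refine absurd ?_ hrt
      have h5 : w₀ * r * w₀ = t :=
        (mul_eq_one_iff_eq_inv.1 (eq_one_of_ell A (w := w₀ * r * w₀ * t) (by omega))).trans
          (A.S_inv ht)
      rw [← h5]
      simp only [← mul_assoc, sq_w₀ hA hw₀, one_mul]
      rw [mul_assoc, sq_w₀ hA hw₀, mul_one]
  have h3 := ell_co hA hw₀ ht
  omega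

/-- Outside the parabolic subgroup missing the opposite of `t` every cell carries the cell of
`w₀ t` to the big cell. -/
theorem meets_big {t : W} (ht : t ∈ A.S) {m : W}
    (hm : m ∉ Subgroup.closure (A.S \ {w₀ * t * w₀})) : Meets A m (w₀ * t) w₀ := by
  suffices ∀ n, ∀ m : W, ell A m = n → Meets A m (w₀ * t) w₀ ∨
      (m ∈ Subgroup.closure (A.S \ {w₀ * t * w₀}) ∧ Meets A m (w₀ * t) (w₀ * t)) from
    (this _ m rfl).resolve_right fun h => hm h.1
  intro n
  induction n using Nat.strong_induction_on with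
  | _ n ih =>
  intro m hn
  by_cases h1 : m = 1
  · subst h1; exact Or.inr ⟨one_mem _, meets_one _⟩
  obtain ⟨r, hr, e⟩ := exists_left_descent A h1
  have hm' : m = r * (r * m) := by rw [← mul_assoc, A.sq_S r hr, one_mul]
  have hl : ell A (r * (r * m)) = ell A (r * m) + 1 := by rw [← hm']; omega
  rcases ih (ell A (r * m)) (by omega) (r * m) rfl with h | ⟨hmem, h⟩
  · exact Or.inl (hm' ▸ Meets.comp hr hl h (meets_w₀_self hA hw₀ hr))
  · by_cases hrt : r = w₀ * t * w₀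
    · subst hrt
      exact Or.inl (hm' ▸ Meets.comp hr hl h (meets_co_up hA hw₀ ht))
    · refine Or.inr ⟨?_, hm' ▸ Meets.comp hr hl h (meets_co_self hA hw₀ hr ht hrt)⟩
      rw [hm']
      exact mul_mem (Subgroup.subset_closure ⟨hr, hrt⟩) hmem

/-- Some maximal parabolic subgroup of the Weyl group misses a given non-trivial element. -/
theorem exists_not_mem_closure {w : W} (hw : w ≠ 1) :
    ∃ r ∈ A.S, w ∉ Subgroup.closure (A.S \ {r}) := by
  obtain ⟨r, hr, e⟩ := exists_left_descent A hw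
  refine ⟨r, hr, fun hmem => ?_⟩
  have hJ : A.n '' (A.S \ {r}) ⊆ A.pair.S := Set.image_mono Set.sdiff_subset
  obtain ⟨x, hx, y, hy, hxy⟩ := meets_down hr e
  have hP : ∀ z ∈ cell A w, z ∈ A.pair.parabolic (A.n '' (A.S \ {r})) := by
    intro z hz
    obtain ⟨a, ha, b, hb, rfl⟩ := Cfsg.Agent.H84.Gauss.mem_cell_iff.1 hz
    exact mul_mem (mul_mem (le_sup_left (α := Subgroup G) ha) (hA.n_mem_parabolic hmem))
      (le_sup_left (α := Subgroup G) hb)
  have hxP : x ∈ A.pair.parabolic (A.n '' (A.S \ {r})) := by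
    have := mul_mem (hP _ hxy) (inv_mem (hP _ hy))
    rwa [mul_inv_cancel_right] at this
  obtain ⟨a, ha, b, hb, rfl⟩ := Cfsg.Agent.H84.Gauss.mem_cell_iff.1 hx
  have hnP : A.n r ∈ A.pair.parabolic (A.n '' (A.S \ {r})) := by
    have := mul_mem (mul_mem (inv_mem (le_sup_left (α := Subgroup G) ha)) hxP)
      (inv_mem (le_sup_left (α := Subgroup G) hb))
    rwa [show a⁻¹ * (a * A.n r * b) * b⁻¹ = A.n r by group] at this
  obtain ⟨r', hr', e'⟩ := Cfsg.Agent.H28.mem_of_mem_parabolic hJ (nS_mem A hr) hnP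
  refine hr'.2 (A.n_inj_B ?_)
  rw [e', inv_mul_cancel]
  exact one_mem _

/-- Twisting the second factor by the torus and the radical of `t` does not change the cell. -/
theorem cell_twist {t v : W} (ht : t ∈ A.S) {x k r : G} (hx : x ∈ cell A t) (hk : k ∈ A.H)
    (hr : r ∈ rad A t) (h : A.n w₀ * x ∈ cell A v) : A.n w₀ * (k * r * x) ∈ cell A v := by
  obtain ⟨u, hu, a, ha, w, hw, rfl⟩ := cell_nf A hx
  have hwB : w ∈ A.B := A.U_le_B (A.Uw_le t hw)
  have hd1 : (u⁻¹ * r * u) ∈ rad A t := by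
    simpa using hA.norm t ht u⁻¹ (inv_mem hu) r hr
  set d := (A.n t)⁻¹ * (a⁻¹ * (u⁻¹ * r * u) * a) * A.n t with hd
  have hdB : d ∈ A.B := by
    obtain ⟨l, hl, el⟩ := A.n_inv t
    rw [A.S_inv ht] at el
    have h2 : a⁻¹ * (u⁻¹ * r * u) * a ∈ rad A t := by
      simpa using hA.rad_conj_H t (inv_mem ha) hd1
    rw [hd, show (A.n t)⁻¹ * (a⁻¹ * (u⁻¹ * r * u) * a) * A.n t =
      (A.n t)⁻¹ * (a⁻¹ * (u⁻¹ * r * u) * a) * ((A.n t)⁻¹)⁻¹ by group, el,
      show l * A.n t * (a⁻¹ * (u⁻¹ * r * u) * a) * (l * A.n t)⁻¹ =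
        l * (A.n t * (a⁻¹ * (u⁻¹ * r * u) * a) * (A.n t)⁻¹) * l⁻¹ by group]
    exact A.U_le_B (A.H_conj_U l hl _ h2.2)
  rw [show A.n w₀ * (k * r * (u * a * A.n t * w)) =
    (A.n w₀ * k * (A.n w₀)⁻¹) * (A.n w₀ * (u * a * A.n t * w)) * (w⁻¹ * d * w) by
      simp only [hd]; group]
  exact cell_right A (cell_left A (A.H_le_B (A.n_conj_H w₀ k hk)) h)
    (mul_mem (mul_mem (inv_mem hwB) hdB) hwB)

/-- An element outside the parabolic subgroup missing the opposite of `t` is conjugate under `U` to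
an element of `U⁻ H U` whose component at `t` is nontrivial. -/
theorem exists_gauss {t : W} (ht : t ∈ A.S) {w : W}
    (hw : w ∉ Subgroup.closure (A.S \ {w₀ * t * w₀})) {g : G} (hg : g ∈ cell A w) :
    ∃ u ∈ A.U, ∃ c ∈ A.U, ∃ k ∈ A.H, ∃ b ∈ A.U,
      u * g * u⁻¹ = A.n w₀ * c * (A.n w₀)⁻¹ * k * b ∧ c ∉ rad A t := by
  obtain ⟨z, hz, hgz⟩ :=
    (meets_big hA hw₀ ht (m := w⁻¹) fun h => hw (by simpa using inv_mem h)).exists_right
      (cell_inv A hg)
  have hmt : Meets A w₀ t w₀ := by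
    have := (meets_w₀_self hA hw₀ ht).inv
    rwa [A.S_inv ht, full_inv A hw₀] at this
  obtain ⟨y, hy, hgf⟩ := hmt.exists_right hgz
  have hf : z * y ∈ cell A w₀ := by
    have e : w₀ * t * t = w₀ := by rw [mul_assoc, A.sq_S t ht, mul_one]
    have := cell_mul A (a := w₀ * t) (b := t)
      (by rw [e, ell_S A ht]; have := ell_co hA hw₀ ht; omega) hz hy
    rwa [e] at this
  obtain ⟨u, hu, h, hh, v, hv, ef⟩ := cell_nf A hf
  obtain ⟨u1, hu1, h1, hh1, v1, hv1, ef1⟩ := cell_nf A hgf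
  set n := A.n w₀ with hn
  set a := n⁻¹ * h * n with ha
  set a1 := n⁻¹ * h1 * n with ha1
  have haH : a ∈ A.H := A.n_conj_H' w₀ hh
  have ha1H : a1 ∈ A.H := A.n_conj_H' w₀ hh1
  set c := a * (v * v1⁻¹) * a⁻¹ with hc
  set k := a * a1⁻¹ with hk
  have hcU : c ∈ A.U :=
    A.H_conj_U a haH _ (mul_mem (A.Uw_le _ hv) (inv_mem (A.Uw_le _ hv1)))
  have hkH : k ∈ A.H := mul_mem haH (inv_mem ha1H)
  have eg : g = z * y * (g⁻¹ * z * y)⁻¹ := by group
  rw [ef, ef1] at eg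
  refine ⟨u⁻¹, inv_mem hu, c, hcU, n * k * n⁻¹, A.n_conj_H w₀ k hkH, u1⁻¹ * u,
    mul_mem (inv_mem hu1) hu, ?_, ?_⟩
  · rw [eg]; simp only [hc, hk, ha, ha1]; group
  intro hmem
  set x := a * v * y⁻¹ with hx
  have hzx : z = u * n * x := by
    rw [eq_mul_inv_iff_mul_eq.2 ef]; simp only [hx, ha]; group
  have hxt : x ∈ cell A t := by
    have := cell_inv A hy
    rw [A.S_inv ht] at this
    exact cell_left A (mul_mem (A.H_le_B haH) (A.U_le_B (A.Uw_le _ hv))) this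
  have hnx : n * x ∈ cell A (w₀ * t) := by
    have := cell_left A (A.U_le_B (inv_mem hu)) hz
    rwa [hzx, show u⁻¹ * (u * n * x) = n * x by group] at this
  have h2 := cell_twist hA hw₀ ht hxt (inv_mem hkH) (inv_mem hmem) hnx
  have h3 : u1 * (n * (k⁻¹ * c⁻¹ * x)) = g⁻¹ * z := by
    rw [eq_mul_inv_iff_mul_eq.2 ef1]; simp only [hx, hc, hk, ha, ha1]; group
  refine S_ne_one A ht (mul_eq_left.1 (cell_inj A (g := g⁻¹ * z) ?_ hgz))
  rw [← h3]
  exact cell_left A (A.U_le_B hu1) h2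

/-- An element outside `B` is conjugate under `U` to an element of `U⁻ H U` having a nontrivial
fundamental component. -/
theorem exists_start {g : G} (hg : g ∉ A.B) :
    ∃ t ∈ A.S, ∃ u ∈ A.U, ∃ c ∈ A.U, ∃ k ∈ A.H, ∃ b ∈ A.U,
      u * g * u⁻¹ = A.n w₀ * c * (A.n w₀)⁻¹ * k * b ∧ c ∉ rad A t := by
  obtain ⟨w, hw⟩ := exists_cell A g
  have hne : w ≠ 1 := fun h => hg (mem_cell_one (h ▸ hw))
  obtain ⟨r, hr, hrw⟩ := exists_not_mem_closure hA hw₀ hne
  refine ⟨w₀ * r * w₀, sigma_mem hA hw₀ hr, exists_gauss hA hw₀ (sigma_mem hA hw₀ hr) (w := w) ?_ hw⟩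
  have e : w₀ * (w₀ * r * w₀) * w₀ = r := by
    simp only [← mul_assoc, sq_w₀ hA hw₀, one_mul]
    rw [mul_assoc, sq_w₀ hA hw₀, mul_one]
  rwa [e]

end Cfsg.Agent.H14.ThompsonSplit
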