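import Cfsg.Agent.H14.ThompsonSplit.TwLevi
import Cfsg.Agent.H13.Split.GL

/-!
Common facts about the fixed groups of twists with trivial field automorphism.
-/

set_option autoImplicit false
set_option linter.unusedSectionVars false

namespace Cfsg.Agent.H14.ThompsonSplit

open Matrix Cfsg.Agent.Linear Cfsg.Agent.H54 Cfsg.Agent.H52.TwistedBruhat Cfsg.Agent.H83.Classical
open Cfsg.Agent.H37 (Tits.Ambient)
open scoped MatrixGroups

variable {n : ℕ} {F : Type*} [Field F] [Finite F] (T : TwData n F)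

theorem Θ_eq_tau (hσ : T.σ = RingHom.id F) (g : GL (Fin n) F) : T.Θ g = tau T.e g := by
  show diagGL T.e * theta T.σ g * (diagGL T.e)⁻¹ = _
  rw [hσ]
  rfl

theorem mem_Grp_iff (hσ : T.σ = RingHom.id F) {g : GL (Fin n) F} : g ∈ T.Grp ↔ tau T.e g = g := by
  show T.Θ g = g ↔ _
  rw [Θ_eq_tau T hσ]

/-- A homomorphism with fixed values, into the fixed group. -/
noncomputable def twHom (hσ : T.σ = RingHom.id F) {H : Type*} [Group H] (f : H →* GL (Fin n) F)
    (h : ∀ a, tau T.e (f a) = f a) : H →* ↥T.Grp :=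
  f.codRestrict T.Grp fun a => (mem_Grp_iff T hσ).2 (h a)

theorem system_n_coe (w : ↥(TwData.symPerm n)) :
    (T.system.n w : GL (Fin n) F) = diagGL (T.f w.1) * permGL F w.1 := rfl

theorem system_H_iff (g : ↥T.Grp) : g ∈ T.system.H ↔ (g : GL (Fin n) F) ∈ torus n F := Iff.rfl

theorem system_U_iff (g : ↥T.Grp) : g ∈ T.system.U ↔ (g : GL (Fin n) F) ∈ unitriGL n F := Iff.rfl

theorem mem_system_Uw (w : ↥(TwData.symPerm n)) (g : ↥T.Grp) :
    g ∈ T.system.Uw w ↔ (g : GL (Fin n) F) ∈ outPart (w.1)⁻¹ := Iff.rfl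

/-- The longest element. -/
def revW (n : ℕ) : ↥(TwData.symPerm n) := ⟨Fin.revPerm, TwData.rev_mem_symPerm⟩

theorem system_full : T.system.Uw (revW n) = T.system.U := by
  rw [TwData.system_Uw, TwData.system_U, show (revW n).1 = Fin.revPerm from rfl, TwData.outPart_rev]

theorem conj_rev_entry (d : Fin n → Fˣ) (x : GL (Fin n) F) (i j : Fin n) :
    ((diagGL d * permGL F Fin.revPerm * x * (diagGL d * permGL F Fin.revPerm)⁻¹ : GL (Fin n) F) :
      Matrix (Fin n) (Fin n) F) i j =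
      (d i : F) * (x : Matrix (Fin n) (Fin n) F) i.rev j.rev * ((d j)⁻¹ : Fˣ) := by
  rw [show diagGL d * permGL F Fin.revPerm * x * (diagGL d * permGL F Fin.revPerm)⁻¹ =
    diagGL d * ((permGL F Fin.revPerm)⁻¹ * x * permGL F Fin.revPerm) * (diagGL d)⁻¹ by
      rw [perm_rev_inv, _root_.mul_inv_rev, perm_rev_inv]; group, diag_conj_apply, perm_conj_apply]
  rfl

theorem system_lower (x : ↥T.Grp) (hx : x ∈ T.system.U) (i j : Fin n) (h : i < j) :
    (((T.system.n (revW n) * x * (T.system.n (revW n))⁻¹ : ↥T.Grp) : GL (Fin n) F) :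
      Matrix (Fin n) (Fin n) F) i j = 0 := by
  rw [Subgroup.coe_mul, Subgroup.coe_mul, Subgroup.coe_inv, system_n_coe]
  show ((diagGL (T.f Fin.revPerm) * permGL F Fin.revPerm * (x : GL (Fin n) F) *
    (diagGL (T.f Fin.revPerm) * permGL F Fin.revPerm)⁻¹ : GL (Fin n) F) : Matrix (Fin n) (Fin n) F) i j = 0
  rw [conj_rev_entry, mem_upper.1 (mem_unitri.1 ((system_U_iff T x).1 hx)).1 _ _ (Fin.rev_lt_rev.2 h)]
  simp

/-- The representative of a fundamental reflection differs from a monomial element of its rank one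
group by a torus element. -/
theorem system_rep {w : ↥(TwData.symPerm n)} (x : ↥T.Grp) (d : Fin n → Fˣ)
    (h : (x : GL (Fin n) F) = diagGL d * permGL F w.1) :
    ∃ k ∈ T.system.H, T.system.n w = k * x := by
  refine ⟨T.system.n w * x⁻¹, ?_, by rw [inv_mul_cancel_right]⟩
  show ((T.system.n w * x⁻¹ : ↥T.Grp) : GL (Fin n) F) ∈ torus n F
  rw [Subgroup.coe_mul, Subgroup.coe_inv, system_n_coe, h, _root_.mul_inv_rev, mul_assoc,
    ← mul_assoc (permGL F w.1), mul_inv_cancel, one_mul]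
  exact mul_mem (diag_mem_torus _) (inv_mem (diag_mem_torus _))

/-- The character of the torus of the fixed group given by two diagonal entries. -/
noncomputable def twChi (a b : Fin n) : ↥T.system.H →* Fˣ :=
  ((entryHom a : ↥(torus n F) →* Fˣ) / entryHom b).comp
    { toFun := fun g => ⟨(g.1 : GL (Fin n) F), (system_H_iff T g.1).1 g.2⟩
      map_one' := rfl
      map_mul' := fun _ _ => rfl }

theorem twChi_diag (a b : Fin n) (d : Fin n → Fˣ) (g : ↥T.Grp) (hg : g ∈ T.system.H)
    (h : (g : GL (Fin n) F) = diagGL d) : twChi T a b ⟨g, hg⟩ = d a / d b := by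
  obtain ⟨g, hgG⟩ := g
  subst h
  show entryHom a (⟨diagGL d, _⟩ : ↥(torus n F)) / entryHom b ⟨diagGL d, _⟩ = _
  exact congrArg₂ (· / ·) (entryHom_diag d _ _) (entryHom_diag d _ _)

theorem system_H_comm : ∀ a ∈ T.system.H, ∀ b ∈ T.system.H, a * b = b * a := fun _ ha _ hb =>
  Subtype.ext (torus_comm _ ((system_H_iff T _).1 ha) _ ((system_H_iff T _).1 hb))

theorem halfVec_mem_Grp (hσ : T.σ = RingHom.id F) {m : ℕ} (hm : 2 * m ≤ n) (f : Fin m → Fˣ) :
    diagGL (halfVec m f) ∈ T.Grp :=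
  (mem_Grp_iff T hσ).2 (diag_fixed T.e (halfVec_sym hm f))

/-- The exponent of the coroot `j` at the place `x` among `2 m` symmetric places. -/
def symExp (m j x : ℕ) : ℤ :=
  if x < m then (if x = j then 1 else if x = j + 1 then -1 else 0)
  else if x < 2 * m then -(if 2 * m - 1 - x = j then 1 else if 2 * m - 1 - x = j + 1 then -1 else 0)
  else 0

end Cfsg.Agent.H14.ThompsonSplit
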