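import Cfsg.Agent.H14.ThompsonSplit.Glue
import Cfsg.Agent.H14.ThompsonSplit.Pair

/-!
The Levi subgroup of the first coordinates in a group fixed by the twist of an antidiagonal form.
-/

set_option autoImplicit false
set_option linter.unusedSectionVars false

namespace Cfsg.Agent.H14.ThompsonSplit

open Matrix Cfsg.Agent.Linear Cfsg.Agent.H54 Cfsg.Agent.H52.TwistedBruhat Cfsg.Agent.H83.Classical
open Cfsg.Agent.H13.Split
open Cfsg.Agent.H37 (Tits.Ambient)
open scoped MatrixGroups

variable {n k : ℕ} {F : Type*} [Field F]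

/-- The first coordinates. -/
def evFirst (hk : 2 * k ≤ n) : Fin k ↪ Fin n := Fin.castLEEmb (by omega)

theorem evFirst_val (hk : 2 * k ≤ n) (a : Fin k) : (evFirst hk a : ℕ) = a := rfl

theorem mem_range_evFirst (hk : 2 * k ≤ n) {x : Fin n} : x ∈ Set.range (evFirst hk) ↔ (x : ℕ) < k := by
  constructor
  · rintro ⟨a, rfl⟩; exact a.isLt
  · exact fun h => ⟨⟨x, h⟩, Fin.ext rfl⟩

theorem half_evFirst (hk : 2 * k ≤ n) : Half (evFirst hk : Fin k ↪ Fin n) := fun a b h => by
  have h' := congrArg Fin.val h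
  rw [Fin.val_rev, evFirst_val, evFirst_val] at h'
  omega

theorem mem_range_revFirst (hk : 2 * k ≤ n) {x : Fin n} :
    x ∈ Set.range (revEmb (evFirst hk)) ↔ (x.rev : ℕ) < k := by
  constructor
  · rintro ⟨a, rfl⟩
    rw [revEmb_apply, Fin.rev_rev]
    exact a.isLt
  · exact fun h => ⟨⟨x.rev, h⟩, by rw [revEmb_apply]; exact Fin.rev_rev x⟩

/-- A partition into levels with the first and last `k` coordinates as outer levels. -/
structure LevShape (n k : ℕ) where
  lv : Fin n → ℕ
  T : ℕ
  first : ∀ x : Fin n, (x : ℕ) < k → lv x = 0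
  last : ∀ x : Fin n, (x.rev : ℕ) < k → lv x = T
  inner : ∀ x : Fin n, ¬ (x : ℕ) < k → ¬ (x.rev : ℕ) < k → 0 < lv x ∧ lv x < T
  T_pos : 0 < T
  mono : ∀ x y : Fin n, x ≤ y → lv x ≤ lv y

namespace LevShape

variable (S : LevShape n k)

theorem le_T (x : Fin n) : S.lv x ≤ S.T := by
  by_cases h : (x : ℕ) < k
  · rw [S.first x h]; exact Nat.zero_le _
  · by_cases h' : (x.rev : ℕ) < k
    · rw [S.last x h']
    · exact (S.inner x h h').2.le

/-- The opposite levels. -/
def opp (x : Fin n) : ℕ := S.T - S.lv x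

theorem opp_eq_iff {x y : Fin n} : S.opp x = S.opp y ↔ S.lv x = S.lv y := by
  have := S.le_T x
  have := S.le_T y
  simp only [opp]
  omega

end LevShape

variable (ef : Fin n → Fˣ) {hk : 2 * k ≤ n}

/-- A fixed matrix triangular along the levels has the diagonal blocks of a double. -/
theorem exists_first_block [Finite F] (S : LevShape n k) {g : GL (Fin n) F} (hfix : tau ef g = g)
    (l : Fin n → ℕ) (hl : ∀ x y, l x = l y ↔ S.lv x = S.lv y) (hg : IsTri l g)
    (hdiag : ∀ i, (g : Matrix (Fin n) (Fin n) F) i i = 1)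
    (htri : (∀ i j : Fin n, j < i → (g : Matrix (Fin n) (Fin n) F) i j = 0) ∨
      (∀ i j : Fin n, i < j → (g : Matrix (Fin n) (Fin n) F) i j = 0))
    (hmid : ∀ i j : Fin n, ¬ (i : ℕ) < k → ¬ (i.rev : ℕ) < k → S.lv i = S.lv j →
      (g : Matrix (Fin n) (Fin n) F) i j = if i = j then 1 else 0) :
    ∃ L : SpecialLinearGroup (Fin k) F,
      (∀ a b, (L : Matrix (Fin k) (Fin k) F) a b =
        (g : Matrix (Fin n) (Fin n) F) (evFirst hk a) (evFirst hk b)) ∧
      ∀ i j, l i = l j → (g : Matrix (Fin n) (Fin n) F) i j =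
        (dblGL ef (half_evFirst hk) L : Matrix (Fin n) (Fin n) F) i j := by
  set e := evFirst (n := n) hk
  have hdet : ((g : Matrix (Fin n) (Fin n) F).submatrix e e).det = 1 := by
    rcases htri with h | h
    · rw [Matrix.det_of_isUpperTriangular]
      · exact Finset.prod_eq_one fun a _ => hdiag _
      · intro a b hab
        exact h _ _ (Fin.lt_def.2 (show (b : ℕ) < a from hab))
    · rw [Matrix.det_of_isLowerTriangular]
      · exact Finset.prod_eq_one fun a _ => hdiag _
      · intro a b hab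
        exact h _ _ (Fin.lt_def.2 (show (a : ℕ) < b from hab))
  let L : SpecialLinearGroup (Fin k) F := ⟨_, hdet⟩
  have hlt : ∀ x y : Fin n, l x = l y → ((x : ℕ) < k ↔ (y : ℕ) < k) ∧
      ((x.rev : ℕ) < k ↔ (y.rev : ℕ) < k) := by
    intro x y h
    rw [hl] at h
    have key : ∀ x : Fin n, ((x : ℕ) < k ↔ S.lv x = 0) ∧ ((x.rev : ℕ) < k ↔ S.lv x = S.T) := by
      intro x
      have := S.T_pos
      by_cases h1 : (x : ℕ) < k
      · have := S.first x h1
        refine ⟨by simp [h1, this], ⟨fun h2 => ?_, fun h2 => by omega⟩⟩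
        exact S.last x h2
      · by_cases h2 : (x.rev : ℕ) < k
        · have := S.last x h2
          exact ⟨⟨fun h => absurd h h1, fun h => by omega⟩, fun _ => this, fun _ => h2⟩
        · have := S.inner x h1 h2
          exact ⟨⟨fun h => absurd h h1, fun h => by omega⟩, ⟨fun h => absurd h h2, fun h => by omega⟩⟩
    rw [(key x).1, (key y).1, (key x).2, (key y).2, h]
    exact ⟨Iff.rfl, Iff.rfl⟩
  -- the first block of the inverse
  have hinv : ∀ a b : Fin k, ((g⁻¹ : GL (Fin n) F) : Matrix (Fin n) (Fin n) F) (e a) (e b) =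
      ((L⁻¹ : SpecialLinearGroup (Fin k) F) : Matrix (Fin k) (Fin k) F) a b := by
    let N : Matrix (Fin k) (Fin k) F := ((g⁻¹ : GL (Fin n) F) : Matrix (Fin n) (Fin n) F).submatrix e e
    have hNL : N * (L : Matrix (Fin k) (Fin k) F) = 1 := by
      ext a b
      have hll : l (e a) = l (e b) := (hl _ _).2 ((S.first _ a.isLt).trans (S.first _ b.isLt).symm)
      have hs := sum_blk_inv l hg hll
      have hfil : (Finset.univ.filter fun x => l x = l (e a)) = Finset.univ.map e := by
        ext x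
        simp only [Finset.mem_filter, Finset.mem_univ, true_and, Finset.mem_map]
        constructor
        · intro hx
          exact ⟨⟨x, (hlt x (e a) hx).1.2 a.isLt⟩, Fin.ext rfl⟩
        · rintro ⟨c, rfl⟩
          exact (hl _ _).2 ((S.first _ c.isLt).trans (S.first _ a.isLt).symm)
      rw [hfil, Finset.sum_map] at hs
      rw [Matrix.mul_apply, Matrix.one_apply]
      simp only [e.injective.eq_iff] at hs
      exact hs
    have hN : N = ((L⁻¹ : SpecialLinearGroup (Fin k) F) : Matrix (Fin k) (Fin k) F) := by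
      calc N = N * ((L * L⁻¹ : SpecialLinearGroup (Fin k) F) : Matrix (Fin k) (Fin k) F) := by simp
        _ = N * (L : Matrix (Fin k) (Fin k) F) * ((L⁻¹ : SpecialLinearGroup (Fin k) F) : Matrix (Fin k) (Fin k) F) := by
          rw [Matrix.SpecialLinearGroup.coe_mul, mul_assoc]
        _ = _ := by rw [hNL, one_mul]
    intro a b
    exact congrFun (congrFun hN a) b
  refine ⟨L, fun a b => rfl, fun i j hij => ?_⟩
  by_cases h1 : (i : ℕ) < k
  · have h1' := (hlt i j hij).1.1 h1
    have := dblGL_apply ef (half_evFirst hk) L ⟨i, h1⟩ ⟨j, h1'⟩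
    exact this.symm
  by_cases h2 : (i.rev : ℕ) < k
  · have h2' := (hlt i j hij).2.1 h2
    have h3 := dblGL_apply_rev ef (half_evFirst hk) L ⟨i.rev, h2⟩ ⟨j.rev, h2'⟩
    have hi : (evFirst hk ⟨i.rev, h2⟩ : Fin n).rev = i := Fin.rev_rev i
    have hj : (evFirst hk ⟨j.rev, h2'⟩ : Fin n).rev = j := Fin.rev_rev j
    rw [hi, hj] at h3
    rw [h3]
    conv_lhs => rw [← hfix, tau_apply]
    exact congrArg (fun z => (ef i : F) * z * ((ef j)⁻¹ : Fˣ)) (hinv ⟨j.rev, h2'⟩ ⟨i.rev, h2⟩)
  · rw [hmid i j h1 h2 ((hl i j).1 hij),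
      dblGL_out ef _ L (fun h => h1 ((mem_range_evFirst hk).1 h))
        (fun h => h2 ((mem_range_revFirst hk).1 h)), Matrix.one_apply]

/-! ### The Levi data -/

variable {W : Type*} [Group W] [Finite F] {Γ : Subgroup (GL (Fin n) F)} {A : Tits.Ambient ↥Γ W} {p : ℕ}
  [Fact p.Prime] {w₀ : W} {ι : Type*} [Fintype ι] [DecidableEq ι]

/-- The diagonal matrices with vector in the coroot torus. -/
def InTorus (P : Pinned A w₀ F ι) (v : Fin n → Fˣ) : Prop :=
  ∃ hv : diagGL v ∈ Γ, (⟨diagGL v, hv⟩ : ↥Γ) ∈ P.H₀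

/-- The facts needed about a group fixed by the twist. -/
structure TwSetup (A : Tits.Ambient ↥Γ W) (w₀ : W) (ef : Fin n → Fˣ) (hk : 2 * k ≤ n) where
  c : Fˣ
  hc : ∀ i, ef i.rev = c * ef i
  fixed : ∀ g : ↥Γ, tau ef (g : GL (Fin n) F) = g
  U_iff : ∀ g : ↥Γ, g ∈ A.U ↔ (g : GL (Fin n) F) ∈ unitriGL n F
  H_iff : ∀ g : ↥Γ, g ∈ A.H ↔ (g : GL (Fin n) F) ∈ torus n F
  nd : Fin n → Fˣ
  π : Equiv.Perm (Fin n)
  n_eq : (A.n w₀ : GL (Fin n) F) = diagGL nd * permGL F π
  mirror : ∀ x : Fin n, (x : ℕ) < k → π x = x.rev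
  lower : ∀ x ∈ A.U, ∀ i j : Fin n, i < j →
    (((A.n w₀ * x * (A.n w₀)⁻¹ : ↥Γ) : GL (Fin n) F) : Matrix (Fin n) (Fin n) F) i j = 0
  ψ_mem : ∀ M : SpecialLinearGroup (Fin k) F, dblGL ef (half_evFirst hk) M ∈ Γ

variable {ef}

/-- The double of the first block inside the group. -/
noncomputable def TwSetup.ψ (X : TwSetup A w₀ ef hk) : SpecialLinearGroup (Fin k) F →* ↥Γ :=
  (dblGL ef (half_evFirst hk)).codRestrict Γ X.ψ_mem

theorem TwSetup.ψ_coe (X : TwSetup A w₀ ef hk) (M : SpecialLinearGroup (Fin k) F) :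
    (X.ψ M : GL (Fin n) F) = dblGL ef (half_evFirst hk) M := rfl

theorem TwSetup.n_conj (X : TwSetup A w₀ ef hk) (M : SpecialLinearGroup (Fin k) F) :
    A.n w₀ * X.ψ M * (A.n w₀)⁻¹ = X.ψ (twSL (fun a => ef (evFirst hk a))
      (dconjSL (fun a => X.nd (evFirst hk a).rev) M)) := by
  refine Subtype.ext ?_
  rw [Subgroup.coe_mul, Subgroup.coe_mul, Subgroup.coe_inv, X.n_eq, X.ψ_coe, X.ψ_coe]
  exact mirror_dblGL ef (half_evFirst hk) X.hc X.nd X.π (fun a => X.mirror _ a.isLt)
    (by rw [← X.n_eq]; exact X.fixed _) M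

theorem TwSetup.ψ_mem_E (X : TwSetup A w₀ ef hk) (P : Pinned A w₀ F ι)
    (M : SpecialLinearGroup (Fin k) F) : X.ψ M ∈ P.E := by
  have hup : ∀ M : SpecialLinearGroup (Fin k) F,
      (∀ a b : Fin k, b < a → (M : Matrix (Fin k) (Fin k) F) a b = 0) →
      (∀ a, (M : Matrix (Fin k) (Fin k) F) a a = 1) → X.ψ M ∈ P.E := by
    intro M hM hM1
    refine P.U_le ((X.U_iff _).2 ?_)
    rw [X.ψ_coe]
    have hE : embGL (evFirst (n := n) hk) M ∈ unitriGL n F := by
      refine mem_unitri.2 ⟨mem_upper.2 fun i j hij => ?_, fun i => ?_⟩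
      · by_cases hi : i ∈ Set.range (evFirst (n := n) hk)
        · by_cases hj : j ∈ Set.range (evFirst (n := n) hk)
          · obtain ⟨a, rfl⟩ := hi
            obtain ⟨b, rfl⟩ := hj
            rw [embGL_apply]
            exact hM a b (show (b : ℕ) < a from hij)
          · rw [embGL_right _ M hj, Matrix.one_apply_ne hij.ne']
        · rw [embGL_left _ M hi, Matrix.one_apply_ne hij.ne']
      · by_cases hi : i ∈ Set.range (evFirst (n := n) hk)
        · obtain ⟨a, rfl⟩ := hi
          rw [embGL_apply, hM1]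
        · rw [embGL_left _ M hi, Matrix.one_apply_eq]
    exact mul_mem hE (torus_conj_unitri (diag_mem_torus _) (theta_unitri _ hE))
  induction M using Cfsg.Agent.Linear.transvection_induction with
  | one => rw [map_one]; exact one_mem _
  | htr a b hab t =>
    rcases lt_or_gt_of_ne hab with h | h
    · refine hup _ (fun x y hxy => ?_) (fun x => ?_)
      · rw [Matrix.SpecialLinearGroup.transvection_coe, Matrix.add_apply, Matrix.one_apply_ne hxy.ne',
          Matrix.single_apply, if_neg (fun e => absurd hxy (by rw [← e.1, ← e.2]; exact h.asymm)), add_zero]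
      · rw [Matrix.SpecialLinearGroup.transvection_coe, Matrix.add_apply, Matrix.one_apply_eq,
          Matrix.single_apply, if_neg (fun e => h.ne (e.1.trans e.2.symm)), add_zero]
    · set M := Matrix.SpecialLinearGroup.transvection hab t
      have hM : A.n w₀ * X.ψ M * (A.n w₀)⁻¹ ∈ P.E := by
        rw [X.n_conj]
        refine hup _ (fun x y hxy => ?_) (fun x => ?_)
        · rw [twSL_apply]
          have : dconjSL (fun a => X.nd (evFirst hk a).rev) M⁻¹ =
              (dconjSL (fun a => X.nd (evFirst hk a).rev) M)⁻¹ := by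
            refine eq_inv_of_mul_eq_one_left (Subtype.ext ?_)
            show ((_ * _ * _ : GL (Fin k) F) : Matrix (Fin k) (Fin k) F) *
              ((_ * _ * _ : GL (Fin k) F) : Matrix (Fin k) (Fin k) F) = 1
            rw [← Units.val_mul, map_inv]
            simp [mul_assoc]
          rw [← this, dconjSL_apply, Matrix.SpecialLinearGroup.transvection_inv,
            Matrix.SpecialLinearGroup.transvection_coe, Matrix.add_apply, Matrix.one_apply_ne hxy.ne,
            Matrix.single_apply, if_neg (fun e => absurd hxy (by rw [← e.1, ← e.2]; exact h.asymm))]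
          simp
        · rw [twSL_apply]
          have : dconjSL (fun a => X.nd (evFirst hk a).rev) M⁻¹ =
              (dconjSL (fun a => X.nd (evFirst hk a).rev) M)⁻¹ := by
            refine eq_inv_of_mul_eq_one_left (Subtype.ext ?_)
            show ((_ * _ * _ : GL (Fin k) F) : Matrix (Fin k) (Fin k) F) *
              ((_ * _ * _ : GL (Fin k) F) : Matrix (Fin k) (Fin k) F) = 1
            rw [← Units.val_mul, map_inv]
            simp [mul_assoc]
          rw [← this, dconjSL_apply, Matrix.SpecialLinearGroup.transvection_inv,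
            Matrix.SpecialLinearGroup.transvection_coe, Matrix.add_apply, Matrix.one_apply_eq,
            Matrix.single_apply, if_neg (fun e => hab (e.1.trans e.2.symm))]
          simp
      have := P.E_normal.conj_mem _ hM (A.n w₀)⁻¹
      simpa [mul_assoc] using this
  | hmul u v hu hv => rw [map_mul]; exact mul_mem hu hv

/-- The Levi subgroup of the first block. -/
noncomputable def twLevi (hA : Hyp A p) (hw₀ : A.Uw w₀ = A.U) (P : Pinned A w₀ F ι)
    (gen : ∀ g ∈ A.H ⊓ P.E, g ∈ P.H₀) (X : TwSetup A w₀ ef hk) (S : LevShape n k) (d : Fin n → Fˣ)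
    (hsep : ∀ i j, S.lv i ≠ S.lv j → d i ≠ d j)
    (hconst : ∀ i j : Fin n, (i : ℕ) < k → (j : ℕ) < k → d i = d j)
    (hd : InTorus P d) (hπd : ∀ x, d (X.π⁻¹ x) = (d x)⁻¹)
    (ht : ∀ δ : Fˣ, ∃ t, InTorus P t ∧
      ∀ x : Fin n, (x : ℕ) < k → t x = if (x : ℕ) = 0 then δ else 1)
    (hmid : ∀ g : ↥Γ, ((g : GL (Fin n) F) ∈ unitriGL n F ∨
        (A.n w₀)⁻¹ * g * A.n w₀ ∈ A.U) → ∀ i j : Fin n, ¬ (i : ℕ) < k → ¬ (i.rev : ℕ) < k →
      S.lv i = S.lv j → ((g : GL (Fin n) F) : Matrix (Fin n) (Fin n) F) i j = if i = j then 1 else 0) :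
    Levi (P.frame hA hw₀ gen) Unit (fun _ => k) := by
  have hsep' : ∀ i j, S.opp i ≠ S.opp j → d i ≠ d j := fun i j h =>
    hsep i j fun e => h (S.opp_eq_iff.2 e)
  have hdf : tau ef (diagGL d) = diagGL d := X.fixed ⟨_, hd.1⟩
  have hcomm : ∀ M, Commute (diagGL d) (dblGL ef (half_evFirst hk) M) := fun M =>
    diag_commute_dblGL ef _ hdf (fun a b => hconst _ _ a.isLt b.isLt) M
  exact {
    h := ⟨diagGL d, hd.1⟩
    h_mem := ⟨(X.H_iff _).2 (diag_mem_torus d), (P.H₀_le hd.2).2⟩
    ψ := X.ψ.comp (Pi.evalMonoidHom (fun _ : Unit => SpecialLinearGroup (Fin k) F) ())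
    ψ_mem := fun M => X.ψ_mem_E P (M ())
    comm := fun M => Subtype.ext (hcomm (M ()))
    Q := (blockUni S.lv).subgroupOf Γ
    V := (blockUni S.opp).subgroupOf Γ
    nQ := fun M q hq => conj_uni hsep (hcomm (M ())) hq
    hQ := fun q hq => conj_uni hsep (Commute.refl _) hq
    fQ := fun q hq h => Subtype.ext (eq_one_of_fixed hsep hq (congrArg Subtype.val h))
    nV := fun M q hq => conj_uni hsep' (hcomm (M ())) hq
    hV := fun q hq => conj_uni hsep' (Commute.refl _) hq
    fV := fun q hq h => Subtype.ext (eq_one_of_fixed hsep' hq (congrArg Subtype.val h))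
    decU := fun x hx => by
      have hxu := (X.U_iff x).1 hx
      have hu := mem_upper.1 (mem_unitri.1 hxu).1
      have hS : IsTri S.lv (x : GL (Fin n) F) := fun i j h =>
        hu i j (lt_of_not_ge fun e => absurd (S.mono i j e) (by omega))
      obtain ⟨L, hL, hblk⟩ := exists_first_block ef S (hk := hk) (X.fixed x) S.lv (fun _ _ => Iff.rfl) hS
        (mem_unitri.1 hxu).2 (Or.inl hu) (hmid x (Or.inl hxu))
      refine ⟨fun _ => L, fun _ a b hab => ?_, (X.ψ L)⁻¹ * x, ?_, ?_⟩
      · show (L : Matrix (Fin k) (Fin k) F) a b = _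
        rw [hL]
        rcases eq_or_ne a b with rfl | hne
        · rw [if_pos rfl, (mem_unitri.1 hxu).2]
        · rw [if_neg hne, hu _ _ (show evFirst hk b < evFirst hk a from lt_of_le_of_ne hab ((evFirst hk).injective.ne hne.symm))]
      · show ((X.ψ L)⁻¹ * x : ↥Γ).1 ∈ blockUni S.lv
        rw [Subgroup.coe_mul, Subgroup.coe_inv, X.ψ_coe]
        exact (uni_of_blocks hsep (hcomm L) hS hblk).1
      · show x = X.ψ L * ((X.ψ L)⁻¹ * x)
        group
    decV := fun x hx => by
      set g := A.n w₀ * x * (A.n w₀)⁻¹ with hg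
      have hlow := X.lower x hx
      have hdiag : ∀ i, ((g : GL (Fin n) F) : Matrix (Fin n) (Fin n) F) i i = 1 := fun i => by
        rw [hg, Subgroup.coe_mul, Subgroup.coe_mul, Subgroup.coe_inv, X.n_eq,
          show diagGL X.nd * permGL F X.π * (x : GL (Fin n) F) * (diagGL X.nd * permGL F X.π)⁻¹ =
            diagGL X.nd * ((permGL F X.π⁻¹)⁻¹ * (x : GL (Fin n) F) * permGL F X.π⁻¹) * (diagGL X.nd)⁻¹ by
              rw [← permGL_inv, inv_inv]; group,
          diag_conj_apply, perm_conj_apply, (mem_unitri.1 ((X.U_iff x).1 hx)).2]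
        simp
      have hS : IsTri S.opp (g : GL (Fin n) F) := fun i j h =>
        hlow i j (lt_of_not_ge fun e => absurd (S.mono j i e) (by
          have := S.le_T i
          have := S.le_T j
          simp only [LevShape.opp] at h
          omega))
      obtain ⟨L, hL, hblk⟩ := exists_first_block ef S (hk := hk) (X.fixed g) S.opp
        (fun _ _ => S.opp_eq_iff) hS hdiag (Or.inr hlow) (hmid g (Or.inr (by rw [hg]; simpa [mul_assoc] using hx)))
      refine ⟨fun _ => L, fun _ a b hab => ?_, g * (X.ψ L)⁻¹, ?_, ?_⟩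
      · show (L : Matrix (Fin k) (Fin k) F) a b = _
        rw [hL]
        rcases eq_or_ne a b with rfl | hne
        · rw [if_pos rfl, hdiag]
        · rw [if_neg hne, hlow _ _ (show evFirst hk a < evFirst hk b from lt_of_le_of_ne hab ((evFirst hk).injective.ne hne))]
      · show (g * (X.ψ L)⁻¹ : ↥Γ).1 ∈ blockUni S.opp
        rw [Subgroup.coe_mul, Subgroup.coe_inv, X.ψ_coe]
        exact (uni_of_blocks hsep' (hcomm L) hS hblk).2
      · show g = g * (X.ψ L)⁻¹ * X.ψ L
        group
    conjJ := fun Y hY => by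
      rcases Nat.eq_zero_or_pos k with hk0 | hk0
      · subst hk0
        have hJ : (fun _ : Unit => jordanSL F 0) = Y :=
          funext fun b => Subtype.ext (Matrix.ext fun i => i.elim0)
        exact ⟨1, one_mem _, by group, by rw [hJ]; group⟩
      obtain ⟨δ, R, hR⟩ := exists_jordan_conj ⟨0, hk0⟩ (hY ())
      obtain ⟨t, htT, htv⟩ := ht δ
      refine ⟨X.ψ R * ⟨diagGL t, htT.1⟩, mul_mem (X.ψ_mem_E P R) (P.H₀_le htT.2).2, ?_, ?_⟩
      · refine mul_inv_eq_iff_eq_mul.2 (Subtype.ext ?_)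
        show dblGL ef (half_evFirst hk) R * diagGL t * diagGL d = diagGL d * (dblGL ef (half_evFirst hk) R * diagGL t)
        exact ((hcomm R).mul_right (diag_comm d t)).eq.symm
      · refine Subtype.ext ?_
        show dblGL ef (half_evFirst hk) R * diagGL t * dblGL ef (half_evFirst hk) (jordanSL F k) *
          (dblGL ef (half_evFirst hk) R * diagGL t)⁻¹ = dblGL ef (half_evFirst hk) (Y ())
        rw [show dblGL ef (half_evFirst hk) R * diagGL t * dblGL ef (half_evFirst hk) (jordanSL F k) *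
            (dblGL ef (half_evFirst hk) R * diagGL t)⁻¹ = dblGL ef (half_evFirst hk) R *
              (diagGL t * dblGL ef (half_evFirst hk) (jordanSL F k) * (diagGL t)⁻¹) *
              (dblGL ef (half_evFirst hk) R)⁻¹ by group,
          diag_conj_dblGL ef (half_evFirst hk) (X.fixed ⟨_, htT.1⟩) (M' := dconjSL (Function.update 1 ⟨0, hk0⟩ δ) (jordanSL F k)),
          ← map_inv, ← map_mul, ← map_mul, hR]
        intro a b
        rw [dconjSL_apply]
        have e : ∀ a : Fin k, t (evFirst hk a) = Function.update (1 : Fin k → Fˣ) ⟨0, hk0⟩ δ a := fun a => by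
          rw [htv _ a.isLt, Function.update_apply, evFirst_val]
          simp [Fin.ext_iff]
        rw [e, e]
    conjH := fun g hg Y hY => by
      obtain ⟨v, hv⟩ := exists_of_mem_torus ((X.H_iff g).1 hg)
      refine ⟨fun b => dconjSL (fun a => v (evFirst hk a)) (Y b), fun b => isJordan_dconj _ (hY b),
        Subtype.ext ?_⟩
      show (g : GL (Fin n) F) * dblGL ef (half_evFirst hk) (Y ()) * (g : GL (Fin n) F)⁻¹ = _
      rw [hv]
      exact diag_conj_dblGL ef (half_evFirst hk) (by rw [← hv]; exact X.fixed g) fun a b => dconjSL_apply _ _ a b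
    real := by
      obtain ⟨g, hg, x, hx, e⟩ := P.exists_H_mul_E (A.n w₀)
      refine ⟨A.n w₀, g⁻¹, inv_mem hg, ?_, Subtype.ext ?_,
        fun _ => twSL (fun a => ef (evFirst hk a)) (dconjSL (fun a => X.nd (evFirst hk a).rev) (jordanSL F k)),
        fun _ => isJordan_tw _ (isJordan_dconj _ isJordan_jordanSL), ?_⟩
      · rw [e, inv_mul_cancel_left]; exact hx
      · show (A.n w₀ : GL (Fin n) F) * diagGL d * (A.n w₀ : GL (Fin n) F)⁻¹ = (diagGL d)⁻¹
        rw [X.n_eq, show diagGL X.nd * permGL F X.π * diagGL d * (diagGL X.nd * permGL F X.π)⁻¹ =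
          diagGL X.nd * (permGL F X.π * diagGL d * (permGL F X.π)⁻¹) * (diagGL X.nd)⁻¹ by group,
          perm_conj_diag, (diag_comm X.nd _).eq, mul_inv_cancel_right, diagGL_inv]
        congr 1
        funext y
        exact hπd y
      · exact X.n_conj (jordanSL F k) }

end Cfsg.Agent.H14.ThompsonSplit
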